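import Cfsg.Agent.StdSz.Tower.Final
import Cfsg.Agent.StdSz.EndTower

/-!
# From the last level of the tower to `TowerEnd`
-/

set_option autoImplicit false
set_option linter.unusedSectionVars false
set_option linter.dupNamespace false

namespace Cfsg.Agent.StdSz.Tower

open Subgroup Cfsg.Agent.StdSz.FormAlg Cfsg.Agent.StdSz.Env

variable {G : Type*} [Group G] {F : Type*} [Field F] [Fintype F] [CharP F 2] {m : ℕ}

namespace Lv

variable {E : Env G F m} {k : ℕ} {δ μ : F} (L : Lv E k δ μ)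

/-- the elements of `W` of order dividing four. -/
def V : Subgroup G where
  carrier := {w | w ∈ L.W ∧ (w * w) * (w * w) = 1}
  mul_mem' := by
    rintro x y ⟨hx, h1⟩ ⟨hy, h2⟩
    refine ⟨mul_mem hx hy, ?_⟩
    rw [L.ab.mul_mul_mul hx hy, L.ab.mul_mul_mul (mul_mem hx hx) (mul_mem hy hy), h1, h2, mul_one]
  one_mem' := ⟨one_mem _, by simp⟩
  inv_mem' := by
    rintro x ⟨hx, h1⟩
    refine ⟨inv_mem hx, ?_⟩
    have : x⁻¹ * x⁻¹ * (x⁻¹ * x⁻¹) = ((x * x) * (x * x))⁻¹ := by group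
    rw [this, h1, inv_one]

theorem pow_four_eq {w : G} (h : (w * w) * (w * w) = 1) : w ^ 4 = 1 := by
  have : w ^ 4 = (w * w) * (w * w) := by simp only [pow_succ, pow_zero, one_mul, mul_assoc]
  rw [this, h]

theorem mem_V {w : G} : w ∈ L.V ↔ w ∈ L.W ∧ (w * w) * (w * w) = 1 := Iff.rfl

theorem V_le : L.V ≤ L.W := fun _ h => h.1

theorem relIndex_U : L.U.relIndex L.S = 2 := by
  rw [Subgroup.relIndex, Subgroup.index_eq_two_iff]
  refine ⟨⟨E.t, L.good.t_mem_S⟩, fun b => ?_⟩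
  rw [mem_subgroupOf, mem_subgroupOf]
  show Xor ((b : G) * E.t ∈ L.U) ((b : G) ∈ L.U)
  by_cases h : (b : G) ∈ L.U
  · refine Or.inr ⟨h, fun h1 => L.good.t_not_mem_U ?_⟩
    have := mul_mem (inv_mem h) h1
    rwa [inv_mul_cancel_left] at this
  · exact Or.inl ⟨(L.mem_S.mp b.2).resolve_left h, h⟩

/-- `W` has no fixed points under the torus. -/
theorem eq_one_of_fixed {g : G} {l : Fˣ} (hl : l ≠ 1) (hg : Acts m E.p g l) {w : G} (hw : w ∈ L.W)
    (h : g * w * g⁻¹ = w) : w = 1 := by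
  by_contra hne
  -- an involution of `⟨w⟩`
  have hex : ∃ j, w ^ 2 ^ j = 1 := ⟨k, L.ab.pow w hw⟩
  classical
  set j := Nat.find hex with hj
  have hj1 : w ^ 2 ^ j = 1 := Nat.find_spec hex
  have hj0 : j ≠ 0 := by
    intro h0
    rw [h0, pow_zero, pow_one] at hj1
    exact hne hj1
  obtain ⟨i, hi⟩ := Nat.exists_eq_succ_of_ne_zero hj0
  have hi1 : w ^ 2 ^ i ≠ 1 := Nat.find_min hex (by rw [← hj, hi]; exact Nat.lt_succ_self i)
  obtain ⟨b, hb⟩ := L.ab.inv (w ^ 2 ^ i) (pow_mem hw _) (by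
    rw [← pow_two, ← pow_mul, ← pow_succ, ← Nat.succ_eq_add_one, ← hi]; exact hj1)
  have hb0 : b ≠ 0 := by
    rintro rfl
    apply hi1
    rw [hb, E.p_zero]
  have h1 : g * w ^ 2 ^ i * g⁻¹ = w ^ 2 ^ i := by rw [← conj_pow, h]
  rw [hb, hg, mul_zero] at h1
  have h2 : (l : F) ^ (1 + 2 ^ (m + 1)) * b = 1 ^ (1 + 2 ^ (m + 1)) * b := by
    rw [one_pow, one_mul]; exact E.z_inj h1
  have h3 := mul_right_cancel₀ hb0 h2
  exact hl (Units.ext (norm_inj E.hF h3))

variable [Finite G]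

/-- **No conjugate of `t` lies in `U`.** -/
theorem fus (g : G) : g * E.t * g⁻¹ ∉ L.U := by
  intro hU
  obtain ⟨w, hw, v, hv, b, c, hwb, hvc, hb, hc, hbc⟩ := L.exists_pair
  obtain ⟨x, -, hx⟩ := LevelOneEnd.conj_le_of_maximal (A := E.T)
    (C := centralizer ({E.t} : Set G)) (R := L.V.map (MulAut.conj g⁻¹).toMonoidHom)
    (L.good.two_S.to_le L.good.T_le_S)
    (fun y hy => by rw [mem_centralizer_singleton_iff]; exact E.T_comm_t hy)
    (fun X hX hTX hXC y hy => E.T_max X hX (fun a b => hTX (E.p_mem_T a b)) (hTX E.t_mem_T)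
      (fun y hy => by
        have := hXC hy
        rwa [mem_centralizer_singleton_iff] at this) y hy)
    ((L.ab.two.to_le L.V_le).map _)
    (by
      rintro _ ⟨y, hy, rfl⟩
      rw [mem_centralizer_singleton_iff]
      show g⁻¹ * y * g⁻¹⁻¹ * E.t = E.t * (g⁻¹ * y * g⁻¹⁻¹)
      have h3 := L.comm_U hy.1 (pow_four_eq hy.2) hU
      calc g⁻¹ * y * g⁻¹⁻¹ * E.t = g⁻¹ * (y * (g * E.t * g⁻¹)) * g := by group
        _ = g⁻¹ * ((g * E.t * g⁻¹) * y) * g := by rw [h3]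
        _ = E.t * (g⁻¹ * y * g⁻¹⁻¹) := by group)
  have key : ∀ y ∈ L.V, (x * g⁻¹) * y * (x * g⁻¹)⁻¹ ∈ E.T := by
    intro y hy
    have h1 := hx (g⁻¹ * y * g⁻¹⁻¹) ⟨y, hy, rfl⟩
    have h2 : x * (g⁻¹ * y * g⁻¹⁻¹) * x⁻¹ = (x * g⁻¹) * y * (x * g⁻¹)⁻¹ := by group
    rwa [h2] at h1
  set d := x * g⁻¹ with hd
  have hsq : ∀ x y : G, d * x * d⁻¹ * (d * y * d⁻¹) = d * (x * y) * d⁻¹ := by
    intro x y; group
  have hne : ∀ x y : G, d * x * d⁻¹ = d * y * d⁻¹ → x = y := by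
    intro x y hxy
    exact mul_left_cancel (mul_right_cancel hxy)
  have hwV : w ∈ L.V := ⟨hw, by rw [hwb, E.z_self]⟩
  have hvV : v ∈ L.V := ⟨hv, by rw [hvc, E.z_self]⟩
  apply hbc
  apply E.z_inj
  rw [← hwb, ← hvc]
  apply hne
  rw [← hsq, ← hsq]
  apply T_sq_eq E (key w hwV) (key v hvV)
  · rw [hsq, hsq, L.ab.comm w hw v hv]
  · rw [hsq]; intro h
    apply hb
    apply E.z_eq_one
    rw [← hwb]
    apply hne; rw [h]; group
  · rw [hsq]; intro h
    apply hc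
    apply E.z_eq_one
    rw [← hvc]
    apply hne; rw [h]; group

/-- **The end of the tower.** -/
theorem towerEnd (hmax : Maxl L.S) (hfull : Full L) : Nonempty (EndTower.TowerEnd E) := by
  choose h hD hN hW hA using hfull
  have hconj : ∀ l a, ∀ w ∈ L.W, h l * (E.p a 0 * w) * (h l)⁻¹ =
      E.p (l * a) 0 * (h l * w * (h l)⁻¹) := by
    intro l a w _
    have h1 := hA l a 0
    rw [mul_zero] at h1
    rw [← h1]; group
  have hU : ∀ l, ∀ x ∈ L.U, h l * x * (h l)⁻¹ ∈ L.U := by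
    rintro l _ ⟨a, w, hw, rfl⟩
    exact ⟨l * a, _, hW l w hw, hconj l a w hw⟩
  refine ⟨{
    S := ⟨L.S, L.good.two_S, fun hQ hle => hmax _ hQ hle⟩
    M := L.U
    M_le := L.good.U_le_S
    idx := L.relIndex_U
    t_sq := E.t_sq
    t_mem := L.good.t_mem_S
    fus := L.fus
    h := h
    h_M := hU
    h_mul := ?_
    h_free := ?_
    p_mem := L.good.p_mem_U
    h_z := fun l b => by rw [hA l 0 b, mul_zero]
    W := L.W
    W_le := L.good.W_le_U
    V := L.V
    V_le := L.V_le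
    h_V := ?_
    gen := fun x hx => hx
    V_cent := fun v hv x hx => L.comm_U hv.1 (pow_four_eq hv.2) hx
    V_sq := fun b => ?_
    sq_V := fun v hv => L.ab.inv _ (mul_mem hv.1 hv.1) hv.2
    four := fun w hw h => ⟨hw, h⟩
    two := L.ab.inv
    sq_M := fun x hx h => L.ab.inv _ (L.good.sq_U hx) h }⟩
  · -- `h_mul`
    intro l l' x hx
    set y := (h l * h l')⁻¹ * h (l * l') with hy
    have hyD : y ∈ E.D := mul_mem (inv_mem (mul_mem (hD l) (hD l'))) (hD _)
    have hyN : y ∈ normalizer (L.S : Set G) :=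
      mul_mem (inv_mem (mul_mem (hN l) (hN l'))) (hN _)
    have hyp : ∀ a b, y * E.p a b = E.p a b * y := by
      intro a b
      have h1 : h (l * l') * E.p a b * (h (l * l'))⁻¹ =
          (h l * h l') * E.p a b * (h l * h l')⁻¹ := by
        have e : (h l * h l') * E.p a b * (h l * h l')⁻¹ =
          h l * (h l' * E.p a b * (h l')⁻¹) * (h l)⁻¹ := by group
        rw [e, hA, hA, hA, Units.val_mul, mul_pow, mul_assoc, mul_assoc]
      calc y * E.p a b = (h l * h l')⁻¹ * (h (l * l') * E.p a b * (h (l * l'))⁻¹) *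
            h (l * l') := by rw [hy]; group
        _ = _ := by rw [h1, hy]; group
    have hyo : Odd (orderOf y) :=
      Odd.of_dvd_nat E.D_odd (by
        have := orderOf_dvd_natCard (⟨y, hyD⟩ : E.D)
        rwa [Subgroup.orderOf_mk] at this)
    have hyc := E.centralizes_of_le L.good.two_S L.good.T_le_S hyo (E.D_t y hyD) hyp hyN x
      (L.good.U_le_S hx)
    have hh : h (l * l') = h l * h l' * y := by rw [hy]; group
    rw [hh]
    calc h l * h l' * y * x * (h l * h l' * y)⁻¹ = h l * h l' * (y * x) * y⁻¹ *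
          (h l * h l')⁻¹ := by group
      _ = _ := by rw [hyc]; group
  · -- `h_free`
    rintro l hl _ ⟨a, w, hw, rfl⟩ hfix
    rw [hconj l a w hw] at hfix
    obtain ⟨h1, h2⟩ := L.good.U_inj (hW l w hw) hw hfix
    have ha : a = 0 := by
      by_contra ha
      exact hl (Units.ext (mul_right_cancel₀ ha (by rw [h1, Units.val_one, one_mul])))
    rw [ha, E.p_zero, one_mul]
    exact L.eq_one_of_fixed hl (hA l) hw h2
  · rintro l v ⟨hv, hv4⟩
    refine ⟨hW l v hv, ?_⟩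
    have : h l * v * (h l)⁻¹ * (h l * v * (h l)⁻¹) * (h l * v * (h l)⁻¹ * (h l * v * (h l)⁻¹)) =
      h l * ((v * v) * (v * v)) * (h l)⁻¹ := by group
    rw [this, hv4]; group
  · obtain ⟨v, hv, hvb⟩ := L.ab.exists_sq b
    exact ⟨v, ⟨hv, by rw [hvb, E.z_self]⟩, hvb⟩

end Lv

end Cfsg.Agent.StdSz.Tower
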