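import Cfsg.Agent.StdSz.Tower.Final
import Cfsg.Agent.StdSz.ExoticMain

/-!
# The case `q = 8`, `δ = 0`, `μ = 1` of the tower
-/

set_option autoImplicit false
set_option linter.unusedSectionVars false
set_option linter.dupNamespace false

namespace Cfsg.Agent.StdSz.Tower

open Subgroup Cfsg.Agent.StdSz.FormAlg Cfsg.Agent.StdSz.Env Cfsg.Agent.StdSz.ExoticData

variable {G : Type*} [Group G] {F : Type*} [Field F] [Fintype F] [CharP F 2]

/-- the configuration of `ExoticMain` from a level of the tower. -/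
theorem cfg_of_lv {E : Env G F 1} {A : Subgroup G} (H : Std E A) {k : ℕ} (L : Lv E k 0 1)
    (hL : Full L) (hk : 3 ≤ k) : Cfg E A L.W L.S (k - 1) where
  std := H
  hk := by omega
  W_comm := L.ab.comm
  W_p := fun f hf a b => by
    have h := L.W_p f hf a b
    rw [zero_mul, add_zero] at h
    exact mul_inv_eq_iff_eq_mul.mp h
  Z_le := L.ab.z_mem
  W_exp := fun f hf => by
    have : k - 1 + 1 = k := by omega
    rw [this]; exact L.ab.pow f hf
  W_omega := L.ab.inv
  W_pow := L.ab.surj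
  W_t := fun f hf => by rw [L.W_t f hf, one_mul, L.ab.phi_spec hf]
  torus := fun l => by
    obtain ⟨g, hg, -, hgW, hgl⟩ := hL l
    exact ⟨g, (E.D_t g hg), hgl, hgW⟩
  mem_S := fun x => by
    constructor
    · intro hx
      rcases (L.mem_S).mp hx with h | h
      · obtain ⟨a, w, hw, h⟩ := h
        exact ⟨a, w, hw, Or.inl h⟩
      · obtain ⟨a, w, hw, h1⟩ := L.good.t_U h
        refine ⟨a, w, hw, Or.inr ?_⟩
        rw [← h1]
        have : E.t * (E.t * (x * E.t) * E.t⁻¹) = (E.t * E.t) * x := by group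
        rw [this, E.t_sq, one_mul]
    · rintro ⟨a, w, hw, rfl | rfl⟩
      · exact Or.inl ⟨a, w, hw, rfl⟩
      · exact mul_mem L.good.t_mem_S (L.good.U_le_S ⟨a, w, hw, rfl⟩)

/-- **The exotic case**: `a = 0`. -/
theorem eq_zero_of_std [Finite G] {E : Env G F 1} {A : Subgroup G} (H : Std E A) {k : ℕ}
    (L : Lv E k 0 1) (hL : Full L) {s : G} {a : F} {x : G} (M : Mv L s a x) : a = 0 := by
  by_contra ha
  have C := cfg_of_lv H L hL M.k3
  refine ExoticMain.false_of_exotic C (r := s) ⟨C, M.hs, ?_⟩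
  rintro ⟨f, hf, he⟩
  apply ha
  have h1 : E.p a 0 * x = E.p 0 0 * (E.t * f * E.t⁻¹) := by
    rw [E.p_zero, one_mul, E.t_inv, ← he, M.he, mul_assoc, E.t_sq, mul_one]
  exact (L.good.U_inj M.hx (L.good.t_mem f hf) h1).1

end Cfsg.Agent.StdSz.Tower
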