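import Cfsg.Agent.StdSz.Tower.Step
import Cfsg.Agent.StdSz.LevelOneEnd
import Cfsg.Agent.StdSz.OutDef

/-!
# The branch `κ = 1`

`k = 2` and `W'` acts on `W` by `[s, w] = p 0 (√(u(s) φ(w)))`.  Then `M = P W'` has order `q⁴`,
`M / Z` is elementary abelian and `S' = M⟨t⟩` is a Sylow 2-subgroup of `G`.
-/

set_option autoImplicit false
set_option linter.unusedSectionVars false
set_option linter.dupNamespace false
set_option linter.style.haveILetI false

namespace Cfsg.Agent.StdSz.Tower.KappaOne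

open Subgroup Cfsg.Agent.StdSz.FormAlg Cfsg.Agent.StdSz.Env Cfsg.Agent.StdSz.Tower

variable {G : Type*} [Group G] {F : Type*} [Field F] [Fintype F] [CharP F 2] {m : ℕ}

variable {E : Env G F m} {L : Lvl E 2} (N : Nxt L) [Finite G]

/-- `M = P W'`. -/
def M : Subgroup G where
  carrier := {s | s ∈ N.S' ∧ ep L s = 0}
  mul_mem' := by
    rintro s r ⟨hs, he⟩ ⟨hr, he'⟩
    exact ⟨mul_mem hs hr, by rw [N.ep_mul hs hr, he, he', add_zero]⟩
  one_mem' := ⟨one_mem _, N.ep_W (one_mem L.W)⟩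
  inv_mem' := by
    rintro s ⟨hs, he⟩
    exact ⟨inv_mem hs, by rw [N.ep_inv hs, he]⟩

theorem mem_M {s : G} : s ∈ M N ↔ s ∈ N.S' ∧ ep L s = 0 := Iff.rfl

theorem M_le : M N ≤ N.S' := fun _ h => h.1

theorem W'_le_M : N.W' ≤ M N := fun _ h => ⟨h.1, h.2.2⟩

theorem p_mem_M (a b : F) : E.p a b ∈ M N := ⟨N.p_mem a b, N.ep_p a b⟩

theorem M_dec {s : G} (hs : s ∈ M N) : ∃ a, ∃ w ∈ N.W', s = E.p a 0 * w := by
  obtain ⟨a, w, hw, h | h⟩ := N.exists_dec hs.1
  · exact ⟨a, w, hw, h⟩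
  · exfalso
    have h1 := hs.2
    rw [h, N.ep_mul (mul_mem (N.p_mem a 0) hw.1) N.t_mem, N.ep_mul (N.p_mem a 0) hw.1, N.ep_p,
      hw.2.2, N.ep_t, add_zero, zero_add] at h1
    exact one_ne_zero h1

theorem M_index : (M N).relIndex N.S' = 2 := by
  rw [Subgroup.relIndex, Subgroup.index_eq_two_iff]
  refine ⟨⟨E.t, N.t_mem⟩, fun b => ?_⟩
  rw [Subgroup.mem_subgroupOf, Subgroup.mem_subgroupOf, mem_M, mem_M]
  have h1 : ep L ((b : G) * E.t) = ep L (b : G) + 1 := by
    rw [N.ep_mul b.2 N.t_mem, N.ep_t]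
  have h2 : (((b * ⟨E.t, N.t_mem⟩ : N.S') : G)) = (b : G) * E.t := rfl
  rw [h2, h1]
  rcases N.ep_cases b.2 with h | h
  · right
    refine ⟨⟨b.2, h⟩, ?_⟩
    rintro ⟨-, h3⟩
    rw [h, zero_add] at h3
    exact one_ne_zero h3
  · left
    refine ⟨⟨mul_mem b.2 N.t_mem, ?_⟩, ?_⟩
    · rw [h]; exact FormAlg.add_self _
    · rintro ⟨-, h3⟩
      rw [h] at h3
      exact one_ne_zero h3

section

variable (hk : ∀ s ∈ N.W', ∀ v, nu L s v = (phi E 2 (wt E s) * v) ^ (2 ^ (2 * m)))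
include hk

/-- squares of `W'` are in `Z`. -/
theorem sq_W' {s : G} (hs : s ∈ N.W') : ∃ b, s * s = E.p 0 b := by
  have hw := N.wt_mem hs.1
  have h1 := L.ab.phi_two rfl hw
  have h2 := N.nu_spec hs.1 hw h1
  have h3 : nu L s (phi E 2 (wt E s)) = phi E 2 (wt E s) := by rw [hk s hs, sqrt_sq E]
  have h4 := N.sq_sq hs.1
  rw [h2, h3, mul_assoc (E.p 0 (phi E 2 (wt E s))), h1, E.z_self] at h4
  exact L.ab.inv _ (N.sq_mem_W hs.1) h4

/-- squares of `M` are in `Z`. -/
theorem sq_M {s : G} (hs : s ∈ M N) : ∃ b, s * s = E.p 0 b := by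
  obtain ⟨a, w, hw, rfl⟩ := M_dec N hs
  obtain ⟨b, hb⟩ := sq_W' N hk hw
  have h1 := N.eta_spec hw.1 a 0
  refine ⟨0 + (0 + eta E w a) + a ^ (2 ^ (m + 1)) * a + b, ?_⟩
  calc E.p a 0 * w * (E.p a 0 * w) = E.p a 0 * (w * E.p a 0 * w⁻¹) * (w * w) := by group
    _ = _ := by rw [h1, hb, E.p_mul, FormAlg.add_self, E.z_mul]

/-- commutators of `M` are in `Z`. -/
theorem comm_M {s r : G} (hs : s ∈ M N) (hr : r ∈ M N) : ∃ b, s * r * s⁻¹ * r⁻¹ = E.p 0 b := by
  obtain ⟨b, hb⟩ := sq_M N hk (mul_mem hs hr)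
  obtain ⟨c, hc⟩ := sq_M N hk (inv_mem hs)
  obtain ⟨d, hd⟩ := sq_M N hk (inv_mem hr)
  have e : s * r * s⁻¹ * r⁻¹ = (s * r * (s * r)) * (r⁻¹ * (s⁻¹ * s⁻¹) * r) * (r⁻¹ * r⁻¹) := by
    group
  refine ⟨b + c + d, ?_⟩
  rw [e, hb, hc, hd, N.comm_z (inv_mem hr.1), inv_mul_cancel_right, E.z_mul, E.z_mul]

end

/-! ### The order of `M` -/

theorem card_W : Nat.card L.W = Fintype.card F ^ 2 := by
  classical
  let f : L.W →* Multiplicative F :=
    { toFun := fun x => Multiplicative.ofAdd (phi E 2 (x : G))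
      map_one' := by
        show Multiplicative.ofAdd (phi E 2 (1 : G)) = 1
        rw [L.ab.phi_one]; rfl
      map_mul' := fun x y => by
        show Multiplicative.ofAdd (phi E 2 ((x : G) * y)) = _
        rw [L.ab.phi_mul x.2 y.2]; rfl }
  have h1 : Nat.card f.ker * f.ker.index = Nat.card L.W := Subgroup.card_mul_index _
  rw [Subgroup.index_ker] at h1
  have h2 : f.range = ⊤ := by
    rw [MonoidHom.range_eq_top]
    intro b
    obtain ⟨w, hw, hb⟩ := L.ab.phi_surj (Multiplicative.toAdd b)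
    exact ⟨⟨w, hw⟩, congrArg Multiplicative.ofAdd hb⟩
  have h3 : Nat.card f.ker = Fintype.card F := by
    rw [← Nat.card_eq_fintype_card]
    have hz : ∀ b : F, f ⟨E.p 0 b, L.ab.z_mem b⟩ = 1 := fun b =>
      congrArg Multiplicative.ofAdd (L.ab.phi_p b)
    refine (Nat.card_eq_of_bijective (fun b : F => (⟨⟨E.p 0 b, L.ab.z_mem b⟩, hz b⟩ : f.ker)) ⟨?_, ?_⟩).symm
    · intro b c h
      exact E.z_inj (congrArg (fun x : f.ker => ((x : L.W) : G)) h)
    · rintro ⟨⟨w, hw⟩, h⟩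
      have h0 : phi E 2 w = 0 := congrArg Multiplicative.toAdd h
      have h4 := L.ab.phi_two rfl hw
      rw [h0, E.p_zero] at h4
      obtain ⟨b, rfl⟩ := L.ab.inv w hw h4
      exact ⟨b, rfl⟩
  have h4 : Nat.card (Multiplicative F) = Fintype.card F := by
    rw [← Nat.card_eq_fintype_card]
    exact Nat.card_congr Multiplicative.toAdd
  rw [h2, Subgroup.card_top, h3, h4] at h1
  rw [← h1, pow_two]

theorem card_M : Nat.card (M N) = Fintype.card F ^ 4 := by
  classical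
  let f : M N →* Multiplicative (F × F) :=
    { toFun := fun x => Multiplicative.ofAdd (al E (x : G), phi E 2 (wt E (x : G)))
      map_one' := by
        show Multiplicative.ofAdd (al E (1 : G), phi E 2 (wt E (1 : G))) = 1
        rw [N.u_one, N.al_W (one_mem L.W)]; rfl
      map_mul' := fun x y => by
        show Multiplicative.ofAdd (al E ((x : G) * y), phi E 2 (wt E ((x : G) * y))) = _
        rw [N.u_mul x.2.1 y.2.1, N.al_mul x.2.1 y.2.1]; rfl }
  have h1 : Nat.card f.ker * f.ker.index = Nat.card (M N) := Subgroup.card_mul_index _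
  rw [Subgroup.index_ker] at h1
  have h2 : f.range = ⊤ := by
    rw [MonoidHom.range_eq_top]
    intro b
    obtain ⟨⟨a, c⟩, rfl⟩ : ∃ y : F × F, b = Multiplicative.ofAdd y := ⟨Multiplicative.toAdd b, rfl⟩
    obtain ⟨w, hw, hb⟩ := N.u_surj' c
    refine ⟨⟨E.p a 0 * w, mul_mem (p_mem_M N a 0) (W'_le_M N hw)⟩, ?_⟩
    show Multiplicative.ofAdd (al E (E.p a 0 * w), phi E 2 (wt E (E.p a 0 * w))) = _
    rw [N.u_mul (N.p_mem a 0) hw.1, N.al_mul (N.p_mem a 0) hw.1, N.al_p, hw.2.1, N.u_p, hb,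
      add_zero, zero_add]
  have h3 : Nat.card f.ker = Nat.card L.W := by
    have hz : ∀ w : L.W, f ⟨(w : G), W'_le_M N (N.W_le_W' w.2)⟩ = 1 := fun w => by
      show Multiplicative.ofAdd (al E (w : G), phi E 2 (wt E (w : G))) = 1
      rw [N.al_W w.2, N.u_W w.2]; rfl
    refine (Nat.card_eq_of_bijective
      (fun w : L.W => (⟨⟨(w : G), W'_le_M N (N.W_le_W' w.2)⟩, hz w⟩ : f.ker)) ⟨?_, ?_⟩).symm
    · intro b c h
      exact Subtype.ext (congrArg (fun x : f.ker => ((x : M N) : G)) h)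
    · rintro ⟨⟨x, hx⟩, h⟩
      have h0 : (al E x, phi E 2 (wt E x)) = ((0, 0) : F × F) := congrArg Multiplicative.toAdd h
      have h5 := Prod.mk.inj h0
      have hw : x ∈ L.W := N.W'_u ⟨hx.1, h5.1, hx.2⟩ h5.2
      exact ⟨⟨x, hw⟩, rfl⟩
  have h4 : Nat.card (Multiplicative (F × F)) = Fintype.card F ^ 2 := by
    have : Nat.card (Multiplicative (F × F)) = Nat.card (F × F) :=
      Nat.card_congr Multiplicative.toAdd
    rw [this, Nat.card_prod, Nat.card_eq_fintype_card, pow_two]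
  rw [h2, Subgroup.card_top, h3, h4, card_W] at h1
  rw [← h1]; ring

/-! ### Centralizers of elements of `M` -/

theorem card_T_le (E : Env G F m) : Nat.card E.T ≤ 2 * Fintype.card F ^ 2 := by
  classical
  have hex : ∀ x : E.T, ∃ y : (F × F) × Bool,
      (x : G) = E.p y.1.1 y.1.2 * (if y.2 then E.t else 1) := by
    rintro ⟨x, a, b, h | h⟩
    · exact ⟨((a, b), false), by simpa using h⟩
    · exact ⟨((a, b), true), by simpa using h⟩
  choose g hg using hex
  have h1 : Nat.card E.T ≤ Nat.card ((F × F) × Bool) := by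
    apply Nat.card_le_card_of_injective g
    intro x y hxy
    apply Subtype.ext
    rw [hg x, hg y, hxy]
  rw [Nat.card_prod, Nat.card_prod, Nat.card_eq_fintype_card (α := F),
    Nat.card_eq_fintype_card (α := Bool), Fintype.card_bool] at h1
  rw [pow_two]; omega

/-- 2-subgroups of `C(t)` have order at most `2 q²`. -/
theorem card_le_of_centralizer (E : Env G F m) {R : Subgroup G} (hR : IsPGroup 2 R)
    (hRt : ∀ x ∈ R, x * E.t = E.t * x) : Nat.card R ≤ 2 * Fintype.card F ^ 2 := by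
  classical
  obtain ⟨c, hc, hcR⟩ := LevelOneEnd.conj_le_of_maximal (A := E.T)
    (C := Subgroup.centralizer {E.t}) E.T_two
    (by
      intro x hx
      rw [Subgroup.mem_centralizer_singleton_iff]
      exact E.T_comm_t hx)
    (by
      intro X hX hTX hXC x hx
      obtain ⟨a, b, h⟩ := E.T_max X hX (fun a b => hTX (E.p_mem_T a b)) (hTX E.t_mem_T)
        (fun x hx => by
          have := hXC hx
          rwa [Subgroup.mem_centralizer_singleton_iff] at this) x hx
      exact ⟨a, b, h⟩) hR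
    (by
      intro x hx
      rw [Subgroup.mem_centralizer_singleton_iff]
      exact hRt x hx)
  refine le_trans ?_ (card_T_le E)
  refine Nat.card_le_card_of_injective (fun x : R => (⟨c * x * c⁻¹, hcR x x.2⟩ : E.T)) ?_
  intro x y hxy
  have h : c * (x : G) * c⁻¹ = c * y * c⁻¹ := congrArg Subtype.val hxy
  exact Subtype.ext (mul_left_cancel (mul_right_cancel h))

section

variable (hk : ∀ s ∈ N.W', ∀ v, nu L s v = (phi E 2 (wt E s) * v) ^ (2 ^ (2 * m)))
include hk

/-- `|C_M(v)| ≥ q³`. -/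
theorem card_CM {v : G} (hv : v ∈ M N) :
    Fintype.card F ^ 3 ≤ Nat.card ↥(M N ⊓ Subgroup.centralizer {v}) := by
  classical
  let c : G → F := fun x => zc E (x * v * x⁻¹ * v⁻¹)
  have hc : ∀ x ∈ M N, x * v * x⁻¹ = E.p 0 (c x) * v := by
    intro x hx
    have := zc_spec E (comm_M N hk hx hv)
    rw [← this]; group
  have hceq : ∀ x ∈ M N, ∀ b, x * v * x⁻¹ = E.p 0 b * v → c x = b := by
    intro x hx b hb
    rw [hc x hx, mul_left_inj] at hb
    exact E.z_inj hb
  let f : M N →* Multiplicative F :=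
    { toFun := fun x => Multiplicative.ofAdd (c (x : G))
      map_one' := by
        show Multiplicative.ofAdd (c (1 : G)) = 1
        rw [hceq 1 (one_mem _) 0 (by rw [E.p_zero]; group)]; rfl
      map_mul' := fun x y => by
        show Multiplicative.ofAdd (c ((x : G) * y)) = _
        rw [hceq ((x : G) * y) (mul_mem x.2 y.2) (c x + c y) (by
          calc (x : G) * y * v * ((x : G) * y)⁻¹ = (x : G) * ((y : G) * v * (y : G)⁻¹) * (x : G)⁻¹ := by
                group
            _ = ((x : G) * E.p 0 (c y) * (x : G)⁻¹) * ((x : G) * v * (x : G)⁻¹) := by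
              rw [hc y y.2]; group
            _ = E.p 0 (c y) * (E.p 0 (c x) * v) := by
              rw [N.comm_z x.2.1, mul_inv_cancel_right, hc x x.2]
            _ = _ := by rw [← mul_assoc, E.z_mul, add_comm])]
        rfl }
  have h1 : Nat.card f.ker * f.ker.index = Nat.card (M N) := Subgroup.card_mul_index _
  rw [Subgroup.index_ker, card_M] at h1
  have h2 : Nat.card f.range ≤ Nat.card (Multiplicative F) := Subgroup.card_le_card_group _
  have h4 : Nat.card (Multiplicative F) = Fintype.card F := by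
    rw [← Nat.card_eq_fintype_card]
    exact Nat.card_congr Multiplicative.toAdd
  have h3 : Nat.card f.ker ≤ Nat.card ↥(M N ⊓ Subgroup.centralizer {v}) := by
    refine Nat.card_le_card_of_injective (fun x : f.ker =>
      (⟨((x : M N) : G), mem_inf.mpr ⟨x.1.2, ?_⟩⟩ : ↥(M N ⊓ Subgroup.centralizer {v}))) ?_
    · rw [Subgroup.mem_centralizer_singleton_iff]
      have h5 : c ((x : M N) : G) = 0 := congrArg Multiplicative.toAdd x.2
      have h6 := hc _ x.1.2
      rw [h5, E.p_zero, one_mul] at h6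
      exact mul_inv_eq_iff_eq_mul.mp h6
    · intro x y hxy
      apply Subtype.ext
      apply Subtype.ext
      exact congrArg (fun z : ↥(M N ⊓ Subgroup.centralizer {v}) => (z : G)) hxy
  have hq : 0 < Fintype.card F := Fintype.card_pos
  rw [h4] at h2
  have h5 : Fintype.card F ^ 3 * Fintype.card F ≤ Nat.card f.ker * Fintype.card F := by
    rw [← pow_succ, ← h1]
    exact Nat.mul_le_mul_left _ h2
  exact (Nat.le_of_mul_le_mul_right h5 hq).trans h3

theorem q_ge (E : Env G F m) : 8 ≤ Fintype.card F := by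
  rw [E.hF]
  calc 8 = 2 ^ 3 := by norm_num
    _ ≤ 2 ^ (2 * m + 1) := Nat.pow_le_pow_right (by norm_num) (by have := E.hm; omega)

/-- no conjugate of `t` is in `M`. -/
theorem fus (g : G) : g * E.t * g⁻¹ ∉ M N := by
  intro hv
  have h1 := card_CM N hk hv
  have h2 : IsPGroup 2 ↥(M N ⊓ Subgroup.centralizer {g * E.t * g⁻¹}) :=
    N.two.to_le (inf_le_left.trans (M_le N))
  have h3 := card_le_of_centralizer E
    (R := (M N ⊓ Subgroup.centralizer {g * E.t * g⁻¹}).map (MulAut.conj g⁻¹).toMonoidHom)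
    (h2.map _) (by
      intro x hx
      rw [LevelOneEnd.mem_conj, inv_inv, mem_inf, Subgroup.mem_centralizer_singleton_iff] at hx
      have h4 := hx.2
      have h5 : g * (x * E.t) * g⁻¹ = g * (E.t * x) * g⁻¹ := by
        calc g * (x * E.t) * g⁻¹ = g * x * g⁻¹ * (g * E.t * g⁻¹) := by group
          _ = g * E.t * g⁻¹ * (g * x * g⁻¹) := h4
          _ = g * (E.t * x) * g⁻¹ := by group
      exact mul_left_cancel (mul_right_cancel h5))
  rw [LevelOneEnd.card_conj] at h3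
  have h4 := h1.trans h3
  have h5 := q_ge N hk E
  have h6 : Fintype.card F ^ 3 = Fintype.card F * Fintype.card F ^ 2 := by ring
  rw [h6] at h4
  have h7 : 0 < Fintype.card F ^ 2 := by positivity
  have h8 := Nat.le_of_mul_le_mul_right h4 h7
  omega

/-- involutions of `S' - M` are in `W t`. -/
theorem inv_of_not_mem {y : G} (hy : y ∈ N.S') (hyM : y ∉ M N) (h : y * y = 1) :
    ∃ w ∈ L.W, y = w * E.t := by
  obtain ⟨a, s, hs, h1 | h1⟩ := N.exists_dec hy
  · exfalso
    apply hyM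
    rw [h1]
    exact mul_mem (p_mem_M N a 0) (W'_le_M N hs)
  · -- `y = p a 0 * s * t`
    obtain ⟨b, hb⟩ := sq_W' N hk hs
    have h2 := N.eta_spec hs.1 a 0
    have h3 := N.t_conj_s s
    have hws := N.wt_mem hs.1
    have h4 : y * y = E.p a 0 * (s * E.p a 0 * s⁻¹) * (s * (wt E s)⁻¹ * s⁻¹) * (s * s) := by
      have e1 : E.t * E.p a 0 = E.p a 0 * E.t := E.t_p a 0
      have e2 : E.t * s * E.t = (wt E s)⁻¹ * s := by
        rw [← h3, E.t_inv]
      calc y * y = E.p a 0 * s * (E.t * E.p a 0) * s * E.t := by rw [h1]; group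
        _ = E.p a 0 * s * E.p a 0 * (E.t * s * E.t) := by rw [e1]; group
        _ = E.p a 0 * s * E.p a 0 * ((wt E s)⁻¹ * s) := by rw [e2]
        _ = _ := by group
    rw [h, h2, E.p_mul, FormAlg.add_self, hb] at h4
    -- so `wt E s` is in `Z`
    have h5 : s * (wt E s)⁻¹ * s⁻¹ = E.p 0 (0 + (0 + eta E s a) + a ^ (2 ^ (m + 1)) * a + b) := by
      have h6 : s * (wt E s)⁻¹ * s⁻¹ =
          (E.p 0 (0 + (0 + eta E s a) + a ^ (2 ^ (m + 1)) * a))⁻¹ * (E.p 0 b)⁻¹ := by
        generalize s * (wt E s)⁻¹ * s⁻¹ = y at h4 ⊢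
        generalize E.p 0 (0 + (0 + eta E s a) + a ^ (2 ^ (m + 1)) * a) = u at h4 ⊢
        have h7 : u⁻¹ * (u * y * E.p 0 b) * (E.p 0 b)⁻¹ = u⁻¹ * 1 * (E.p 0 b)⁻¹ := by rw [← h4]
        calc y = u⁻¹ * (u * y * E.p 0 b) * (E.p 0 b)⁻¹ := by group
          _ = u⁻¹ * 1 * (E.p 0 b)⁻¹ := h7
          _ = _ := by rw [mul_one]
      rw [h6, E.z_inv, E.z_inv, E.z_mul]
    have h7 : phi E 2 (wt E s) = 0 := by
      have h8 := N.phi_conj hs.1 (inv_mem hws)
      rw [h5, L.ab.phi_p, L.ab.phi_inv hws] at h8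
      exact h8.symm
    have hsW := N.W'_u hs h7
    apply L.exists_of_sq _ _ h
    · rw [h1]
      exact mul_mem (mul_mem (L.good.p_mem_S a 0) (L.good.W_le_S hsW)) L.good.t_mem_S
    · intro hU
      apply hyM
      obtain ⟨c, w, hw, rfl⟩ := hU
      exact mul_mem (p_mem_M N c 0) (W'_le_M N (N.W_le_W' hw))

/-- `S'` is a Sylow 2-subgroup of `G`. -/
theorem maximal (R : Subgroup G) (hR : IsPGroup 2 R) (hSR : N.S' ≤ R) : R = N.S' := by
  by_contra hne
  have h3 := NextExists.lt_inf_normalizer hR (lt_of_le_of_ne hSR (Ne.symm hne))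
  obtain ⟨s, hs, hsS⟩ := SetLike.exists_of_lt h3
  obtain ⟨hsR, hsN⟩ := mem_inf.mp hs
  apply hsS
  have h4 : s * E.t * s⁻¹ ∈ N.S' := (mem_normalizer_iff.mp hsN _).mp N.t_mem
  have h5 : (s * E.t * s⁻¹) * (s * E.t * s⁻¹) = 1 := by
    calc (s * E.t * s⁻¹) * (s * E.t * s⁻¹) = s * (E.t * E.t) * s⁻¹ := by group
      _ = 1 := by rw [E.t_sq]; group
  obtain ⟨w, hw, hwt⟩ := inv_of_not_mem N hk h4 (fus N hk s) h5
  obtain ⟨r, hr, hrt⟩ := N.trans w hw
  have h6 : r⁻¹ * s ∈ E.T := by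
    apply E.mem_T_of_comm hR ((L.good.T_le_S.trans N.le).trans hSR)
      (mul_mem (inv_mem (hSR hr)) hsR)
    have h7 : s * E.t * s⁻¹ = r * E.t * r⁻¹ := by rw [hwt, hrt]
    calc r⁻¹ * s * E.t = r⁻¹ * (s * E.t * s⁻¹) * s := by group
      _ = r⁻¹ * (r * E.t * r⁻¹) * s := by rw [h7]
      _ = E.t * (r⁻¹ * s) := by group
  have h7 := mul_mem hr (N.le (L.good.T_le_S h6))
  rwa [mul_inv_cancel_left] at h7

/-- **The branch `κ = 1`**. -/
theorem out_of_kappa_one : ∃ O : OutDef.Out G F E.t, ∀ a b, E.p a b ∈ O.M := by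
  classical
  choose h hD hS hS' hact using N.full
  have hM : ∀ l, ∀ x ∈ M N, h l * x * (h l)⁻¹ ∈ M N := by
    intro l x hx
    exact ⟨(mem_normalizer_iff.mp (hS' l) x).mp hx.1, by
      rw [N.ep_conj (hS l) (hS' l) (hact l) hx.1, hx.2]⟩
  have hmul : ∀ l l', ∀ x ∈ M N,
      h (l * l') * x * (h (l * l'))⁻¹ = h l * (h l' * x * (h l')⁻¹) * (h l)⁻¹ := by
    intro l l' x hx
    set y := (h (l * l'))⁻¹ * (h l * h l') with hy
    have hyD : y ∈ E.D := mul_mem (inv_mem (hD _)) (mul_mem (hD _) (hD _))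
    have hyact : Acts m E.p y 1 := by
      have := E.acts_mul (E.acts_inv (hact (l * l'))) (E.acts_mul (hact l) (hact l'))
      rwa [inv_mul_cancel] at this
    have hyN : y ∈ normalizer (N.S' : Set G) := mul_mem (inv_mem (hS' _)) (mul_mem (hS' _) (hS' _))
    have h1 := E.centralizes_of_le N.two (L.good.T_le_S.trans N.le) (E.odd_of_mem_D hyD)
      (E.D_t y hyD) (E.acts_one_iff.mp hyact) hyN x hx.1
    have h2 : h l * h l' = h (l * l') * y := by rw [hy]; group
    calc h (l * l') * x * (h (l * l'))⁻¹ = h (l * l') * (x * y) * y⁻¹ * (h (l * l'))⁻¹ := by group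
      _ = h (l * l') * (y * x) * y⁻¹ * (h (l * l'))⁻¹ := by rw [h1]
      _ = (h (l * l') * y) * x * (h (l * l') * y)⁻¹ := by group
      _ = _ := by rw [← h2]; group
  have hfree : ∀ l, l ≠ 1 → ∀ x ∈ M N, h l * x * (h l)⁻¹ = x → x = 1 := by
    intro l hl x hx hxl
    have hne : (l : F) ≠ 1 := fun h => hl (Units.ext h)
    have hne' : (l : F) ^ (1 + 2 ^ (m + 1)) ≠ 1 := by
      intro h
      apply hne
      apply norm_inj E.hF
      rw [h, one_pow]
    have h0 : ∀ c y : F, c ≠ 1 → y = c * y → y = 0 := by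
      intro c y hc hy
      have : (c - 1) * y = 0 := by rw [sub_mul, one_mul, ← hy, sub_self]
      exact (mul_eq_zero.mp this).resolve_left (sub_ne_zero.mpr hc)
    have h1 : al E x = 0 := by
      apply h0 _ _ hne
      have := N.al_conj (hS' l) (hact l) hx.1
      rwa [hxl] at this
    have h2 : phi E 2 (wt E x) = 0 := by
      apply h0 _ _ hne'
      have := N.u_conj (E.D_t _ (hD l)) (hS l) (hact l) hx.1
      rwa [hxl] at this
    have hxW : x ∈ L.W := N.W'_u ⟨hx.1, h1, hx.2⟩ h2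
    have h3 : phi E 2 x = 0 := by
      apply h0 _ _ hne'
      have h4 : h l * x * (h l)⁻¹ ∈ L.W := by rw [hxl]; exact hxW
      have h5 := L.phi_conj hxW h4 (b := (l : F) ^ (1 + 2 ^ (m + 1)) * phi E 2 x)
        (by rw [hact l, mul_zero])
      rwa [hxl] at h5
    have h4 := L.ab.phi_two rfl hxW
    rw [h3, E.p_zero] at h4
    obtain ⟨b, rfl⟩ := L.ab.inv x hxW h4
    have h5 : b = 0 := by
      apply h0 _ _ hne'
      rw [hact l, mul_zero] at hxl
      exact (E.z_inj hxl).symm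
    rw [h5, E.p_zero]
  refine ⟨⟨⟨⟨N.S', N.two, fun {R} hR hle => maximal N hk R hR hle⟩, M N, M_le N, M_index N, E.t_sq,
    N.t_mem, fus N hk, h, hM, hmul, hfree⟩, ?_, ?_⟩, p_mem_M N⟩
  · intro x hx y hy z hz
    obtain ⟨b, hb⟩ := comm_M N hk hx hy
    rw [hb, N.comm_z hz.1]
  · exact (card_M N).le

end

end Cfsg.Agent.StdSz.Tower.KappaOne
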