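import Cfsg.Agent.StdSz.Tower.Lvl
import Cfsg.Agent.StdSz.Coord

/-!
# The second level of the tower

When `δ = 0` and `γ = 1` the elements of `Q` with coordinates `(0, 0, u)` form a homocyclic abelian
group of exponent four, inverted by `t` and centralized by `P`: this is the second level of the
tower.
-/

set_option autoImplicit false
set_option linter.unusedSectionVars false

namespace Cfsg.Agent.StdSz.Tower.LevelTwo

open Subgroup Cfsg.Agent.StdSz.FormAlg Cfsg.Agent.StdSz.Env Cfsg.Agent.StdSz.LevelOne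
open Cfsg.Agent.StdSz.Coord

variable {G : Type*} [Group G] {F : Type*} [Field F] [Fintype F] [CharP F 2] {m : ℕ}

/-- the elements of `Q` with coordinates `(0, 0, u)`. -/
def W (P : Pre G F m) : Subgroup G where
  carrier := {x | x ∈ P.Q ∧ ∃ u : F, crd P x = (0, 0, u)}
  mul_mem' := by
    rintro x y ⟨hx, u, hu⟩ ⟨hy, v, hv⟩
    refine ⟨mul_mem hx hy, u + v, ?_⟩
    rw [crd_mul P hx hy, hu, hv]
    ext <;> simp
  one_mem' := ⟨one_mem _, 0, by rw [crd_one]; rfl⟩
  inv_mem' := by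
    rintro x ⟨hx, u, hu⟩
    exact ⟨inv_mem hx, u, by rw [crd_inv P hx, hu]⟩

variable (P : Pre G F m)

theorem mem_W {x : G} : x ∈ W P ↔ x ∈ P.Q ∧ ∃ u : F, crd P x = (0, 0, u) := Iff.rfl

theorem W_le : W P ≤ P.Q := fun _ h => h.1

theorem z_mem (b : F) : P.p 0 b ∈ W P := ⟨P.Q_p 0 b, 0, by rw [crd_p]⟩

theorem el_mem_W (u : F) : el P (0, 0, u) ∈ W P := ⟨el_mem P _, u, crd_el P _⟩

variable (hd : del P = 0)
include hd

theorem comm {x y : G} (hx : x ∈ W P) (hy : y ∈ W P) : x * y = y * x := by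
  obtain ⟨hx, u, hu⟩ := hx
  obtain ⟨hy, v, hv⟩ := hy
  rw [mul_comm_crd P hx hy, hu, hv, hd]
  have : B m (0 : F) ((0 : ZMod 2), (0 : F), u) (0, 0, v) = 0 := by
    unfold B
    simp
  rw [this, P.p_zero, one_mul]

theorem comm_p {x : G} (hx : x ∈ W P) (a b : F) : x * P.p a b = P.p a b * x := by
  obtain ⟨hx, u, hu⟩ := hx
  rw [mul_comm_crd P hx (P.Q_p a b), hu, crd_p, hd]
  have : B m (0 : F) ((0 : ZMod 2), (0 : F), u) (0, a, 0) = 0 := by
    unfold B
    simp
  rw [this, P.p_zero, one_mul]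

variable (hg : gam P = 1)
include hg

theorem sq {x : G} (hx : x ∈ P.Q) {u : F} (hu : crd P x = (0, 0, u)) : x * x = P.p 0 u := by
  rw [mul_self_crd P hx, hu, hd, hg]
  have : Sq m (1 : F) 0 ((0 : ZMod 2), (0 : F), u) = u := by
    unfold Sq
    simp
  rw [this]

theorem t_conj {x : G} (hx : x ∈ W P) : P.t * x * P.t⁻¹ = x⁻¹ := by
  obtain ⟨hx, u, hu⟩ := hx
  have h1 := mul_comm_crd P P.Q_t hx
  rw [crd_t, B_tt, hu] at h1
  have h2 : P.t * x * P.t⁻¹ = P.p 0 u * x := by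
    rw [h1]; group
  have h3 := sq P hd hg hx hu
  rw [h2, ← h3]
  have h4 : x * x * (x * x) = 1 := by rw [h3, P.z_self]
  calc x * x * x = x * x * (x * x) * x⁻¹ := by group
    _ = x⁻¹ := by rw [h4, one_mul]

theorem ab (E : Env G F m) (hp : P.p = E.p) : Ab E (W P) 2 where
  hk := le_rfl
  comm := fun x hx y hy => comm P hd hx hy
  z_mem := fun b => by rw [← hp]; exact z_mem P b
  inv := by
    rintro w ⟨hw, u, hu⟩ h
    have h1 := sq P hd hg hw hu
    rw [h] at h1
    have h2 : u = 0 := P.z_inj (by rw [← h1, P.p_zero])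
    subst h2
    rw [← hp]
    exact eq_z_of_crd P hw hu
  pow := by
    rintro w ⟨hw, u, hu⟩
    have h1 := sq P hd hg hw hu
    have h2 : w ^ 2 ^ 2 = w * w * (w * w) := by
      norm_num [pow_succ, mul_assoc]
    rw [h2, h1, P.z_self]
  surj := by
    intro b
    refine ⟨_, el_mem_W P b, ?_⟩
    have h1 := sq P hd hg (el_mem P (0, 0, b)) (crd_el P _)
    rw [← hp, ← h1]
    norm_num [pow_succ]

/-- The second level of the tower. -/
theorem exists_lvl (E : Env G F m) (ht : P.t = E.t) (hp : P.p = E.p) :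
    ∃ L : Tower.Lvl E 2, L.S = P.Q ∧ L.W = W P := by
  let L : Tower.Lvl E 2 :=
    { W := W P
      ab := ab P hd hg E hp
      W_t := fun w hw => by rw [← ht]; exact t_conj P hd hg hw
      W_p := fun w hw a b => by rw [← hp]; exact comm_p P hd hw a b }
  have hU : ∀ x, x ∈ L.U ↔ x ∈ P.Q ∧ (crd P x).1 = 0 := by
    intro x
    rw [L.mem_U, ← hp]
    constructor
    · rintro ⟨a, w, ⟨hw, u, hu⟩, rfl⟩
      refine ⟨mul_mem (P.Q_p _ _) hw, ?_⟩
      rw [crd_mul P (P.Q_p _ _) hw, crd_p, hu]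
      simp
    · rintro ⟨hx, hx1⟩
      refine ⟨(crd P x).2.1, (P.p (crd P x).2.1 0)⁻¹ * x, ⟨mul_mem (inv_mem (P.Q_p _ _)) hx,
        (crd P x).2.2, ?_⟩, by group⟩
      rw [crd_mul P (inv_mem (P.Q_p _ _)) hx, crd_inv P (P.Q_p _ _), crd_p]
      ext
      · show (0 : ZMod 2) + (crd P x).1 = 0
        rw [hx1, add_zero]
      · exact FormAlg.add_self _
      · exact zero_add _
  refine ⟨L, ?_, rfl⟩
  ext x
  rw [L.mem_S, hU, hU, ← ht]
  constructor
  · rintro (h | h)
    · exact h.1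
    · have := mul_mem h.1 (inv_mem P.Q_t)
      rwa [mul_inv_cancel_right] at this
  · intro hx
    rcases zmod_cases (crd P x).1 with h | h
    · exact Or.inl ⟨hx, h⟩
    · refine Or.inr ⟨mul_mem hx P.Q_t, ?_⟩
      rw [crd_mul P hx P.Q_t, crd_t]
      show (crd P x).1 + 1 = 0
      rw [h]
      decide

end Cfsg.Agent.StdSz.Tower.LevelTwo
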