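import Cfsg.Agent.StdSz.Tower.Next

/-!
# The action of the next level `S'` on `P` and `W`
-/

set_option autoImplicit false
set_option linter.unusedSectionVars false
set_option linter.dupNamespace false

namespace Cfsg.Agent.StdSz.Tower

open Subgroup Cfsg.Agent.StdSz.FormAlg Cfsg.Agent.StdSz.Env

variable {G : Type*} [Group G] {F : Type*} [Field F] [Fintype F] [CharP F 2] {m : ℕ}

open Classical in
/-- the coordinate of an element of `Z`. -/
noncomputable def zc (E : Env G F m) (x : G) : F :=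
  if h : ∃ b, x = E.p 0 b then Classical.choose h else 0

theorem zc_p (E : Env G F m) (b : F) : zc E (E.p 0 b) = b := by
  have h : ∃ c, E.p 0 b = E.p 0 c := ⟨b, rfl⟩
  unfold zc
  rw [dif_pos h]
  exact (E.z_inj (Classical.choose_spec h)).symm

theorem zc_spec (E : Env G F m) {x : G} (h : ∃ b, x = E.p 0 b) : x = E.p 0 (zc E x) := by
  obtain ⟨b, rfl⟩ := h
  rw [zc_p]

/-- `w_s`, with `s t s⁻¹ = w_s t`. -/
def wt (E : Env G F m) (s : G) : G := s * E.t * s⁻¹ * E.t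

theorem wt_t (E : Env G F m) (s : G) : s * E.t * s⁻¹ = wt E s * E.t := by
  unfold wt
  rw [mul_assoc _ E.t E.t, E.t_sq, mul_one]

theorem wt_mul (E : Env G F m) (s r : G) : wt E (s * r) = s * wt E r * s⁻¹ * wt E s := by
  have h := E.t_sq
  unfold wt
  calc s * r * E.t * (s * r)⁻¹ * E.t = s * (r * E.t * r⁻¹) * (s⁻¹ * E.t) := by group
    _ = s * (r * E.t * r⁻¹) * (E.t * E.t) * (s⁻¹ * E.t) := by rw [h]; group
    _ = s * (r * E.t * r⁻¹ * E.t) * s⁻¹ * (s * E.t * s⁻¹ * E.t) := by group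

/-- `[s, p a]`. -/
noncomputable def eta (E : Env G F m) (s : G) (a : F) : F :=
  zc E (s * E.p a 0 * s⁻¹ * (E.p a 0)⁻¹)

namespace Nxt

variable {E : Env G F m} {k : ℕ} {L : Lvl E k} (N : Nxt L)

theorem W_le : L.W ≤ N.S' := L.good.W_le_S.trans N.le

theorem t_mem : E.t ∈ N.S' := N.le L.good.t_mem_S

theorem p_mem (a b : F) : E.p a b ∈ N.S' := N.le (L.good.p_mem_S a b)

variable [Finite G]

include N

theorem exists_pow {s : G} (hs : s ∈ N.S') : ∃ j : ℕ, s ^ 2 ^ j = 1 := by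
  obtain ⟨j, hj⟩ := N.two ⟨s, hs⟩
  exact ⟨j, congrArg Subtype.val hj⟩

theorem comm_z {s : G} (hs : s ∈ N.S') (b : F) : s * E.p 0 b = E.p 0 b * s := by
  obtain ⟨j, hj⟩ := N.exists_pow hs
  exact (L.norm_two (N.norm hs) hj).1 b

theorem conj_p {s : G} (hs : s ∈ N.S') (a b : F) : ∃ d, s * E.p a b * s⁻¹ = E.p a d := by
  obtain ⟨j, hj⟩ := N.exists_pow hs
  exact (L.norm_two (N.norm hs) hj).2 a b

theorem conj_W {s : G} (hs : s ∈ N.S') {w : G} (hw : w ∈ L.W) : s * w * s⁻¹ ∈ L.W :=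
  L.norm_W (N.norm hs) hw

theorem wt_mem {s : G} (hs : s ∈ N.S') : wt E s ∈ L.W := by
  obtain ⟨w, hw, h⟩ := L.t_conj (N.norm hs)
  rw [wt_t, mul_left_inj] at h
  rw [h]; exact hw

theorem phi_conj {s : G} (hs : s ∈ N.S') {w : G} (hw : w ∈ L.W) :
    phi E k (s * w * s⁻¹) = phi E k w := by
  apply L.phi_conj hw (N.conj_W hs hw)
  rw [N.comm_z hs, mul_inv_cancel_right]

theorem phi_conj' {s : G} (hs : s ∈ N.S') {w : G} (hw : w ∈ L.W) :
    phi E k (s⁻¹ * w * s) = phi E k w := by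
  have := N.phi_conj (inv_mem hs) hw
  rwa [inv_inv] at this

/-- the homomorphism `u : S' → F`. -/
theorem u_mul {s r : G} (hs : s ∈ N.S') (hr : r ∈ N.S') :
    phi E k (wt E (s * r)) = phi E k (wt E s) + phi E k (wt E r) := by
  rw [wt_mul, L.ab.phi_mul (N.conj_W hs (N.wt_mem hr)) (N.wt_mem hs),
    N.phi_conj hs (N.wt_mem hr), add_comm]

theorem u_one : phi E k (wt E (1 : G)) = 0 := by
  have : wt E (1 : G) = 1 := by
    unfold wt; rw [one_mul, inv_one, mul_one, E.t_sq]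
  rw [this, L.ab.phi_one]

theorem u_inv {s : G} (hs : s ∈ N.S') : phi E k (wt E s⁻¹) = phi E k (wt E s) := by
  have h := N.u_mul hs (inv_mem hs)
  rw [mul_inv_cancel, N.u_one] at h
  exact (CharTwo.add_eq_zero.mp h.symm).symm

theorem u_surj (b : F) : ∃ s ∈ N.S', phi E k (wt E s) = b := by
  obtain ⟨w, hw, hb⟩ := L.ab.phi_surj b
  obtain ⟨s, hs, hst⟩ := N.trans w hw
  refine ⟨s, hs, ?_⟩
  rw [wt_t, mul_left_inj] at hst
  rw [hst, hb]

theorem mem_S_of_u {s : G} (hs : s ∈ N.S') (h : phi E k (wt E s) = 0) : s ∈ L.S := by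
  obtain ⟨v, hv, hv2⟩ := (L.ab.phi_eq_zero (N.wt_mem hs)).mp h
  have h1 : v⁻¹ * s ∈ E.T := by
    apply E.mem_T_of_comm N.two (L.good.T_le_S.trans N.le)
      (mul_mem (inv_mem (N.W_le hv)) hs)
    have h2 := L.conj_t hv
    rw [← hv2, ← wt_t] at h2
    calc v⁻¹ * s * E.t = v⁻¹ * (s * E.t * s⁻¹) * s := by group
      _ = v⁻¹ * (v * E.t * v⁻¹) * s := by rw [h2]
      _ = E.t * (v⁻¹ * s) := by group
  have h2 := mul_mem (L.good.W_le_S hv) (L.good.T_le_S h1)
  rwa [mul_inv_cancel_left] at h2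

theorem u_W {w : G} (hw : w ∈ L.W) : phi E k (wt E w) = 0 := by
  have h1 := L.conj_t hw
  rw [wt_t, mul_left_inj] at h1
  rw [h1]
  exact L.ab.phi_sq hw

theorem u_t : phi E k (wt E E.t) = 0 := by
  have : wt E E.t = 1 := by
    unfold wt; rw [mul_inv_cancel_right, E.t_sq]
  rw [this, L.ab.phi_one]

theorem u_p (a b : F) : phi E k (wt E (E.p a b)) = 0 := by
  have : wt E (E.p a b) = 1 := by
    unfold wt; rw [← E.t_p, mul_inv_cancel_right, E.t_sq]
  rw [this, L.ab.phi_one]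

/-! ### The action on `P` -/

theorem eta_spec {s : G} (hs : s ∈ N.S') (a b : F) :
    s * E.p a b * s⁻¹ = E.p a (b + eta E s a) := by
  obtain ⟨d, hd⟩ := N.conj_p hs a 0
  have h1 : s * E.p a 0 * s⁻¹ * (E.p a 0)⁻¹ = E.p 0 d := by
    rw [hd, mul_inv_eq_iff_eq_mul, E.z_mul_p, zero_add]
  have h2 : eta E s a = d := by
    unfold eta
    rw [h1, zc_p]
  have h3 : E.p a b = E.p a 0 * E.p 0 b := by rw [E.p_mul_z, zero_add]
  calc s * E.p a b * s⁻¹ = (s * E.p a 0 * s⁻¹) * (s * E.p 0 b * s⁻¹) := by rw [h3]; group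
    _ = E.p a d * E.p 0 b := by rw [hd, N.comm_z hs, mul_inv_cancel_right]
    _ = _ := by rw [E.p_mul_z, h2, add_comm]

theorem eta_eq {s : G} (hs : s ∈ N.S') {a b d : F} (h : s * E.p a b * s⁻¹ = E.p a (b + d)) :
    eta E s a = d := by
  rw [N.eta_spec hs] at h
  exact add_left_cancel (E.p_inj _ _ _ _ h).2

theorem eta_mul {s r : G} (hs : s ∈ N.S') (hr : r ∈ N.S') (a : F) :
    eta E (s * r) a = eta E s a + eta E r a := by
  apply N.eta_eq (b := 0) (mul_mem hs hr)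
  have : s * r * E.p a 0 * (s * r)⁻¹ = s * (r * E.p a 0 * r⁻¹) * s⁻¹ := by group
  rw [this, N.eta_spec hr, N.eta_spec hs, zero_add, zero_add, add_comm]

theorem eta_add {s : G} (hs : s ∈ N.S') (a c : F) :
    eta E s (a + c) = eta E s a + eta E s c := by
  have h1 : E.p a 0 * E.p c 0 = E.p (a + c) (a ^ (2 ^ (m + 1)) * c) := by
    rw [E.p_mul, add_zero, zero_add]
  apply N.eta_eq (b := a ^ (2 ^ (m + 1)) * c) hs
  rw [← h1]
  have : s * (E.p a 0 * E.p c 0) * s⁻¹ = (s * E.p a 0 * s⁻¹) * (s * E.p c 0 * s⁻¹) := by group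
  rw [this, N.eta_spec hs, N.eta_spec hs, E.p_mul]
  congr 1
  ring

theorem eta_p (a b c : F) : eta E (E.p a b) c = bt m a c := by
  apply N.eta_eq (b := 0) (N.p_mem a b)
  rw [E.p_comm, ← mul_assoc, mul_inv_cancel_right, E.z_mul_p]

theorem eta_of_comm {s : G} (hs : s ∈ N.S') {c : F} (h : s * E.p c 0 = E.p c 0 * s) :
    eta E s c = 0 := by
  apply N.eta_eq (b := 0) hs
  rw [h, mul_inv_cancel_right, add_zero]

theorem eta_t (c : F) : eta E E.t c = 0 := N.eta_of_comm N.t_mem (E.t_p c 0)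

theorem eta_W {w : G} (hw : w ∈ L.W) (c : F) : eta E w c = 0 :=
  N.eta_of_comm (N.W_le hw) (L.W_p w hw c 0)

/-! ### Squares -/

theorem sq_mem_W {s : G} (hs : s ∈ N.S') : s * s ∈ L.W := by
  have hu : phi E k (wt E (s * s)) = 0 := by rw [N.u_mul hs hs, FormAlg.add_self]
  have hS := N.mem_S_of_u (mul_mem hs hs) hu
  have hbt : ∀ a : F, (∀ c : F, bt m a c = 0) → a = 0 := by
    intro a ha
    by_contra hne
    obtain ⟨c, hc0, hc1⟩ := exists_ne_zero_one E
    rcases bt_eq_zero E.hF (ha (a * c)) with h | h | h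
    · exact hne h
    · exact (mul_ne_zero hne hc0) h
    · exact hc1 (mul_left_cancel₀ hne (by rw [h, mul_one]))
  have heta : ∀ c, eta E (s * s) c = 0 := fun c => by rw [N.eta_mul hs hs, FormAlg.add_self]
  by_cases hU : s * s ∈ L.U
  · obtain ⟨a, w, hw, he⟩ := hU
    have ha : a = 0 := by
      apply hbt
      intro c
      have h1 := heta c
      rw [he, N.eta_mul (N.p_mem a 0) (N.W_le hw), N.eta_p, N.eta_W hw, add_zero] at h1
      exact h1
    subst ha
    rw [he, E.p_zero, one_mul]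
    exact hw
  · exfalso
    obtain ⟨a, w, hw, he⟩ := L.not_U_iff hS hU
    have ha : a = 0 := by
      apply hbt
      intro c
      have h1 := heta c
      rw [he, N.eta_mul (mul_mem (N.p_mem a 0) (N.W_le hw)) N.t_mem,
        N.eta_mul (N.p_mem a 0) (N.W_le hw), N.eta_p, N.eta_W hw, N.eta_t, add_zero,
        add_zero] at h1
      exact h1
    subst ha
    rw [E.p_zero, one_mul] at he
    -- conjugate to `t`
    obtain ⟨r, hr, hrt⟩ := N.trans w hw
    have h1 : (r⁻¹ * s * r) * (r⁻¹ * s * r) = E.t := by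
      calc (r⁻¹ * s * r) * (r⁻¹ * s * r) = r⁻¹ * (s * s) * r := by group
        _ = r⁻¹ * (r * E.t * r⁻¹) * r := by rw [he, hrt]
        _ = E.t := by group
    have h2 : r⁻¹ * s * r ∈ E.T := by
      apply E.mem_T_of_comm N.two (L.good.T_le_S.trans N.le)
        (mul_mem (mul_mem (inv_mem hr) hs) hr)
      rw [← h1]; group
    obtain ⟨c, d, h | h⟩ := h2
    · rw [h, E.p_sq] at h1
      exact E.t_not _ _ h1
    · rw [h, E.pt_sq] at h1
      exact E.t_not _ _ h1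

/-- commutators of `S'` lie in `W`. -/
theorem comm_mem_W {s r : G} (hs : s ∈ N.S') (hr : r ∈ N.S') : s * r * s⁻¹ * r⁻¹ ∈ L.W := by
  have h1 := N.sq_mem_W (mul_mem hs hr)
  have h2 := N.sq_mem_W (inv_mem hs)
  have h3 := N.sq_mem_W (inv_mem hr)
  have h4 := N.conj_W hr (inv_mem (inv_mem h3))
  -- `s r s⁻¹ r⁻¹ = (s r)² · (r⁻¹ s⁻² r) · r⁻²`
  have h5 : (r⁻¹ : G) * (s⁻¹ * s⁻¹) * r ∈ L.W := by
    have := N.conj_W (inv_mem hr) h2
    rwa [inv_inv] at this
  have e : s * r * s⁻¹ * r⁻¹ = (s * r * (s * r)) * (r⁻¹ * (s⁻¹ * s⁻¹) * r) * (r⁻¹ * r⁻¹) := by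
    group
  rw [e]
  exact mul_mem (mul_mem h1 h5) h3

/-! ### The action on the elements of order four of `W` -/

end Nxt

open Classical in
/-- an element of order four of `W` with square `p 0 v`. -/
noncomputable def qv {E : Env G F m} {k : ℕ} (L : Lvl E k) (v : F) : G :=
  Classical.choose (L.ab.exists_sq v)

theorem qv_mem {E : Env G F m} {k : ℕ} (L : Lvl E k) (v : F) : qv L v ∈ L.W :=
  (Classical.choose_spec (L.ab.exists_sq v)).1

theorem qv_sq {E : Env G F m} {k : ℕ} (L : Lvl E k) (v : F) : qv L v * qv L v = E.p 0 v :=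
  (Classical.choose_spec (L.ab.exists_sq v)).2

/-- the action on elements of order four -/
noncomputable def nu {E : Env G F m} {k : ℕ} (L : Lvl E k) (s : G) (v : F) : F :=
  zc E (s * qv L v * s⁻¹ * (qv L v)⁻¹)

namespace Nxt

variable {E : Env G F m} {k : ℕ} {L : Lvl E k} (N : Nxt L) [Finite G]

include N

theorem exists_nu {s : G} (hs : s ∈ N.S') {w : G} (hw : w ∈ L.W) {v : F} (h : w * w = E.p 0 v) :
    ∃ b, s * w * s⁻¹ = E.p 0 b * w := by
  apply L.ab.eq_mul_of_sq_eq (N.conj_W hs hw) hw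
  calc s * w * s⁻¹ * (s * w * s⁻¹) = s * (w * w) * s⁻¹ := by group
    _ = w * w := by rw [h, N.comm_z hs, mul_inv_cancel_right]

theorem nu_spec {s : G} (hs : s ∈ N.S') {w : G} (hw : w ∈ L.W) {v : F} (h : w * w = E.p 0 v) :
    s * w * s⁻¹ = E.p 0 (nu L s v) * w := by
  obtain ⟨b, hb⟩ := N.exists_nu hs (qv_mem L v) (qv_sq L v)
  have h1 : nu L s v = b := by
    unfold nu
    rw [hb, mul_inv_cancel_right, zc_p]
  obtain ⟨c, hc⟩ := L.ab.eq_mul_of_sq_eq hw (qv_mem L v) (by rw [h, qv_sq])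
  have h2 := L.W_p _ (qv_mem L v)
  calc s * w * s⁻¹ = (s * E.p 0 c * s⁻¹) * (s * qv L v * s⁻¹) := by rw [hc]; group
    _ = E.p 0 c * (E.p 0 b * qv L v) := by rw [N.comm_z hs, mul_inv_cancel_right, hb]
    _ = E.p 0 b * (E.p 0 c * qv L v) := by
      rw [← mul_assoc, ← mul_assoc, E.z_mul, E.z_mul, add_comm]
    _ = _ := by rw [← hc, h1]

theorem nu_eq {s : G} (hs : s ∈ N.S') {w : G} (hw : w ∈ L.W) {v b : F} (h : w * w = E.p 0 v)
    (hb : s * w * s⁻¹ = E.p 0 b * w) : nu L s v = b := by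
  rw [N.nu_spec hs hw h, mul_left_inj] at hb
  exact E.z_inj hb

theorem nu_mul {s r : G} (hs : s ∈ N.S') (hr : r ∈ N.S') (v : F) :
    nu L (s * r) v = nu L s v + nu L r v := by
  have hq := qv_mem L v
  have h := qv_sq L v
  apply N.nu_eq (mul_mem hs hr) hq h
  calc s * r * qv L v * (s * r)⁻¹ = s * (r * qv L v * r⁻¹) * s⁻¹ := by group
    _ = s * E.p 0 (nu L r v) * s⁻¹ * (s * qv L v * s⁻¹) := by rw [N.nu_spec hr hq h]; group
    _ = E.p 0 (nu L r v) * (E.p 0 (nu L s v) * qv L v) := by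
      rw [N.comm_z hs, mul_inv_cancel_right, N.nu_spec hs hq h]
    _ = _ := by rw [← mul_assoc, E.z_mul, add_comm]

theorem nu_add {s : G} (hs : s ∈ N.S') (v v' : F) : nu L s (v + v') = nu L s v + nu L s v' := by
  have hq := qv_mem L v
  have h := qv_sq L v
  have hq' := qv_mem L v'
  have h' := qv_sq L v'
  have hc := L.ab.comm _ hq _ hq'
  apply N.nu_eq hs (mul_mem hq hq') (v := v + v')
  · calc qv L v * qv L v' * (qv L v * qv L v') = qv L v * (qv L v' * qv L v) * qv L v' := by group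
      _ = (qv L v * qv L v) * (qv L v' * qv L v') := by rw [← hc]; group
      _ = _ := by rw [h, h', E.z_mul]
  · calc s * (qv L v * qv L v') * s⁻¹ = (s * qv L v * s⁻¹) * (s * qv L v' * s⁻¹) := by group
      _ = E.p 0 (nu L s v) * (qv L v * E.p 0 (nu L s v')) * qv L v' := by
        rw [N.nu_spec hs hq h, N.nu_spec hs hq' h']; group
      _ = E.p 0 (nu L s v) * (E.p 0 (nu L s v') * qv L v) * qv L v' := by
        rw [L.W_p _ hq]
      _ = E.p 0 (nu L s v) * E.p 0 (nu L s v') * (qv L v * qv L v') := by group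
      _ = _ := by rw [E.z_mul]

theorem nu_of_comm {s : G} (hs : s ∈ N.S') {v : F} (h : s * qv L v = qv L v * s) :
    nu L s v = 0 := by
  apply N.nu_eq hs (qv_mem L v) (qv_sq L v)
  rw [h, mul_inv_cancel_right, E.p_zero, one_mul]

theorem nu_p (a b v : F) : nu L (E.p a b) v = 0 :=
  N.nu_of_comm (N.p_mem a b) (L.W_p _ (qv_mem L v) a b).symm

theorem nu_W {w : G} (hw : w ∈ L.W) (v : F) : nu L w v = 0 :=
  N.nu_of_comm (N.W_le hw) (L.ab.comm _ hw _ (qv_mem L v))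

theorem nu_t (v : F) : nu L E.t v = v := by
  apply N.nu_eq N.t_mem (qv_mem L v) (qv_sq L v)
  rw [L.W_t _ (qv_mem L v), ← E.z_inv, ← qv_sq L v]
  group

end Nxt

end Cfsg.Agent.StdSz.Tower
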