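import Cfsg.Agent.StdSz.Tower.Step

/-!
# The levels with `(δ, μ) ≠ (0, 0)` are final: generalities and the case `δ ≠ 0`
-/

set_option autoImplicit false
set_option linter.unusedSectionVars false
set_option linter.dupNamespace false

namespace Cfsg.Agent.StdSz.Tower

open Subgroup Cfsg.Agent.StdSz.FormAlg Cfsg.Agent.StdSz.Env

variable {G : Type*} [Group G] {F : Type*} [Field F] [Fintype F] [CharP F 2] {m : ℕ}

/-- elements of `T` with the same square. -/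
theorem T_sq_inj (E : Env G F m) {x y : G} (hx : x ∈ E.T) (hy : y ∈ E.T) (h : x * x = y * y) :
    (x * y⁻¹) * (x * y⁻¹) = 1 := by
  have key : ∀ x ∈ E.T, ∃ a b, (x = E.p a b ∨ x = E.p a b * E.t) ∧
      x * x = E.p 0 (a ^ (1 + 2 ^ (m + 1))) := by
    rintro x ⟨a, b, h | h⟩
    · exact ⟨a, b, Or.inl h, by rw [h, E.p_sq]⟩
    · exact ⟨a, b, Or.inr h, by rw [h, E.pt_sq]⟩
  obtain ⟨a, b, hx', hx2⟩ := key x hx
  obtain ⟨c, d, hy', hy2⟩ := key y hy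
  rw [hx2, hy2] at h
  have hac := norm_inj E.hF (E.z_inj h)
  subst hac
  have hp : ∃ e, E.p a b * (E.p a d)⁻¹ = E.p 0 e := by
    refine ⟨b + d, ?_⟩
    rw [mul_inv_eq_iff_eq_mul, E.z_mul_p]
    congr 1
    rw [add_comm b d, ← add_assoc, FormAlg.add_self, zero_add]
  obtain ⟨e, he⟩ := hp
  have ht := E.t_sq
  have htp := E.t_p a d
  have htz := E.t_p 0 e
  have ct : Commute E.t (E.p a d) := htp
  have cz : Commute E.t (E.p 0 e) := htz
  have hT : ∃ e, x * y⁻¹ = E.p 0 e ∨ x * y⁻¹ = E.p 0 e * E.t := by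
    refine ⟨e, ?_⟩
    rcases hx' with h1 | h1 <;> rcases hy' with h2 | h2 <;> rw [h1, h2]
    · left; exact he
    · right
      rw [mul_inv_rev, E.t_inv, ct.inv_right.eq, ← mul_assoc, he]
    · right
      rw [mul_assoc, ct.inv_right.eq, ← mul_assoc, he]
    · left
      rw [mul_inv_rev, mul_assoc, mul_inv_cancel_left, he]
  obtain ⟨e, h1 | h1⟩ := hT
  · rw [h1, E.z_self]
  · rw [h1, E.pt_sq, zero_pow (by positivity), E.p_zero]

theorem pow_one_two_surj (E : Env G F m) (x : F) : ∃ y : F, y ^ (1 + 2 ^ m) = x := by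
  classical
  rcases eq_or_ne x 0 with rfl | hx
  · exact ⟨0, zero_pow (by positivity)⟩
  -- `gcd (1 + 2 ^ m, 2 ^ (2 m + 1) - 1) = 1`
  have hcop : Nat.Coprime (1 + 2 ^ m) (2 ^ (2 * m + 1) - 1) := by
    have h1 : (2 ^ (2 * m + 1) - 1) = 2 * (2 ^ m - 1) * (1 + 2 ^ m) + 1 := by
      have : 1 ≤ 2 ^ m := Nat.one_le_two_pow
      obtain ⟨j, hj⟩ := Nat.exists_eq_add_of_le this
      have e : 2 ^ (2 * m + 1) = 2 * (2 ^ m * 2 ^ m) := by rw [← Nat.pow_add]; ring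
      rw [e, hj]
      have : 2 * ((1 + j) * (1 + j)) = 2 * (1 + j - 1) * (1 + (1 + j)) + 1 + 1 := by
        have : 1 + j - 1 = j := by omega
        rw [this]; ring
      omega
    rw [h1]
    rw [Nat.coprime_mul_right_add_right]
    exact Nat.coprime_one_right _
  have hcard : Nat.Coprime (Nat.card Fˣ) (1 + 2 ^ m) := by
    rw [Nat.card_eq_fintype_card, Fintype.card_units, E.hF]
    exact hcop.symm
  refine ⟨((powCoprime hcard).symm (Units.mk0 x hx) : Fˣ), ?_⟩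
  have := (powCoprime hcard).apply_symm_apply (Units.mk0 x hx)
  have h2 : ((powCoprime hcard).symm (Units.mk0 x hx)) ^ (1 + 2 ^ m) = Units.mk0 x hx := this
  have h3 := congrArg (fun u : Fˣ => (u : F)) h2
  simpa using h3

namespace Lv

variable {E : Env G F m} {k : ℕ} {δ μ : F} (L : Lv E k δ μ)

theorem t_conj_U {a : F} {w : G} (hw : w ∈ L.W) :
    E.t * (E.p a 0 * w) * E.t⁻¹ = E.p a 0 * (E.p 0 (μ * phi E k w) * w⁻¹) := by
  calc E.t * (E.p a 0 * w) * E.t⁻¹ = (E.t * E.p a 0) * w * E.t⁻¹ := by group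
    _ = E.p a 0 * (E.t * w * E.t⁻¹) := by rw [E.t_p]; group
    _ = _ := by rw [L.W_t w hw]

theorem not_U_iff {x : G} (hx : x ∈ L.S) (hxU : x ∉ L.U) : ∃ a, ∃ w ∈ L.W,
    x = E.p a 0 * w * E.t := by
  rcases L.mem_S.mp hx with h | h
  · exact absurd h hxU
  · obtain ⟨a, w, hw, he⟩ := h
    refine ⟨a, w, hw, ?_⟩
    rw [← he, mul_assoc, E.t_sq, mul_one]

/-- `Z` is central in `S` -/
theorem z_comm_S {x : G} (hx : x ∈ L.S) (b : F) : x * E.p 0 b = E.p 0 b * x := by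
  have hU : ∀ x ∈ L.U, Commute x (E.p 0 b) := by
    rintro x ⟨a, w, hw, rfl⟩
    exact Commute.mul_left (E.z_comm a 0 b) (L.comm_z hw b)
  rcases L.mem_S.mp hx with h | h
  · exact hU x h
  · have h1 := (hU _ h).mul_left (show Commute E.t (E.p 0 b) from E.t_p 0 b)
    rw [mul_assoc, E.t_sq, mul_one] at h1
    exact h1

/-- `x p_c x⁻¹` -/
theorem conj_pc {x : G} (hx : x ∈ L.W) (c : F) :
    x * E.p c 0 * x⁻¹ = E.p 0 (δ * (c * phi E k x) ^ (2 ^ m)) * E.p c 0 := by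
  rw [L.W_p x hx, E.z_mul_p]

/-- `p_a y⁻¹ p_a⁻¹` -/
theorem conj_y {y : G} (hy : y ∈ L.W) (a : F) :
    E.p a 0 * y⁻¹ * (E.p a 0)⁻¹ = E.p 0 (δ * (a * phi E k y) ^ (2 ^ m)) * y⁻¹ := by
  have h1 := L.conj_pc hy a
  have h2 := L.comm_z (inv_mem hy) (δ * (a * phi E k y) ^ (2 ^ m))
  calc E.p a 0 * y⁻¹ * (E.p a 0)⁻¹ = y⁻¹ * (y * E.p a 0 * y⁻¹) * (E.p a 0)⁻¹ := by group
    _ = y⁻¹ * E.p 0 (δ * (a * phi E k y) ^ (2 ^ m)) := by rw [h1]; group
    _ = _ := h2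

theorem mul_sq_U {c : F} {y : G} (hy : y ∈ L.W) :
    (E.p c 0 * y) * (E.p c 0 * y) =
      E.p 0 (c ^ (1 + 2 ^ (m + 1)) + δ * (c * phi E k y) ^ (2 ^ m)) * (y * y) := by
  calc (E.p c 0 * y) * (E.p c 0 * y) = E.p c 0 * (y * E.p c 0 * y⁻¹) * (y * y) := by group
    _ = (E.p c 0 * E.p 0 (δ * (c * phi E k y) ^ (2 ^ m))) * E.p c 0 * (y * y) := by
      rw [L.conj_pc hy]; group
    _ = E.p 0 (δ * (c * phi E k y) ^ (2 ^ m)) * (E.p c 0 * E.p c 0) * (y * y) := by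
      rw [E.z_comm]; group
    _ = _ := by rw [E.p_sq, E.z_mul, add_comm]

/-- the squares of the elements outside `U`. -/
theorem sq_tU {a : F} {x : G} (hx : x ∈ L.W) :
    (E.p a 0 * x * E.t) * (E.p a 0 * x * E.t) =
      E.p 0 (a ^ (1 + 2 ^ (m + 1)) + δ * (a * phi E k x) ^ (2 ^ m) + μ * phi E k x) := by
  have h1 := L.t_conj_U (a := a) hx
  calc (E.p a 0 * x * E.t) * (E.p a 0 * x * E.t)
      = E.p a 0 * x * (E.t * (E.p a 0 * x) * E.t⁻¹) * (E.t * E.t) := by group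
    _ = E.p a 0 * x * (E.p a 0 * (E.p 0 (μ * phi E k x) * x⁻¹)) := by rw [h1, E.t_sq, mul_one]
    _ = E.p a 0 * (x * E.p a 0 * x⁻¹) * (x * E.p 0 (μ * phi E k x)) * x⁻¹ := by group
    _ = E.p a 0 * (E.p 0 (δ * (a * phi E k x) ^ (2 ^ m)) * E.p a 0) *
        (E.p 0 (μ * phi E k x) * x) * x⁻¹ := by rw [L.conj_pc hx, L.comm_z hx]
    _ = (E.p a 0 * E.p 0 (δ * (a * phi E k x) ^ (2 ^ m))) * E.p a 0 *
        E.p 0 (μ * phi E k x) := by group
    _ = E.p 0 (δ * (a * phi E k x) ^ (2 ^ m)) * (E.p a 0 * E.p a 0) *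
        E.p 0 (μ * phi E k x) := by rw [E.z_comm]; group
    _ = _ := by rw [E.p_sq, E.z_mul, E.z_mul, add_comm (δ * _)]

/-- conjugation of `U` by the elements outside `U`. -/
theorem conj_tU {a c : F} {x y : G} (hx : x ∈ L.W) (hy : y ∈ L.W) :
    (E.p a 0 * x * E.t) * (E.p c 0 * y) * (E.p a 0 * x * E.t)⁻¹ =
      E.p 0 (bt m a c + δ * (c * phi E k x) ^ (2 ^ m) + μ * phi E k y +
        δ * (a * phi E k y) ^ (2 ^ m)) * (E.p c 0 * y⁻¹) := by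
  have h1 := L.t_conj_U (a := c) hy
  have h2 := L.conj_pc hx c
  have h3 := L.conj_y hy a
  have h4 : E.p a 0 * E.p c 0 * (E.p a 0)⁻¹ = E.p 0 (bt m a c) * E.p c 0 := by
    rw [E.p_comm]; group
  have h5 := L.comm_z hx (μ * phi E k y)
  have h6 : x * y⁻¹ * x⁻¹ = y⁻¹ := by
    rw [L.ab.comm x hx _ (inv_mem hy), mul_inv_cancel_right]
  set z1 := E.p 0 (δ * (c * phi E k x) ^ (2 ^ m)) with hz1
  set z2 := E.p 0 (μ * phi E k y) with hz2
  set z3 := E.p 0 (δ * (a * phi E k y) ^ (2 ^ m)) with hz3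
  have hc1 : E.p a 0 * z1 = z1 * E.p a 0 := E.z_comm _ _ _
  have hc2 : E.p a 0 * z2 = z2 * E.p a 0 := E.z_comm _ _ _
  have hc3 : E.p c 0 * z2 = z2 * E.p c 0 := E.z_comm _ _ _
  have hc4 : E.p c 0 * z3 = z3 * E.p c 0 := E.z_comm _ _ _
  calc (E.p a 0 * x * E.t) * (E.p c 0 * y) * (E.p a 0 * x * E.t)⁻¹
      = E.p a 0 * x * (E.t * (E.p c 0 * y) * E.t⁻¹) * x⁻¹ * (E.p a 0)⁻¹ := by group
    _ = E.p a 0 * (x * E.p c 0 * x⁻¹) * (x * z2) * y⁻¹ * x⁻¹ * (E.p a 0)⁻¹ := by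
      rw [h1]; group
    _ = E.p a 0 * (z1 * E.p c 0) * (z2 * x) * y⁻¹ * x⁻¹ * (E.p a 0)⁻¹ := by rw [h2, h5]
    _ = (E.p a 0 * z1) * (E.p c 0 * z2) * (x * y⁻¹ * x⁻¹) * (E.p a 0)⁻¹ := by group
    _ = z1 * (E.p a 0 * z2) * E.p c 0 * y⁻¹ * (E.p a 0)⁻¹ := by rw [h6, hc1, hc3]; group
    _ = z1 * z2 * (E.p a 0 * E.p c 0 * (E.p a 0)⁻¹) * (E.p a 0 * y⁻¹ * (E.p a 0)⁻¹) := by
      rw [hc2]; group
    _ = z1 * z2 * (E.p 0 (bt m a c) * E.p c 0) * (z3 * y⁻¹) := by rw [h3, h4]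
    _ = z1 * z2 * E.p 0 (bt m a c) * (E.p c 0 * z3) * y⁻¹ := by group
    _ = z1 * z2 * E.p 0 (bt m a c) * z3 * (E.p c 0 * y⁻¹) := by rw [hc4]; group
    _ = _ := by
      rw [hz1, hz2, hz3, E.z_mul, E.z_mul, E.z_mul]
      congr 2
      ring

/-- `W` is large: elements of order four -/
theorem exists_pair : ∃ w ∈ L.W, ∃ v ∈ L.W, ∃ b c : F, w * w = E.p 0 b ∧ v * v = E.p 0 c ∧
    b ≠ 0 ∧ c ≠ 0 ∧ b ≠ c := by
  obtain ⟨c, hc0, hc1⟩ := exists_ne_zero_one E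
  obtain ⟨w, hw, h1⟩ := L.ab.exists_sq 1
  obtain ⟨v, hv, h2⟩ := L.ab.exists_sq c
  exact ⟨w, hw, v, hv, 1, c, h1, h2, one_ne_zero, hc0, hc1.symm⟩

theorem pow_four_of_sq {w : G} {b : F} (h : w * w = E.p 0 b) : w ^ 4 = 1 := by
  have : w ^ 4 = (w * w) * (w * w) := by simp only [pow_succ, pow_zero, one_mul, mul_assoc]
  rw [this, h, E.z_self]

/-- elements of `W` of order dividing four are central in `U`. -/
theorem comm_U {w : G} (hw : w ∈ L.W) (h4 : w ^ 4 = 1) {x : G} (hx : x ∈ L.U) :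
    w * x = x * w := by
  obtain ⟨a, y, hy, rfl⟩ := hx
  have h1 : Commute w (E.p a 0) := by
    have := L.W_p w hw a 0
    rw [L.delta_phi hw h4, add_zero] at this
    exact mul_inv_eq_iff_eq_mul.mp this
  exact (h1.mul_right (L.ab.comm w hw y hy)).eq

variable [Finite G]

/-- `C_S(t) = T`. -/
theorem mem_T_of_comm {x : G} (hx : x ∈ L.S) (h : x * E.t = E.t * x) : x ∈ E.T :=
  E.mem_T_of_comm L.good.two_S L.good.T_le_S hx h

/-- elements of `N(S)` move `t` outside `U`. -/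
theorem t_conj_not {s : G} (hs : s ∈ normalizer (L.S : Set G)) : s * E.t * s⁻¹ ∉ L.U := by
  intro hU
  obtain ⟨w, hw, v, hv, b, c, hwb, hvc, hb, hc, hbc⟩ := L.exists_pair
  have key : ∀ x ∈ L.W, x ^ 4 = 1 → s⁻¹ * x * s ∈ E.T := by
    intro x hx h4
    apply L.mem_T_of_comm
    · have := (mem_normalizer_iff.mp (inv_mem hs) x).mp (L.good.W_le_S hx)
      rwa [inv_inv] at this
    · have h3 := L.comm_U hx h4 hU
      calc s⁻¹ * x * s * E.t = s⁻¹ * (x * (s * E.t * s⁻¹)) * s := by group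
        _ = s⁻¹ * ((s * E.t * s⁻¹) * x) * s := by rw [h3]
        _ = E.t * (s⁻¹ * x * s) := by group
  have hsq : ∀ x y : G, s⁻¹ * x * s * (s⁻¹ * y * s) = s⁻¹ * (x * y) * s := by
    intro x y; group
  have hne : ∀ x y : G, s⁻¹ * x * s = s⁻¹ * y * s → x = y := by
    intro x y hxy
    have := congrArg (fun z => s * z * s⁻¹) hxy
    simpa [mul_assoc] using this
  apply hbc
  apply E.z_inj
  rw [← hwb, ← hvc]
  apply hne
  rw [← hsq, ← hsq]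
  apply T_sq_eq E (key w hw (pow_four_of_sq hwb)) (key v hv (pow_four_of_sq hvc))
  · rw [hsq, hsq, L.ab.comm w hw v hv]
  · rw [hsq]; intro h
    apply hb
    apply E.z_eq_one
    rw [← hwb]
    apply hne; rw [h]; group
  · rw [hsq]; intro h
    apply hc
    apply E.z_eq_one
    rw [← hvc]
    apply hne; rw [h]; group

/-- the shape of `s t s⁻¹`. -/
theorem exists_shape {s : G} (hs : s ∈ normalizer (L.S : Set G)) : ∃ a, ∃ x ∈ L.W,
    s * E.t * s⁻¹ = E.p a 0 * x * E.t ∧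
      a ^ (1 + 2 ^ (m + 1)) + δ * (a * phi E k x) ^ (2 ^ m) + μ * phi E k x = 0 := by
  have h1 : s * E.t * s⁻¹ ∈ L.S := (mem_normalizer_iff.mp hs _).mp L.good.t_mem_S
  have h2 : (s * E.t * s⁻¹) * (s * E.t * s⁻¹) = 1 := by
    calc (s * E.t * s⁻¹) * (s * E.t * s⁻¹) = s * (E.t * E.t) * s⁻¹ := by group
      _ = 1 := by rw [E.t_sq]; group
  obtain ⟨a, x, hx, he⟩ := L.not_U_iff h1 (L.t_conj_not hs)
  refine ⟨a, x, hx, he, ?_⟩
  rw [he, L.sq_tU hx] at h2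
  exact E.z_eq_one h2

end Lv

/-- the data of an element `s` of the normaliser of `S`. -/
structure Mv {E : Env G F m} {k : ℕ} {δ μ : F} (L : Lv E k δ μ) (s : G) (a : F) (x : G) : Prop
    where
  k3 : 3 ≤ k
  hs : s ∈ normalizer (L.S : Set G)
  hx : x ∈ L.W
  he : s * E.t * s⁻¹ = E.p a 0 * x * E.t
  hz : a ^ (1 + 2 ^ (m + 1)) + δ * (a * phi E k x) ^ (2 ^ m) + μ * phi E k x = 0

namespace Mv

variable {E : Env G F m} {k : ℕ} {δ μ : F} {L : Lv E k δ μ} {s : G} {a : F} {x : G}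
  (M : Mv L s a x)

include M

theorem phi_zero {y : G} (hy : y ∈ L.W) (h4 : y ^ 4 = 1) : phi E k y = 0 := by
  apply L.ab.phi_eq hy
  obtain ⟨j, rfl⟩ := Nat.exists_eq_add_of_le M.k3
  have : 2 ^ (3 + j - 1) = 4 * 2 ^ j := by
    have e : 3 + j - 1 = j + 2 := by omega
    rw [e, Nat.pow_add]; ring
  rw [this, pow_mul, h4, one_pow, E.p_zero]

/-- the elements of `U` commuting with `s t s⁻¹`. -/
theorem comm_iff {c : F} {y : G} (hy : y ∈ L.W) :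
    (E.p c 0 * y) * (s * E.t * s⁻¹) = (s * E.t * s⁻¹) * (E.p c 0 * y) ↔
      y * y = E.p 0 (bt m a c + δ * (c * phi E k x) ^ (2 ^ m)) := by
  have h1 := L.conj_tU (a := a) (c := c) M.hx hy
  rw [M.he]
  set z := bt m a c + δ * (c * phi E k x) ^ (2 ^ m) + μ * phi E k y +
    δ * (a * phi E k y) ^ (2 ^ m) with hzdef
  constructor
  · intro h
    rw [← h, mul_inv_cancel_right, ← mul_assoc, ← E.z_comm, mul_assoc, mul_right_inj] at h1
    have h2 : y * y = E.p 0 z := by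
      nth_rewrite 1 [h1]
      rw [inv_mul_cancel_right]
    have h0 := M.phi_zero hy (Lv.pow_four_of_sq h2)
    rw [h2, hzdef, h0]
    congr 1
    rw [mul_zero, mul_zero, zero_pow (by positivity), mul_zero, add_zero, add_zero]
  · intro h
    have h0 := M.phi_zero hy (Lv.pow_four_of_sq h)
    have h2 : E.p 0 z = y * y := by
      rw [h, hzdef, h0]
      congr 1
      rw [mul_zero, mul_zero, zero_pow (by positivity), mul_zero, add_zero, add_zero]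
    have h3 : E.p 0 z * (E.p c 0 * y⁻¹) = E.p c 0 * y := by
      rw [← mul_assoc, ← E.z_comm, mul_assoc, h2, mul_inv_cancel_right]
    rw [h3] at h1
    exact (mul_inv_eq_iff_eq_mul.mp h1).symm

variable [Finite G]

theorem mem_T {g : G} (hg : g ∈ L.S) (hc : g * (s * E.t * s⁻¹) = (s * E.t * s⁻¹) * g) :
    s⁻¹ * g * s ∈ E.T := by
  apply L.mem_T_of_comm
  · have := (mem_normalizer_iff.mp (inv_mem M.hs) g).mp hg
    rwa [inv_inv] at this
  · calc s⁻¹ * g * s * E.t = s⁻¹ * (g * (s * E.t * s⁻¹)) * s := by group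
      _ = s⁻¹ * ((s * E.t * s⁻¹) * g) * s := by rw [hc]
      _ = E.t * (s⁻¹ * g * s) := by group

/-- `s` normalises `Z` -/
theorem conj_z (b : F) : ∃ b', s * E.p 0 b * s⁻¹ = E.p 0 b' := by
  -- `p 0 b` is a square
  have hb : E.p (b ^ (2 ^ (m + 1) - 1)) 0 * E.p (b ^ (2 ^ (m + 1) - 1)) 0 = E.p 0 b := by
    rw [E.p_sq, SzMaps.norm_surj E.hF]
  set c := b ^ (2 ^ (m + 1) - 1) with hc
  have hS : s * E.p c 0 * s⁻¹ ∈ L.S := (mem_normalizer_iff.mp M.hs _).mp (L.good.p_mem_S c 0)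
  have hcomm : (s * E.p c 0 * s⁻¹) * (s * E.t * s⁻¹) = (s * E.t * s⁻¹) * (s * E.p c 0 * s⁻¹) := by
    calc (s * E.p c 0 * s⁻¹) * (s * E.t * s⁻¹) = s * (E.p c 0 * E.t) * s⁻¹ := by group
      _ = s * (E.t * E.p c 0) * s⁻¹ := by rw [E.t_p]
      _ = _ := by group
  have hUsq : ∀ g ∈ L.U, g * (s * E.t * s⁻¹) = (s * E.t * s⁻¹) * g → ∃ b', g * g = E.p 0 b' := by
    rintro g ⟨d, y, hy, rfl⟩ hg
    have h1 := (M.comm_iff hy).mp hg
    have h0 := M.phi_zero hy (Lv.pow_four_of_sq h1)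
    rw [L.mul_sq_U hy, h1, E.z_mul]
    exact ⟨_, rfl⟩
  have e : s * E.p 0 b * s⁻¹ = (s * E.p c 0 * s⁻¹) * (s * E.p c 0 * s⁻¹) := by
    rw [← hb]; group
  rw [e]
  by_cases hU : s * E.p c 0 * s⁻¹ ∈ L.U
  · exact hUsq _ hU hcomm
  · -- multiply by `s t s⁻¹`
    obtain ⟨d, y, hy, hd⟩ := L.not_U_iff hS hU
    have h1 : (s * E.p c 0 * s⁻¹) * (s * E.t * s⁻¹) ∈ L.U := by
      rw [hd, M.he]
      have : E.p d 0 * y * E.t * (E.p a 0 * x * E.t) =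
          (E.p d 0 * y) * (E.t * (E.p a 0 * x) * E.t⁻¹) * (E.t * E.t) := by group
      rw [this, E.t_sq, mul_one]
      exact mul_mem ⟨d, y, hy, rfl⟩ (L.good.t_U ⟨a, x, M.hx, rfl⟩)
    have h2 : (s * E.p c 0 * s⁻¹) * (s * E.t * s⁻¹) * (s * E.t * s⁻¹) =
        (s * E.t * s⁻¹) * ((s * E.p c 0 * s⁻¹) * (s * E.t * s⁻¹)) := by
      rw [← mul_assoc (s * E.t * s⁻¹), ← hcomm]
    obtain ⟨b', hb'⟩ := hUsq _ h1 h2
    refine ⟨b', ?_⟩
    rw [← hb']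
    have ht : (s * E.t * s⁻¹) * (s * E.t * s⁻¹) = 1 := by
      calc (s * E.t * s⁻¹) * (s * E.t * s⁻¹) = s * (E.t * E.t) * s⁻¹ := by group
        _ = 1 := by rw [E.t_sq]; group
    calc (s * E.p c 0 * s⁻¹) * (s * E.p c 0 * s⁻¹)
        = (s * E.p c 0 * s⁻¹) * ((s * E.t * s⁻¹) * (s * E.t * s⁻¹)) * (s * E.p c 0 * s⁻¹) := by
          rw [ht, mul_one]
      _ = (s * E.p c 0 * s⁻¹) * (s * E.t * s⁻¹) * ((s * E.t * s⁻¹) * (s * E.p c 0 * s⁻¹)) := by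
          group
      _ = _ := by rw [← hcomm]

/-- involutions of `U` commuting with `s t s⁻¹` lie in `Z`. -/
theorem invol {g : G} (hg : g ∈ L.U) (hc : g * (s * E.t * s⁻¹) = (s * E.t * s⁻¹) * g)
    (h1 : g * g = 1) : ∃ b, g = E.p 0 b := by
  have hT := M.mem_T (L.good.U_le_S hg) hc
  obtain ⟨b, hb⟩ := E.eq_of_mem_T hT (by
    calc s⁻¹ * g * s * (s⁻¹ * g * s) = s⁻¹ * (g * g) * s := by group
      _ = 1 := by rw [h1]; group)
  obtain ⟨b', hb'⟩ := M.conj_z b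
  rcases hb with hb | hb
  · refine ⟨b', ?_⟩
    rw [← hb', ← hb]; group
  · exfalso
    have e : g = E.p 0 b' * (s * E.t * s⁻¹) := by
      rw [← hb']
      calc g = s * (s⁻¹ * g * s) * s⁻¹ := by group
        _ = s * (E.p 0 b * E.t) * s⁻¹ := by rw [hb]
        _ = _ := by group
    apply L.t_conj_not M.hs
    have : s * E.t * s⁻¹ = (E.p 0 b')⁻¹ * g := by rw [e]; group
    rw [this]
    exact mul_mem (inv_mem (L.good.p_mem_U 0 b')) hg

/-- **The case `δ ≠ 0`.** -/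
theorem phi_eq_zero_of_delta (hδ : δ ≠ 0) : phi E k x = 0 := by
  by_contra hb
  set b := phi E k x with hbdef
  obtain ⟨x1, hx1⟩ := pow_one_two_surj E (δ * b ^ (2 ^ m))
  have hx10 : x1 ≠ 0 := by
    rintro rfl
    rw [zero_pow (by positivity)] at hx1
    exact (mul_ne_zero hδ (pow_ne_zero _ hb)) hx1.symm
  -- two elements with the same square
  let l : F → F := fun c => bt m a c + δ * (c * b) ^ (2 ^ m)
  have hF : (a + x1) ^ (1 + 2 ^ (m + 1)) + l (a + x1) = a ^ (1 + 2 ^ (m + 1)) + l a := by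
    show (a + x1) ^ (1 + 2 ^ (m + 1)) + (bt m a (a + x1) + δ * ((a + x1) * b) ^ (2 ^ m)) =
      a ^ (1 + 2 ^ (m + 1)) + (bt m a a + δ * (a * b) ^ (2 ^ m))
    have e1 : (a + x1) ^ (1 + 2 ^ (m + 1)) =
        a ^ (1 + 2 ^ (m + 1)) + x1 ^ (1 + 2 ^ (m + 1)) + bt m a x1 := by
      rw [_root_.pow_add (a + x1), _root_.pow_add a 1, _root_.pow_add x1 1, pow_one,
        FormAlg.pow_add, pow_one, pow_one]
      unfold bt
      ring
    have e2 : x1 ^ (1 + 2 ^ (m + 1)) = δ * (x1 * b) ^ (2 ^ m) := by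
      have : x1 ^ (1 + 2 ^ (m + 1)) = x1 ^ (1 + 2 ^ m) * x1 ^ (2 ^ m) := by
        rw [← _root_.pow_add]; congr 1; rw [pow_succ]; ring
      rw [this, hx1, mul_pow]; ring
    rw [e1, e2, bt_add_right, bt_self, add_mul, FormAlg.pow_add]
    have h2 : ∀ y : F, y + y = 0 := FormAlg.add_self
    linear_combination h2 (δ * (x1 * b) ^ 2 ^ m) + h2 (bt m a x1)
  obtain ⟨y1, hy1, hy1'⟩ := L.ab.exists_sq (l a)
  obtain ⟨y2, hy2, hy2'⟩ := L.ab.exists_sq (l (a + x1))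
  have hφ1 := M.phi_zero hy1 (Lv.pow_four_of_sq hy1')
  have hφ2 := M.phi_zero hy2 (Lv.pow_four_of_sq hy2')
  have hc1 := (M.comm_iff (c := a) hy1).mpr hy1'
  have hc2 := (M.comm_iff (c := a + x1) hy2).mpr hy2'
  set g1 := E.p a 0 * y1 with hg1
  set g2 := E.p (a + x1) 0 * y2 with hg2
  have hg1U : g1 ∈ L.U := ⟨_, y1, hy1, rfl⟩
  have hg2U : g2 ∈ L.U := ⟨_, y2, hy2, rfl⟩
  have hsq : g1 * g1 = g2 * g2 := by
    rw [hg1, hg2, L.mul_sq_U hy1, L.mul_sq_U hy2, hy1', hy2', hφ1, hφ2, E.z_mul, E.z_mul,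
      mul_zero, mul_zero, zero_pow (by positivity), mul_zero, add_zero, add_zero, hF]
  have h1 := T_sq_inj E (M.mem_T (L.good.U_le_S hg1U) hc1) (M.mem_T (L.good.U_le_S hg2U) hc2)
    (by
      calc s⁻¹ * g1 * s * (s⁻¹ * g1 * s) = s⁻¹ * (g1 * g1) * s := by group
        _ = s⁻¹ * (g2 * g2) * s := by rw [hsq]
        _ = _ := by group)
  have h2 : (g1 * g2⁻¹) * (g1 * g2⁻¹) = 1 := by
    have e : (s⁻¹ * g1 * s * (s⁻¹ * g2 * s)⁻¹) * (s⁻¹ * g1 * s * (s⁻¹ * g2 * s)⁻¹) =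
        s⁻¹ * ((g1 * g2⁻¹) * (g1 * g2⁻¹)) * s := by group
    rw [e] at h1
    have := congrArg (fun z => s * z * s⁻¹) h1
    simpa [mul_assoc] using this
  have hc3 : (g1 * g2⁻¹) * (s * E.t * s⁻¹) = (s * E.t * s⁻¹) * (g1 * g2⁻¹) :=
    (Commute.mul_left (show Commute g1 _ from hc1)
      (show Commute g2 (s * E.t * s⁻¹) from hc2).inv_left).eq
  obtain ⟨b', hb'⟩ := M.invol (mul_mem hg1U (inv_mem hg2U)) hc3 h2
  have h3 : g1 = E.p 0 b' * g2 := by rw [← hb']; group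
  have h4 : E.p a 0 * y1 = E.p (a + x1) 0 * (E.p 0 b' * y2) := by
    rw [← hg1, h3, hg2, ← mul_assoc, ← mul_assoc, E.z_comm]
  have h5 := (L.good.U_inj hy1 (mul_mem (L.ab.z_mem _) hy2) h4).1
  exact hx10 (left_eq_add.mp h5)

end Mv

end Cfsg.Agent.StdSz.Tower
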