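import Cfsg.Agent.StdSz.Tower.Bad
import Cfsg.Agent.StdSz.Gold

/-!
# The levels with `δ = 0`, `μ ≠ 0`
-/

set_option autoImplicit false
set_option linter.unusedSectionVars false
set_option linter.dupNamespace false

namespace Cfsg.Agent.StdSz.Tower

open Subgroup Cfsg.Agent.StdSz.FormAlg Cfsg.Agent.StdSz.Env

variable {G : Type*} [Group G] {F : Type*} [Field F] [Fintype F] [CharP F 2] {m : ℕ}

theorem norm_add (a d : F) : (a + d) ^ (1 + 2 ^ (m + 1)) =
    a ^ (1 + 2 ^ (m + 1)) + d ^ (1 + 2 ^ (m + 1)) + bt m a d := by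
  rw [_root_.pow_add (a + d), _root_.pow_add a 1, _root_.pow_add d 1, pow_one,
    FormAlg.pow_add, pow_one, pow_one]
  unfold bt
  ring

theorem eq_zero_of_bt (E : Env G F m) {a : F} (ha : ∀ c : F, bt m a c = 0) : a = 0 := by
  by_contra hne
  obtain ⟨c, hc0, hc1⟩ := exists_ne_zero_one E
  rcases bt_eq_zero E.hF (ha (a * c)) with h | h | h
  · exact hne h
  · exact (mul_ne_zero hne hc0) h
  · exact hc1 (mul_left_cancel₀ hne (by rw [h, mul_one]))

namespace Lv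

variable {E : Env G F m} {k : ℕ} {μ : F} (L : Lv E k 0 μ)

/-- `W` is central in `U`. -/
theorem W_comm_U {w x : G} (hw : w ∈ L.W) (hx : x ∈ L.U) : w * x = x * w := by
  obtain ⟨a, y, hy, rfl⟩ := hx
  have h1 : Commute w (E.p a 0) := by
    have := L.W_p w hw a 0
    rw [zero_mul, add_zero] at this
    exact mul_inv_eq_iff_eq_mul.mp this
  exact (h1.mul_right (L.ab.comm w hw y hy)).eq

/-- elements outside `U` act on `W` as `t`. -/
theorem conj_W_of_not {g w : G} (hg : g ∈ L.S) (hgU : g ∉ L.U) (hw : w ∈ L.W) :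
    g * w * g⁻¹ = E.p 0 (μ * phi E k w) * w⁻¹ := by
  obtain ⟨a, x, hx, rfl⟩ := L.not_U_iff hg hgU
  have h1 := L.conj_tU (a := a) (c := 0) hx hw
  rw [E.p_zero, one_mul, one_mul, bt_zero_right] at h1
  rw [h1]
  congr 2
  ring

/-- if `p_d y` commutes with `p_c f` for all `c` then `d = 0`. -/
theorem mem_W_of_comm {g : G} (hg : g ∈ L.U)
    (h : ∀ c : F, ∃ f ∈ L.W, g * (E.p c 0 * f) = (E.p c 0 * f) * g) : g ∈ L.W := by
  obtain ⟨d, y, hy, rfl⟩ := hg
  have hd : d = 0 := by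
    apply eq_zero_of_bt E
    intro c
    obtain ⟨f, hf, hc⟩ := h c
    have h1 := L.W_comm_U hf (L.good.p_mem_U d 0)
    have h2 := L.W_comm_U hy (L.good.p_mem_U c 0)
    have h3 := L.ab.comm y hy f hf
    have h4 : E.p d 0 * E.p c 0 * (y * f) = E.p c 0 * E.p d 0 * (y * f) := by
      calc E.p d 0 * E.p c 0 * (y * f) = E.p d 0 * (y * E.p c 0) * f := by rw [h2]; group
        _ = E.p d 0 * y * (E.p c 0 * f) := by group
        _ = (E.p c 0 * f) * (E.p d 0 * y) := hc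
        _ = E.p c 0 * (f * E.p d 0) * y := by group
        _ = E.p c 0 * E.p d 0 * (f * y) := by rw [h1]; group
        _ = _ := by rw [h3]
    have h5 := mul_right_cancel h4
    rw [E.p_comm] at h5
    exact E.z_eq_one (mul_eq_right.mp h5)
  subst hd
  rw [E.p_zero, one_mul]; exact hy

end Lv

namespace Mv

variable {E : Env G F m} {k : ℕ} {μ : F} {L : Lv E k 0 μ} {s : G} {a : F} {x : G}
  (M : Mv L s a x) [Finite G]

include M

omit [Finite G] in
theorem conj_mem {y : G} (hy : y ∈ L.S) : s * y * s⁻¹ ∈ L.S :=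
  (mem_normalizer_iff.mp M.hs _).mp hy

omit [Finite G] in
theorem mul_conj (y z : G) : s * y * s⁻¹ * (s * z * s⁻¹) = s * (y * z) * s⁻¹ := by group

/-- **`s P s⁻¹ ≤ U`.** -/
theorem conj_p_mem (c : F) : s * E.p c 0 * s⁻¹ ∈ L.U := by
  by_contra hcon
  have hg0 := M.conj_mem (L.good.p_mem_S c 0)
  have key : ∀ w ∈ L.W, ∀ b : F, w * w = E.p 0 b → b ≠ 0 → s * w * s⁻¹ ∉ L.U := by
    intro w hw b hwb hb hU
    obtain ⟨d, y, hy, hr⟩ := hU
    have hφw := M.phi_zero hw (Lv.pow_four_of_sq hwb)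
    -- `t₁ r t₁⁻¹ = r⁻¹`
    have h1 : (s * E.t * s⁻¹) * (s * w * s⁻¹) * (s * E.t * s⁻¹)⁻¹ = (s * w * s⁻¹)⁻¹ := by
      calc (s * E.t * s⁻¹) * (s * w * s⁻¹) * (s * E.t * s⁻¹)⁻¹ = s * (E.t * w * E.t⁻¹) * s⁻¹ := by
            group
        _ = s * w⁻¹ * s⁻¹ := by rw [L.W_t w hw, hφw, mul_zero, E.p_zero, one_mul]
        _ = _ := by group
    rw [hr, M.he, L.conj_tU M.hx hy, mul_inv_rev] at h1
    have h2 : y⁻¹ * (E.p d 0)⁻¹ = (E.p d 0)⁻¹ * y⁻¹ :=
      ((show Commute y (E.p d 0) from L.W_comm_U hy (L.good.p_mem_U d 0)).inv_inv).eq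
    rw [h2, ← mul_assoc, mul_left_inj, E.p_inv, E.z_mul_p] at h1
    have h3 := (E.p_inj _ _ _ _ h1).2
    rw [zero_mul, zero_mul, add_zero, add_zero, zero_add, zero_add] at h3
    -- `y ^ 4 = 1`
    have h4 : y ^ 4 = 1 := by
      have e : (s * w * s⁻¹) * (s * w * s⁻¹) * ((s * w * s⁻¹) * (s * w * s⁻¹)) = 1 := by
        rw [M.mul_conj, M.mul_conj, hwb, E.z_self]; group
      rw [hr, L.mul_sq_U hy] at e
      have e2 : y * y * E.p 0 (d ^ (1 + 2 ^ (m + 1)) + 0 * (d * phi E k y) ^ (2 ^ m)) =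
          E.p 0 (d ^ (1 + 2 ^ (m + 1)) + 0 * (d * phi E k y) ^ (2 ^ m)) * (y * y) :=
        L.comm_z (mul_mem hy hy) _
      set z := E.p 0 (d ^ (1 + 2 ^ (m + 1)) + 0 * (d * phi E k y) ^ (2 ^ m)) with hz
      have e3 : z * z = 1 := E.z_self _
      have e4 : z * (y * y) * (z * (y * y)) = z * z * ((y * y) * (y * y)) := by
        calc z * (y * y) * (z * (y * y)) = z * ((y * y) * z) * (y * y) := by group
          _ = z * (z * (y * y)) * (y * y) := by rw [e2]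
          _ = _ := by group
      rw [e4, e3, one_mul] at e
      rw [← e]
      simp only [pow_succ, pow_zero, one_mul, mul_assoc]
    rw [M.phi_zero hy h4, mul_zero, add_zero] at h3
    have h5 : d = 0 := by
      have h6 : (a + d) ^ (1 + 2 ^ (m + 1)) = a ^ (1 + 2 ^ (m + 1)) := by
        rw [norm_add, ← h3, add_assoc, FormAlg.add_self, add_zero]
      have h7 := norm_inj E.hF h6
      exact add_eq_left.mp h7
    subst h5
    rw [E.p_zero, one_mul] at hr
    -- `y` commutes with `s p_c s⁻¹`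
    have h6 : (s * E.p c 0 * s⁻¹) * y * (s * E.p c 0 * s⁻¹)⁻¹ = y := by
      rw [← hr]
      have := L.W_comm_U hw (L.good.p_mem_U c 0)
      calc (s * E.p c 0 * s⁻¹) * (s * w * s⁻¹) * (s * E.p c 0 * s⁻¹)⁻¹
          = s * (E.p c 0 * w) * (E.p c 0)⁻¹ * s⁻¹ := by group
        _ = s * (w * E.p c 0) * (E.p c 0)⁻¹ * s⁻¹ := by rw [this]
        _ = _ := by group
    rw [L.conj_W_of_not hg0 hcon hy, M.phi_zero hy h4, mul_zero, E.p_zero, one_mul] at h6
    have h7 : y * y = 1 := by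
      nth_rewrite 1 [← h6]; rw [inv_mul_cancel]
    apply hb
    apply E.z_eq_one
    rw [← hwb]
    have h8 : s * (w * w) * s⁻¹ = 1 := by rw [← M.mul_conj, hr, h7]
    have := congrArg (fun z => s⁻¹ * z * s) h8
    simpa [mul_assoc] using this
  obtain ⟨w, hw, v, hv, b, c', hwb, hvc, hb, hc, hbc⟩ := L.exists_pair
  have h1 := key w hw b hwb hb
  have h2 := key v hv c' hvc hc
  have h3 : (w * v) * (w * v) = E.p 0 (b + c') := by
    rw [L.ab.mul_mul_mul hw hv, hwb, hvc, E.z_mul]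
  apply key (w * v) (mul_mem hw hv) (b + c') h3
  · intro h; exact hbc (CharTwo.add_eq_zero.mp h)
  · rw [← M.mul_conj]
    obtain ⟨a1, w1, hw1, e1⟩ := L.not_U_iff (M.conj_mem (L.good.W_le_S hw)) h1
    obtain ⟨a2, w2, hw2, e2⟩ := L.not_U_iff (M.conj_mem (L.good.W_le_S hv)) h2
    rw [e1, e2]
    have : E.p a1 0 * w1 * E.t * (E.p a2 0 * w2 * E.t) =
        (E.p a1 0 * w1) * (E.t * (E.p a2 0 * w2) * E.t⁻¹) * (E.t * E.t) := by group
    rw [this, E.t_sq, mul_one]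
    exact mul_mem ⟨a1, w1, hw1, rfl⟩ (L.good.t_U ⟨a2, w2, hw2, rfl⟩)

/-- the maps `A`, `B` induced by `s`. -/
theorem exists_AB : ∃ A B : F → F,
    (∀ c, ∃ f ∈ L.W, s * E.p c 0 * s⁻¹ = E.p (A c) 0 * f ∧ f * f = E.p 0 (bt m a (A c))) ∧
    (∀ b, s * E.p 0 b * s⁻¹ = E.p 0 (B b)) ∧ (∀ y z, A (y + z) = A y + A z) ∧
    (∀ y z, B (y + z) = B y + B z) ∧ (∀ y z, bt m (A y) (A z) = B (bt m y z)) ∧
    (∀ c, B (c ^ (1 + 2 ^ (m + 1))) = (A c) ^ (1 + 2 ^ (m + 1)) + bt m a (A c)) := by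
  choose B hB using M.conj_z
  have hA : ∀ c, ∃ d, ∃ f ∈ L.W, s * E.p c 0 * s⁻¹ = E.p d 0 * f := M.conj_p_mem
  choose A f hf hAf using hA
  have hfsq : ∀ c, f c * f c = E.p 0 (bt m a (A c)) := by
    intro c
    have h1 : (E.p (A c) 0 * f c) * (s * E.t * s⁻¹) = (s * E.t * s⁻¹) * (E.p (A c) 0 * f c) := by
      rw [← hAf, M.mul_conj, M.mul_conj, E.t_p]
    have := (M.comm_iff (hf c)).mp h1
    rw [zero_mul, add_zero] at this
    exact this
  have hBadd : ∀ y z, B (y + z) = B y + B z := by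
    intro y z
    apply E.z_inj
    rw [← hB, ← E.z_mul, ← M.mul_conj, hB, hB, E.z_mul]
  have hfc : ∀ c d, f c * E.p d 0 = E.p d 0 * f c := fun c d =>
    L.W_comm_U (hf c) (L.good.p_mem_U d 0)
  have hmul : ∀ y z, s * (E.p y 0 * E.p z 0) * s⁻¹ =
      (E.p (A y) 0 * E.p (A z) 0) * (f y * f z) := by
    intro y z
    rw [← M.mul_conj, hAf, hAf]
    calc E.p (A y) 0 * f y * (E.p (A z) 0 * f z) = E.p (A y) 0 * (f y * E.p (A z) 0) * f z := by
          group
      _ = _ := by rw [hfc]; group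
  refine ⟨A, B, fun c => ⟨f c, hf c, hAf c, hfsq c⟩, hB, ?_, hBadd, ?_, ?_⟩
  · intro y z
    have h1 := hmul y z
    rw [E.p_mul, E.p_mul] at h1
    simp only [zero_add] at h1
    have h2 : E.p (y + z) (y ^ 2 ^ (m + 1) * z) = E.p 0 (y ^ 2 ^ (m + 1) * z) * E.p (y + z) 0 := by
      rw [E.z_mul_p, zero_add]
    have h3 : E.p (A y + A z) ((A y) ^ 2 ^ (m + 1) * A z) =
        E.p (A y + A z) 0 * E.p 0 ((A y) ^ 2 ^ (m + 1) * A z) := by
      rw [E.p_mul_z, zero_add]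
    rw [h2, h3, ← M.mul_conj, hB, hAf] at h1
    have h4 : E.p (A (y + z)) 0 * (E.p 0 (B (y ^ 2 ^ (m + 1) * z)) * f (y + z)) =
        E.p (A y + A z) 0 * (E.p 0 ((A y) ^ 2 ^ (m + 1) * A z) * (f y * f z)) := by
      rw [← mul_assoc, E.z_comm, mul_assoc, h1, mul_assoc]
    exact (L.good.U_inj (mul_mem (L.ab.z_mem _) (hf _))
      (mul_mem (L.ab.z_mem _) (mul_mem (hf _) (hf _))) h4).1
  · intro y z
    have h1 : s * (E.p y 0 * E.p z 0) * s⁻¹ =
        s * (E.p 0 (bt m y z) * (E.p z 0 * E.p y 0)) * s⁻¹ := by rw [E.p_comm]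
    rw [← M.mul_conj (E.p 0 _), hmul, hmul, hB, E.p_comm (A y), L.ab.comm _ (hf y) _ (hf z)] at h1
    rw [← mul_assoc (E.p 0 (B (bt m y z)))] at h1
    have h2 := mul_right_cancel h1
    exact E.z_inj (mul_right_cancel h2)
  · intro c
    have h1 := hmul c c
    rw [E.p_sq, E.p_sq, hB, hfsq, E.z_mul] at h1
    exact E.z_inj h1

/-- the maps `A`, `B` with more properties. -/
theorem exists_AB' : ∃ A B : F → F,
    (∀ c, ∃ f ∈ L.W, s * E.p c 0 * s⁻¹ = E.p (A c) 0 * f ∧ f * f = E.p 0 (bt m a (A c))) ∧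
    (∀ b, s * E.p 0 b * s⁻¹ = E.p 0 (B b)) ∧ (∀ y z, A (y + z) = A y + A z) ∧
    (∀ y z, B (y + z) = B y + B z) ∧ (∀ y z, bt m (A y) (A z) = B (bt m y z)) ∧
    (∀ c, B (c ^ (1 + 2 ^ (m + 1))) = (A c) ^ (1 + 2 ^ (m + 1)) + bt m a (A c)) ∧
    Function.Injective B ∧ Function.Surjective A ∧ (∀ c, A c = 0 → c = 0) := by
  obtain ⟨A, B, hA, hB, hAadd, hBadd, hbt, hN⟩ := M.exists_AB
  have hBinj : Function.Injective B := by
    intro y z h
    apply E.z_inj
    have h1 : s * E.p 0 y * s⁻¹ = s * E.p 0 z * s⁻¹ := by rw [hB, hB, h]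
    have := congrArg (fun z => s⁻¹ * z * s) h1
    simpa [mul_assoc] using this
  have hB0 : B 0 = 0 := by
    have := hBadd 0 0
    rw [add_zero, left_eq_add] at this
    exact this
  have hA0 : ∀ c, A c = 0 → c = 0 := by
    intro c hc
    apply eq_zero_of_bt E
    intro d
    apply hBinj
    rw [← hbt, hc, bt_zero_left, hB0]
  have hAinj : Function.Injective A := by
    intro y z h
    have h1 : A (y + z) = 0 := by rw [hAadd, h, FormAlg.add_self]
    exact CharTwo.add_eq_zero.mp (hA0 _ h1)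
  exact ⟨A, B, hA, hB, hAadd, hBadd, hbt, hN, hBinj, Finite.surjective_of_injective hAinj, hA0⟩

/-- **The case `m ≥ 2`** (Gold lemma). -/
theorem eq_zero_of_two_le (hm : 2 ≤ m) {j : ℕ} (hj : s ^ 2 ^ j = 1) : a = 0 := by
  obtain ⟨A, B, hA, hB, hAadd, hBadd, hbt, hN, hBinj, hAsurj, hA0⟩ := M.exists_AB'
  have hit : ∀ n b, s ^ n * E.p 0 b * (s ^ n)⁻¹ = E.p 0 (B^[n] b) := by
    intro n b
    induction n with
    | zero => simp
    | succ n ih =>
      rw [Function.iterate_succ_apply', ← hB, ← ih, pow_succ']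
      group
  have hBk : ∀ x, B^[2 ^ j] x = x := by
    intro x
    have h1 := hit (2 ^ j) x
    rw [hj, one_mul, inv_one, mul_one] at h1
    exact (E.z_inj h1).symm
  have hbtn : ∀ n : ℕ, ∀ y z, bt m (A^[n] y) (A^[n] z) = B^[n] (bt m y z) := by
    intro n
    induction n with
    | zero => intro y z; rfl
    | succ n ih =>
      intro y z
      rw [Function.iterate_succ_apply', Function.iterate_succ_apply',
        Function.iterate_succ_apply', hbt, ih]
  have hA00 : A 0 = 0 := by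
    have := hAadd 0 0
    rw [add_zero, left_eq_add] at this
    exact this
  have hAk : ∀ x, A^[2 ^ j] x = x := by
    apply Hyperplane.eq_id_of_right E.hF (A^[2 ^ j]) (hAsurj.iterate _)
    · have : ∀ n : ℕ, ∀ x, A^[n] x = 0 → x = 0 := by
        intro n
        induction n with
        | zero => intro x h; exact h
        | succ n ih =>
          intro x h
          rw [Function.iterate_succ_apply'] at h
          exact ih x (hA0 _ h)
      exact this _
    · exact Function.iterate_fixed hA00 _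
    · intro x y
      rw [hbtn, hBk]
  obtain ⟨hA1, hB1⟩ := Gold.eq_id hm E.hF A B hAadd hBadd hbt j hAk
  apply eq_zero_of_bt E
  intro c
  have h1 := hN c
  rw [hA1, hB1, left_eq_add] at h1
  exact h1

/-- `s` normalises `W` -/
theorem conj_W {w : G} (hw : w ∈ L.W) : s * w * s⁻¹ ∈ L.W := by
  obtain ⟨A, B, hA, hB, hAadd, hBadd, hbt, hN, hBinj, hAsurj, hA0⟩ := M.exists_AB'
  have hr := M.conj_mem (L.good.W_le_S hw)
  -- `r` commutes with `s P s⁻¹`
  have hcomm : ∀ c, (s * w * s⁻¹) * (s * E.p c 0 * s⁻¹) = (s * E.p c 0 * s⁻¹) * (s * w * s⁻¹) := by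
    intro c
    rw [M.mul_conj, M.mul_conj, L.W_comm_U hw (L.good.p_mem_U c 0)]
  have htcomm : ∀ c, (s * E.t * s⁻¹) * (s * E.p c 0 * s⁻¹) =
      (s * E.p c 0 * s⁻¹) * (s * E.t * s⁻¹) := by
    intro c
    rw [M.mul_conj, M.mul_conj, E.t_p]
  have key : ∀ g ∈ L.U, (∀ c, g * (s * E.p c 0 * s⁻¹) = (s * E.p c 0 * s⁻¹) * g) → g ∈ L.W := by
    intro g hg h
    apply L.mem_W_of_comm hg
    intro c
    obtain ⟨c', rfl⟩ := hAsurj c
    obtain ⟨f, hf, hc, -⟩ := hA c'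
    refine ⟨f, hf, ?_⟩
    rw [← hc]; exact h c'
  by_cases hU : s * w * s⁻¹ ∈ L.U
  · exact key _ hU hcomm
  exfalso
  have hts : (s * E.t * s⁻¹) * (s * E.t * s⁻¹) = 1 := by
    rw [M.mul_conj, E.t_sq]; group
  have hti : (s * E.t * s⁻¹)⁻¹ = s * E.t * s⁻¹ := by rw [inv_eq_iff_mul_eq_one, hts]
  obtain ⟨d, y, hy, hd⟩ := L.not_U_iff hr hU
  -- `g = r t₁`
  set g := (s * w * s⁻¹) * (s * E.t * s⁻¹) with hg
  have hgU : g ∈ L.U := by
    rw [hg, hd, M.he]
    have : E.p d 0 * y * E.t * (E.p a 0 * x * E.t) =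
        (E.p d 0 * y) * (E.t * (E.p a 0 * x) * E.t⁻¹) * (E.t * E.t) := by group
    rw [this, E.t_sq, mul_one]
    exact mul_mem ⟨d, y, hy, rfl⟩ (L.good.t_U ⟨a, x, M.hx, rfl⟩)
  have hgW : g ∈ L.W := by
    apply key g hgU
    intro c
    rw [hg, mul_assoc, htcomm, ← mul_assoc, hcomm, mul_assoc]
  have hrg : s * w * s⁻¹ = g * (s * E.t * s⁻¹) := by
    rw [hg, mul_assoc (s * w * s⁻¹), hts, mul_one]
  have ht1 : (s * E.t * s⁻¹) ∈ L.S := M.conj_mem L.good.t_mem_S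
  have ht1g := L.conj_W_of_not ht1 (L.t_conj_not M.hs) hgW
  -- `r² ∈ Z`
  have hr2 : (s * w * s⁻¹) * (s * w * s⁻¹) = E.p 0 (μ * phi E k g) := by
    calc (s * w * s⁻¹) * (s * w * s⁻¹) = g * ((s * E.t * s⁻¹) * g * (s * E.t * s⁻¹)⁻¹) *
          ((s * E.t * s⁻¹) * (s * E.t * s⁻¹)) := by rw [hrg]; group
      _ = g * (E.p 0 (μ * phi E k g) * g⁻¹) := by rw [ht1g, hts, mul_one]
      _ = _ := by rw [← L.comm_z (inv_mem hgW), mul_inv_cancel_left]
  have hw4 : w ^ 4 = 1 := by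
    have h1 : s * (w * w * (w * w)) * s⁻¹ = 1 := by
      rw [← M.mul_conj, ← M.mul_conj, hr2, E.z_self]
    have h2 := congrArg (fun z => s⁻¹ * z * s) h1
    have h3 : w * w * (w * w) = 1 := by simpa [mul_assoc] using h2
    rw [← h3]
    simp only [pow_succ, pow_zero, one_mul, mul_assoc]
  have hφw := M.phi_zero hw hw4
  have h1 : (s * E.t * s⁻¹) * (s * w * s⁻¹) * (s * E.t * s⁻¹)⁻¹ = (s * w * s⁻¹)⁻¹ := by
    calc (s * E.t * s⁻¹) * (s * w * s⁻¹) * (s * E.t * s⁻¹)⁻¹ = s * (E.t * w * E.t⁻¹) * s⁻¹ := by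
          group
      _ = s * w⁻¹ * s⁻¹ := by rw [L.W_t w hw, hφw, mul_zero, E.p_zero, one_mul]
      _ = _ := by group
  -- hence `g² = 1`
  have h2 : g * g = 1 := by
    rw [hrg] at h1
    have h3 : (s * E.t * s⁻¹) * (g * (s * E.t * s⁻¹)) * (s * E.t * s⁻¹)⁻¹ =
        (s * E.t * s⁻¹) * g := by group
    rw [h3, mul_inv_rev, hti, mul_right_inj] at h1
    nth_rewrite 1 [h1]
    rw [inv_mul_cancel]
  have hg4 : g ^ 4 = 1 := by
    have : g ^ 4 = (g * g) * (g * g) := by simp only [pow_succ, pow_zero, one_mul, mul_assoc]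
    rw [this, h2, one_mul]
  rw [M.phi_zero hgW hg4, mul_zero, E.p_zero, M.mul_conj] at hr2
  have h3 : w * w = 1 := by
    have := congrArg (fun z => s⁻¹ * z * s) hr2
    simpa [mul_assoc] using this
  obtain ⟨b, rfl⟩ := L.ab.inv w hw h3
  obtain ⟨b', hb'⟩ := M.conj_z b
  apply hU
  rw [hb']
  exact L.good.p_mem_U 0 b'

/-- `B` commutes with `μ`. -/
theorem comm_mu {B : F → F} (hB : ∀ b, s * E.p 0 b * s⁻¹ = E.p 0 (B b)) (b : F) :
    B (μ * b) = μ * B b := by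
  obtain ⟨w, hw, rfl⟩ := L.ab.phi_surj b
  have hsw := M.conj_W hw
  have h1 : (s * E.t * s⁻¹) * (s * w * s⁻¹) * (s * E.t * s⁻¹)⁻¹ =
      E.p 0 (B (μ * phi E k w)) * (s * w * s⁻¹)⁻¹ := by
    calc (s * E.t * s⁻¹) * (s * w * s⁻¹) * (s * E.t * s⁻¹)⁻¹ = s * (E.t * w * E.t⁻¹) * s⁻¹ := by
          group
      _ = (s * E.p 0 (μ * phi E k w) * s⁻¹) * (s * w⁻¹ * s⁻¹) := by rw [L.W_t w hw]; group
      _ = _ := by rw [hB]; group
  rw [L.conj_W_of_not (M.conj_mem L.good.t_mem_S) (L.t_conj_not M.hs) hsw, mul_left_inj] at h1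
  have h2 : phi E k (s * w * s⁻¹) = B (phi E k w) := by
    apply L.ab.phi_eq hsw
    rw [conj_pow, L.ab.phi_spec hw, hB]
  rw [← h2]
  exact (E.z_inj h1).symm

/-- **The case `m = 1`, `μ ≠ 1`.** -/
theorem eq_zero_of_mu (hm : m = 1) (hμ0 : μ ≠ 0) (hμ1 : μ ≠ 1) : a = 0 := by
  classical
  obtain ⟨A, B, hA, hB, hAadd, hBadd, hbt, hN, hBinj, hAsurj, hA0⟩ := M.exists_AB'
  have hBμ := M.comm_mu hB
  have hcard : Nat.card Fˣ = 7 := by
    rw [Nat.card_eq_fintype_card, Fintype.card_units, E.hF, hm]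
    norm_num
  have h7 : Fact (Nat.Prime 7) := ⟨by norm_num⟩
  have hB0 : B 0 = 0 := by
    have := hBadd 0 0
    rw [add_zero, left_eq_add] at this
    exact this
  have hpow : ∀ n : ℕ, ∀ y, B (μ ^ n * y) = μ ^ n * B y := by
    intro n
    induction n with
    | zero => intro y; rw [pow_zero, one_mul, one_mul]
    | succ n ih => intro y; rw [pow_succ, mul_assoc, ih, hBμ, mul_assoc]
  have hlin : ∀ y, B y = y * B 1 := by
    intro y
    rcases eq_or_ne y 0 with rfl | hy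
    · rw [hB0, zero_mul]
    · have h1 : (Units.mk0 μ hμ0) ≠ 1 := by
        intro h
        apply hμ1
        have := congrArg (fun u : Fˣ => (u : F)) h
        simpa using this
      have h2 : Units.mk0 y hy ∈ Submonoid.powers (Units.mk0 μ hμ0) :=
        mem_powers_of_prime_card hcard h1
      obtain ⟨n, hn⟩ := h2
      have h3 : μ ^ n = y := by
        have := congrArg (fun u : Fˣ => (u : F)) hn
        simpa using this
      have h4 := hpow n 1
      rw [mul_one, h3] at h4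
      exact h4
  have hβ : B 1 ≠ 0 := by
    intro h
    have h1 := hlin 1
    have h2 : B 1 = B 0 := by rw [hB0, h]
    exact one_ne_zero (hBinj h2)
  set l := (B 1) ^ (2 ^ (m + 1) - 1) with hl
  have hlN : l ^ (1 + 2 ^ (m + 1)) = B 1 := SzMaps.norm_surj E.hF _
  have hl0 : l ≠ 0 := pow_ne_zero _ hβ
  have hbtl : ∀ y z, bt m (l⁻¹ * y) (l⁻¹ * z) = (B 1)⁻¹ * bt m y z := by
    intro y z
    have e : (B 1)⁻¹ = l⁻¹ * l⁻¹ ^ 2 ^ (m + 1) := by
      rw [← hlN, ← inv_pow, _root_.pow_add, pow_one]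
    clear_value l
    unfold bt
    rw [e, mul_pow, mul_pow]
    ring
  have hA1 : ∀ y, l⁻¹ * A y = y := by
    apply Hyperplane.eq_id_of_right E.hF (fun y => l⁻¹ * A y)
    · intro y
      obtain ⟨z, hz⟩ := hAsurj (l * y)
      exact ⟨z, by show l⁻¹ * A z = y; rw [hz, inv_mul_cancel_left₀ hl0]⟩
    · intro y hy
      rcases mul_eq_zero.mp hy with h | h
      · exact absurd h (inv_ne_zero hl0)
      · exact hA0 y h
    · have := hAadd 0 0
      rw [add_zero, left_eq_add] at this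
      show l⁻¹ * A 0 = 0
      rw [this, mul_zero]
    · intro y z
      show bt m (l⁻¹ * A y) (l⁻¹ * A z) = bt m y z
      rw [hbtl, hbt, hlin (bt m y z), mul_comm (bt m y z), inv_mul_cancel_left₀ hβ]
  have hA2 : ∀ y, A y = l * y := by
    intro y
    rw [← hA1 y, mul_inv_cancel_left₀ hl0, hA1]
  apply eq_zero_of_bt E
  intro c
  have h1 := hN (l⁻¹ * c)
  rw [hA2, mul_inv_cancel_left₀ hl0, hlin, mul_pow, inv_pow, hlN] at h1
  rw [mul_comm (B 1)⁻¹, inv_mul_cancel_right₀ hβ, left_eq_add] at h1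
  exact h1

end Mv

end Cfsg.Agent.StdSz.Tower
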