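import Cfsg.Agent.StdSz.Env
import Cfsg.Agent.StdSz.Hyperplane

/-!
# The tower: groups `⟨t⟩ P W`

`Good E W`: `W` is normalised by `t`, contains `Z` and `[W, P] ≤ Z`; then `U = P W` and
`S = ⟨t⟩ P W` are subgroups. `Ab E W k`: `W` is homocyclic abelian of exponent `2 ^ k` with
`Ω₁(W) = Z`.
-/

set_option autoImplicit false
set_option linter.unusedSectionVars false
set_option linter.dupNamespace false

namespace Cfsg.Agent.StdSz.Tower

open Subgroup Cfsg.Agent.StdSz.FormAlg Cfsg.Agent.StdSz.Env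

variable {G : Type*} [Group G] {F : Type*} [Field F] [Fintype F] [CharP F 2] {m : ℕ}

theorem bt_eq_zero (hF : Fintype.card F = 2 ^ (2 * m + 1)) {a c : F} (h : bt m a c = 0) :
    a = 0 ∨ c = 0 ∨ c = a := by
  rcases eq_or_ne a 0 with ha | ha
  · exact Or.inl ha
  right
  have h1 : bt m a (a * (a⁻¹ * c)) = 0 := by rw [mul_inv_cancel_left₀ ha]; exact h
  rw [bt_mul] at h1
  rcases mul_eq_zero.mp h1 with h2 | h2
  · exact absurd ((pow_eq_zero_iff (by positivity)).mp h2) ha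
  · have h3 : (a⁻¹ * c) ^ (2 ^ (m + 1)) = a⁻¹ * c := by
      have := congrArg (fun z => z + a⁻¹ * c) h2
      rw [add_assoc, FormAlg.add_self, add_zero, zero_add] at this
      exact this
    rcases eq_of_th_eq hF h3 with h | h
    · left
      rcases mul_eq_zero.mp h with h | h
      · exact absurd (inv_eq_zero.mp h) ha
      · exact h
    · right
      have := congrArg (fun z => a * z) h
      simpa [mul_inv_cancel_left₀ ha] using this

/-- Commuting elements of `T` with nontrivial squares have the same square. -/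
theorem T_sq_eq (E : Env G F m) {x y : G} (hx : x ∈ E.T) (hy : y ∈ E.T) (hxy : x * y = y * x)
    (h1 : x * x ≠ 1) (h2 : y * y ≠ 1) : x * x = y * y := by
  have key : ∀ x ∈ E.T, ∃ a b, (x = E.p a b ∨ x = E.p a b * E.t) ∧
      x * x = E.p 0 (a ^ (1 + 2 ^ (m + 1))) := by
    rintro x ⟨a, b, h | h⟩
    · exact ⟨a, b, Or.inl h, by rw [h, E.p_sq]⟩
    · exact ⟨a, b, Or.inr h, by rw [h, E.pt_sq]⟩
  obtain ⟨a, b, hx', hx2⟩ := key x hx
  obtain ⟨c, d, hy', hy2⟩ := key y hy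
  have ht : ∀ a b, Commute E.t (E.p a b) := fun a b => E.t_p a b
  have htt : Commute E.t E.t := Commute.refl _
  have hpp : E.p a b * E.p c d = E.p c d * E.p a b := by
    have hxy' : Commute x y := hxy
    have e1 : E.p a b = x ∨ E.p a b = x * E.t := by
      rcases hx' with h | h
      · exact Or.inl h.symm
      · right; rw [h, mul_assoc, E.t_sq, mul_one]
    have e2 : E.p c d = y ∨ E.p c d = y * E.t := by
      rcases hy' with h | h
      · exact Or.inl h.symm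
      · right; rw [h, mul_assoc, E.t_sq, mul_one]
    have cx : Commute x E.t := E.T_comm_t hx
    have cy : Commute y E.t := E.T_comm_t hy
    have : Commute (E.p a b) (E.p c d) := by
      rcases e1 with h | h <;> rcases e2 with h' | h' <;> rw [h, h']
      · exact hxy'
      · exact hxy'.mul_right cx
      · exact (hxy'.mul_left cy.symm)
      · exact (hxy'.mul_left cy.symm).mul_right (cx.mul_left htt)
    exact this
  have hb : bt m a c = 0 := by
    rw [E.p_comm] at hpp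
    exact E.z_eq_one (mul_eq_right.mp hpp)
  have ha0 : a ≠ 0 := by
    rintro rfl
    apply h1
    rw [hx2, zero_pow (by positivity), E.p_zero]
  have hc0 : c ≠ 0 := by
    rintro rfl
    apply h2
    rw [hy2, zero_pow (by positivity), E.p_zero]
  rcases bt_eq_zero E.hF hb with h | h | h
  · exact absurd h ha0
  · exact absurd h hc0
  · rw [hx2, hy2, h]

/-- `W` is normalised by `t`, contains `Z` and commutes with `P` modulo `Z`. -/
structure Good (E : Env G F m) (W : Subgroup G) : Prop where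
  z_mem : ∀ b, E.p 0 b ∈ W
  t_mem : ∀ w ∈ W, E.t * w * E.t⁻¹ ∈ W
  comm_p : ∀ w ∈ W, ∀ a, ∃ z, w * E.p a 0 = E.p 0 z * (E.p a 0 * w)
  p_mem : ∀ a b, E.p a b ∈ W → a = 0
  t_not : ∀ a, ∀ w ∈ W, E.p a 0 * w ≠ E.t
  two : IsPGroup 2 W
  comm_z : ∀ w ∈ W, ∀ b, w * E.p 0 b = E.p 0 b * w

namespace Good

variable {E : Env G F m} {W : Subgroup G}

/-- `U = P W`. -/
def U (_h : Good E W) : Subgroup G where
  carrier := {x | ∃ a, ∃ w ∈ W, x = E.p a 0 * w}
  mul_mem' := by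
    rintro x y ⟨a, w, hw, rfl⟩ ⟨c, v, hv, rfl⟩
    obtain ⟨z, hz⟩ := _h.comm_p w hw c
    refine ⟨a + c, E.p 0 (z + a ^ (2 ^ (m + 1)) * c) * (w * v),
      mul_mem (_h.z_mem _) (mul_mem hw hv), ?_⟩
    calc E.p a 0 * w * (E.p c 0 * v) = E.p a 0 * (w * E.p c 0) * v := by group
      _ = E.p a 0 * (E.p 0 z * (E.p c 0 * w)) * v := by rw [hz]
      _ = E.p a 0 * E.p 0 z * E.p c 0 * (w * v) := by group
      _ = _ := by
        rw [E.p_mul_z, E.p_mul, ← mul_assoc (E.p (a + c) 0), E.p_mul_z, zero_add, add_zero,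
          zero_add]
  one_mem' := ⟨0, 1, one_mem _, by rw [E.p_zero, one_mul]⟩
  inv_mem' := by
    rintro x ⟨a, w, hw, rfl⟩
    obtain ⟨z, hz⟩ := _h.comm_p w⁻¹ (inv_mem hw) a
    refine ⟨a, E.p 0 (z + a ^ (1 + 2 ^ (m + 1))) * w⁻¹, mul_mem (_h.z_mem _) (inv_mem hw), ?_⟩
    have h1 : (E.p a 0)⁻¹ = E.p 0 (a ^ (1 + 2 ^ (m + 1))) * E.p a 0 := by
      rw [E.p_inv, E.z_mul_p]
    rw [mul_inv_rev, h1, ← mul_assoc, _h.comm_z _ (inv_mem hw), mul_assoc, hz, ← mul_assoc,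
      ← mul_assoc, ← mul_assoc, E.z_mul, E.p_mul_z, zero_add, E.z_mul_p, zero_add, add_comm]

variable (h : Good E W)

include h

theorem mem_U {x : G} : x ∈ h.U ↔ ∃ a, ∃ w ∈ W, x = E.p a 0 * w := Iff.rfl

theorem W_le_U : W ≤ h.U := fun w hw => ⟨0, w, hw, by rw [E.p_zero, one_mul]⟩

theorem p_mem_U (a b : F) : E.p a b ∈ h.U :=
  ⟨a, E.p 0 b, h.z_mem b, by rw [E.p_mul_z, zero_add]⟩

theorem t_not_mem_U : E.t ∉ h.U := by
  rintro ⟨a, w, hw, he⟩
  exact h.t_not a w hw he.symm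

/-- uniqueness of the decomposition -/
theorem U_inj {a c : F} {w v : G} (hw : w ∈ W) (hv : v ∈ W) (he : E.p a 0 * w = E.p c 0 * v) :
    a = c ∧ w = v := by
  have h1 : E.p (a + c) (a ^ (1 + 2 ^ (m + 1)) + a ^ 2 ^ (m + 1) * c) ∈ W := by
    have : E.p (a + c) (a ^ (1 + 2 ^ (m + 1)) + a ^ 2 ^ (m + 1) * c) = w * v⁻¹ := by
      have h2 : (E.p a 0)⁻¹ * E.p c 0 = w * v⁻¹ := by
        rw [inv_mul_eq_iff_eq_mul, ← mul_assoc, he, mul_inv_cancel_right]
      rw [← h2, E.p_inv, E.p_mul, zero_add, add_zero]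
    rw [this]
    exact mul_mem hw (inv_mem hv)
  have h2 := h.p_mem _ _ h1
  have h3 : a = c := CharTwo.add_eq_zero.mp h2
  subst h3
  exact ⟨rfl, mul_left_cancel he⟩

theorem t_U {x : G} (hx : x ∈ h.U) : E.t * x * E.t⁻¹ ∈ h.U := by
  obtain ⟨a, w, hw, rfl⟩ := hx
  refine ⟨a, E.t * w * E.t⁻¹, h.t_mem w hw, ?_⟩
  calc E.t * (E.p a 0 * w) * E.t⁻¹ = (E.t * E.p a 0) * w * E.t⁻¹ := by group
    _ = E.p a 0 * (E.t * w * E.t⁻¹) := by rw [E.t_p]; group

omit h in
/-- `S = ⟨t⟩ P W`. -/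
def S (_h : Good E W) : Subgroup G where
  carrier := {x | x ∈ _h.U ∨ x * E.t ∈ _h.U}
  mul_mem' := by
    rintro x y (hx | hx) (hy | hy)
    · exact Or.inl (mul_mem hx hy)
    · right
      rw [mul_assoc]; exact mul_mem hx hy
    · right
      have := mul_mem hx (_h.t_U hy)
      have e : x * E.t * (E.t * y * E.t⁻¹) = x * (E.t * E.t) * y * E.t⁻¹ := by group
      rw [e, E.t_sq, mul_one, E.t_inv] at this
      exact this
    · left
      have := mul_mem hx (_h.t_U hy)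
      have e : x * E.t * (E.t * (y * E.t) * E.t⁻¹) = x * (E.t * E.t) * y := by group
      rw [e, E.t_sq, mul_one] at this
      exact this
  one_mem' := Or.inl (one_mem _)
  inv_mem' := by
    rintro x (hx | hx)
    · exact Or.inl (inv_mem hx)
    · right
      have := _h.t_U (inv_mem hx)
      have e : E.t * (x * E.t)⁻¹ * E.t⁻¹ = (E.t * E.t⁻¹) * x⁻¹ * E.t⁻¹ := by group
      rw [e, mul_inv_cancel, one_mul, E.t_inv] at this
      exact this

theorem mem_S {x : G} : x ∈ h.S ↔ x ∈ h.U ∨ x * E.t ∈ h.U := Iff.rfl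

theorem U_le_S : h.U ≤ h.S := fun _ hx => Or.inl hx

theorem W_le_S : W ≤ h.S := h.W_le_U.trans h.U_le_S

theorem p_mem_S (a b : F) : E.p a b ∈ h.S := h.U_le_S (h.p_mem_U a b)

theorem t_mem_S : E.t ∈ h.S := Or.inr (by rw [E.t_sq]; exact one_mem _)

theorem T_le_S : E.T ≤ h.S := by
  rintro x ⟨a, b, rfl | rfl⟩
  · exact h.p_mem_S a b
  · exact mul_mem (h.p_mem_S a b) h.t_mem_S

theorem sq_U {x : G} (hx : x ∈ h.U) : x * x ∈ W := by
  obtain ⟨a, w, hw, rfl⟩ := hx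
  obtain ⟨z, hz⟩ := h.comm_p w hw a
  have : E.p a 0 * w * (E.p a 0 * w) = E.p 0 (z + a ^ (1 + 2 ^ (m + 1))) * (w * w) := by
    calc E.p a 0 * w * (E.p a 0 * w) = E.p a 0 * (w * E.p a 0) * w := by group
      _ = E.p a 0 * (E.p 0 z * (E.p a 0 * w)) * w := by rw [hz]
      _ = (E.p a 0 * E.p 0 z) * E.p a 0 * (w * w) := by group
      _ = E.p 0 z * (E.p a 0 * E.p a 0) * (w * w) := by rw [E.z_comm]; group
      _ = _ := by rw [E.p_sq, E.z_mul]
  rw [this]
  exact mul_mem (h.z_mem _) (mul_mem hw hw)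

theorem sq_S {x : G} (hx : x ∈ h.S) : x * x ∈ h.U := by
  rcases hx with hx | hx
  · exact mul_mem hx hx
  · have := mul_mem hx (h.t_U hx)
    have e : x * E.t * (E.t * (x * E.t) * E.t⁻¹) = x * (E.t * E.t) * x := by group
    rw [e, E.t_sq, mul_one] at this
    exact this

theorem two_S : IsPGroup 2 h.S := by
  rintro ⟨x, hx⟩
  have h1 : (x * x) * (x * x) ∈ W := h.sq_U (h.sq_S hx)
  obtain ⟨k, hk⟩ := h.two ⟨_, h1⟩
  have hk' : ((x * x) * (x * x)) ^ 2 ^ k = 1 := congrArg Subtype.val hk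
  refine ⟨k + 2, Subtype.ext ?_⟩
  show x ^ 2 ^ (k + 2) = 1
  have e4 : (x * x) * (x * x) = x ^ 4 := by simp only [pow_succ, pow_zero, one_mul, mul_assoc]
  rw [← hk', e4, ← pow_mul]
  congr 1
  rw [_root_.pow_add]
  ring

end Good

/-- `W` is homocyclic abelian of exponent `2 ^ k` with `Ω₁(W) = Z`. -/
structure Ab (E : Env G F m) (W : Subgroup G) (k : ℕ) : Prop where
  hk : 2 ≤ k
  comm : ∀ x ∈ W, ∀ y ∈ W, x * y = y * x
  z_mem : ∀ b, E.p 0 b ∈ W
  inv : ∀ w ∈ W, w * w = 1 → ∃ b, w = E.p 0 b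
  pow : ∀ w ∈ W, w ^ 2 ^ k = 1
  surj : ∀ b, ∃ w ∈ W, w ^ 2 ^ (k - 1) = E.p 0 b

namespace Ab

variable {E : Env G F m} {W : Subgroup G} {k : ℕ} (h : Ab E W k)

include h

theorem two : IsPGroup 2 W := by
  rintro ⟨w, hw⟩
  exact ⟨k, Subtype.ext (h.pow w hw)⟩

/-- elements of order four with prescribed square. -/
theorem exists_sq (b : F) : ∃ w ∈ W, w * w = E.p 0 b := by
  obtain ⟨w, hw, he⟩ := h.surj b
  have hk := h.hk
  refine ⟨w ^ 2 ^ (k - 2), pow_mem hw _, ?_⟩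
  rw [← he, ← pow_two, ← pow_mul, ← pow_succ]
  congr 2
  omega

/-- the homomorphism `W → F` with kernel the squares. -/
theorem exists_phi {w : G} (hw : w ∈ W) : ∃ b, w ^ 2 ^ (k - 1) = E.p 0 b := by
  apply h.inv _ (pow_mem hw _)
  rw [← pow_two, ← pow_mul, ← pow_succ]
  have hk := h.hk
  have : k - 1 + 1 = k := by omega
  rw [this]
  exact h.pow w hw

end Ab

open Classical in
/-- the homomorphism `φ : W → F`, `w ^ 2 ^ (k - 1) = p 0 (φ w)`. -/
noncomputable def phi (E : Env G F m) (k : ℕ) (w : G) : F :=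
  if h : ∃ b, w ^ 2 ^ (k - 1) = E.p 0 b then Classical.choose h else 0

namespace Ab

variable {E : Env G F m} {W : Subgroup G} {k : ℕ} (h : Ab E W k)

include h

theorem phi_spec {w : G} (hw : w ∈ W) : w ^ 2 ^ (k - 1) = E.p 0 (phi E k w) := by
  unfold phi
  rw [dif_pos (h.exists_phi hw)]
  exact Classical.choose_spec (h.exists_phi hw)

theorem phi_eq {w : G} (hw : w ∈ W) {b : F} (hb : w ^ 2 ^ (k - 1) = E.p 0 b) : phi E k w = b := by
  rw [h.phi_spec hw] at hb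
  exact E.z_inj hb

theorem phi_mul {w v : G} (hw : w ∈ W) (hv : v ∈ W) :
    phi E k (w * v) = phi E k w + phi E k v := by
  apply h.phi_eq (mul_mem hw hv)
  rw [(show Commute w v from h.comm w hw v hv).mul_pow, h.phi_spec hw, h.phi_spec hv, E.z_mul]

theorem phi_one : phi E k (1 : G) = 0 := by
  apply h.phi_eq (one_mem W)
  rw [one_pow, E.p_zero]

theorem phi_inv {w : G} (hw : w ∈ W) : phi E k w⁻¹ = phi E k w := by
  have h1 := h.phi_mul hw (inv_mem hw)
  rw [mul_inv_cancel, h.phi_one] at h1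
  exact (CharTwo.add_eq_zero.mp h1.symm).symm

theorem phi_sq {w : G} (hw : w ∈ W) : phi E k (w * w) = 0 := by
  rw [h.phi_mul hw hw, FormAlg.add_self]

theorem phi_surj (b : F) : ∃ w ∈ W, phi E k w = b := by
  obtain ⟨w, hw, he⟩ := h.surj b
  exact ⟨w, hw, h.phi_eq hw he⟩

theorem sq_of_pow : ∀ j, j ≤ k - 1 → ∀ w ∈ W, w ^ 2 ^ j = 1 → ∃ v ∈ W, w = v * v := by
  intro j
  induction j with
  | zero =>
    intro _ w _ h1
    rw [pow_zero, pow_one] at h1
    exact ⟨1, one_mem _, by rw [h1, mul_one]⟩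
  | succ j ih =>
    intro hj w hw h1
    have h2 : ∃ b, w ^ 2 ^ j = E.p 0 b := by
      apply h.inv _ (pow_mem hw _)
      rw [← pow_two, ← pow_mul, ← pow_succ]
      exact h1
    obtain ⟨b, hb⟩ := h2
    obtain ⟨v, hv, hvb⟩ := h.surj b
    -- `v' = v ^ 2 ^ (k - 2 - j)`, `(v' * v') ^ 2 ^ j = p 0 b`
    set v' := v ^ 2 ^ (k - 2 - j) with hv'
    have hv'W : v' ∈ W := pow_mem hv _
    have h3 : (v' * v') ^ 2 ^ j = E.p 0 b := by
      rw [← hvb, hv', ← pow_two, ← pow_mul, ← pow_mul]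
      congr 1
      rw [← pow_succ', ← _root_.pow_add]
      congr 1
      omega
    have hc : Commute w (v' * v')⁻¹ :=
      (show Commute w (v' * v') from h.comm w hw _ (mul_mem hv'W hv'W)).inv_right
    obtain ⟨u, hu, huv⟩ := ih (by omega) (w * (v' * v')⁻¹) (mul_mem hw (inv_mem (mul_mem hv'W hv'W)))
      (by rw [hc.mul_pow, inv_pow, hb, h3, mul_inv_cancel])
    refine ⟨u * v', mul_mem hu hv'W, ?_⟩
    have h4 : w = u * u * (v' * v') := by rw [← huv]; group
    have h5 := h.comm u hu v' hv'W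
    calc w = u * (u * v') * v' := by rw [h4]; group
      _ = u * (v' * u) * v' := by rw [h5]
      _ = u * v' * (u * v') := by group

theorem phi_eq_zero {w : G} (hw : w ∈ W) : phi E k w = 0 ↔ ∃ v ∈ W, w = v * v := by
  constructor
  · intro h1
    apply h.sq_of_pow (k - 1) le_rfl w hw
    rw [h.phi_spec hw, h1, E.p_zero]
  · rintro ⟨v, hv, rfl⟩
    exact h.phi_sq hv

/-- elements with square in `Z`. -/
theorem eq_mul_of_sq_eq {w v : G} (hw : w ∈ W) (hv : v ∈ W) (he : w * w = v * v) :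
    ∃ b, w = E.p 0 b * v := by
  have h1 : ∃ b, w * v⁻¹ = E.p 0 b := by
    apply h.inv _ (mul_mem hw (inv_mem hv))
    have h2 := h.comm w hw v⁻¹ (inv_mem hv)
    calc w * v⁻¹ * (w * v⁻¹) = w * (v⁻¹ * w) * v⁻¹ := by group
      _ = w * (w * v⁻¹) * v⁻¹ := by rw [h2]
      _ = (w * w) * v⁻¹ * v⁻¹ := by group
      _ = 1 := by rw [he]; group
  obtain ⟨b, hb⟩ := h1
  exact ⟨b, by rw [← hb]; group⟩

end Ab

end Cfsg.Agent.StdSz.Tower
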