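import Cfsg.Agent.StdSz.Tower.Act

/-!
# The subgroup `W'` of the next level

`S' = ⟨t⟩ P W'`, where `W'` consists of the elements with trivial `P`- and `t`-coordinate.
-/

set_option autoImplicit false
set_option linter.unusedSectionVars false
set_option linter.dupNamespace false

namespace Cfsg.Agent.StdSz.Tower

open Subgroup Cfsg.Agent.StdSz.FormAlg Cfsg.Agent.StdSz.Env

variable {G : Type*} [Group G] {F : Type*} [Field F] [Fintype F] [CharP F 2] {m : ℕ}

open Classical in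
/-- coefficients of an additive map -/
noncomputable def cof (m : ℕ) (f : F → F) (i : Fin (2 * m + 1)) : F :=
  if h : ∃ c : Fin (2 * m + 1) → F, ∀ x, f x = ∑ i, c i * x ^ (2 ^ (i : ℕ)) then
    Classical.choose h i else 0

theorem cof_spec (E : Env G F m) {f : F → F} (h : ∀ x y, f (x + y) = f x + f y) (x : F) :
    f x = ∑ i, cof m f i * x ^ (2 ^ (i : ℕ)) := by
  have h1 := EquivMaps.exists_coeff E.hF (by have := E.hm; omega) f h
  unfold cof
  simp only [dif_pos h1]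
  exact Classical.choose_spec h1 x

theorem cof_eq (E : Env G F m) {f : F → F} {c : Fin (2 * m + 1) → F}
    (h : ∀ x, f x = ∑ i, c i * x ^ (2 ^ (i : ℕ))) : cof m f = c := by
  have hadd : ∀ x y, f (x + y) = f x + f y := by
    intro x y
    rw [h, h, h, ← Finset.sum_add_distrib]
    refine Finset.sum_congr rfl fun i _ => ?_
    rw [FormAlg.pow_add, mul_add]
  apply EquivMaps.coeff_unique E.hF (by have := E.hm; omega)
  intro x
  rw [← cof_spec E hadd, h]

theorem cof_add (E : Env G F m) {f g k : F → F} (hf : ∀ x y, f (x + y) = f x + f y)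
    (hg : ∀ x y, g (x + y) = g x + g y) (h : ∀ x, k x = f x + g x) (i : Fin (2 * m + 1)) :
    cof m k i = cof m f i + cof m g i := by
  have : cof m k = fun i => cof m f i + cof m g i := by
    apply cof_eq E
    intro x
    rw [h, cof_spec E hf, cof_spec E hg, ← Finset.sum_add_distrib]
    refine Finset.sum_congr rfl fun i _ => ?_
    rw [add_mul]
  rw [this]

theorem cof_smul (E : Env G F m) {f g : F → F} (hf : ∀ x y, f (x + y) = f x + f y)
    (hg : ∀ x y, g (x + y) = g x + g y) {a b : F} (h : ∀ x, g (a * x) = b * f x)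
    (i : Fin (2 * m + 1)) : cof m g i * a ^ (2 ^ (i : ℕ)) = b * cof m f i := by
  have : (fun i : Fin (2 * m + 1) => cof m g i * a ^ (2 ^ (i : ℕ))) = fun i => b * cof m f i := by
    apply EquivMaps.coeff_unique E.hF (by have := E.hm; omega)
    intro x
    calc ∑ i, cof m g i * a ^ (2 ^ (i : ℕ)) * x ^ (2 ^ (i : ℕ))
        = ∑ i, cof m g i * (a * x) ^ (2 ^ (i : ℕ)) :=
          Finset.sum_congr rfl fun i _ => by rw [mul_pow]; ring
      _ = b * f x := by rw [← cof_spec E hg, h]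
      _ = ∑ i, b * cof m f i * x ^ (2 ^ (i : ℕ)) := by
        rw [cof_spec E hf, Finset.mul_sum]
        exact Finset.sum_congr rfl fun i _ => by ring
  exact congrFun this i

/-- the index `m + 1`. -/
def im (E : Env G F m) : Fin (2 * m + 1) := ⟨m + 1, by have := E.hm; omega⟩

/-- the `P`-coordinate. -/
noncomputable def al (E : Env G F m) (s : G) : F := cof m (eta E s) (im E)

/-- the `t`-coordinate. -/
noncomputable def ep {E : Env G F m} {k : ℕ} (L : Lvl E k) (s : G) : F :=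
  cof m (nu L s) ⟨0, by omega⟩

namespace Nxt

variable {E : Env G F m} {k : ℕ} {L : Lvl E k} (N : Nxt L) [Finite G]

include N

theorem al_mul {s r : G} (hs : s ∈ N.S') (hr : r ∈ N.S') : al E (s * r) = al E s + al E r :=
  cof_add E (N.eta_add hs) (N.eta_add hr) (N.eta_mul hs hr) _

theorem ep_mul {s r : G} (hs : s ∈ N.S') (hr : r ∈ N.S') : ep L (s * r) = ep L s + ep L r :=
  cof_add E (N.nu_add hs) (N.nu_add hr) (N.nu_mul hs hr) _

theorem al_inv {s : G} (hs : s ∈ N.S') : al E s⁻¹ = al E s := by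
  have h := N.al_mul hs (inv_mem hs)
  have h1 := N.al_mul (one_mem N.S') (one_mem N.S')
  rw [mul_one, left_eq_add] at h1
  rw [mul_inv_cancel, h1] at h
  exact (CharTwo.add_eq_zero.mp h.symm).symm

theorem ep_inv {s : G} (hs : s ∈ N.S') : ep L s⁻¹ = ep L s := by
  have h := N.ep_mul hs (inv_mem hs)
  have h1 := N.ep_mul (one_mem N.S') (one_mem N.S')
  rw [mul_one, left_eq_add] at h1
  rw [mul_inv_cancel, h1] at h
  exact (CharTwo.add_eq_zero.mp h.symm).symm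

theorem cof_zero {f : F → F} (h : ∀ x, f x = 0) (i : Fin (2 * m + 1)) : cof m f i = 0 := by
  have : cof m f = fun _ => 0 := by
    apply cof_eq E
    intro x
    rw [h]; simp
  rw [this]

theorem al_p (a b : F) : al E (E.p a b) = a := by
  unfold al
  have hne : (⟨0, by omega⟩ : Fin (2 * m + 1)) ≠ im E := by
    intro h
    have := congrArg Fin.val h
    simp [im] at this
  have h : cof m (eta E (E.p a b)) = fun i => (if i = im E then a else 0) +
      (if i = ⟨0, by omega⟩ then a ^ 2 ^ (m + 1) else 0) := by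
    apply cof_eq E
    intro x
    rw [N.eta_p]
    simp only [add_mul, Finset.sum_add_distrib, ite_mul, zero_mul, Finset.sum_ite_eq',
      Finset.mem_univ, if_true]
    unfold bt im
    simp
  rw [h]
  simp only [if_true]
  rw [if_neg hne.symm, add_zero]

theorem al_t : al E E.t = 0 := N.cof_zero N.eta_t _

theorem al_W {w : G} (hw : w ∈ L.W) : al E w = 0 := N.cof_zero (N.eta_W hw) _

theorem ep_p (a b : F) : ep L (E.p a b) = 0 := N.cof_zero (N.nu_p a b) _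

theorem ep_W {w : G} (hw : w ∈ L.W) : ep L w = 0 := N.cof_zero (N.nu_W hw) _

theorem ep_t : ep L E.t = 1 := by
  unfold ep
  have h : cof m (nu L E.t) = fun i => (if i = ⟨0, by omega⟩ then (1 : F) else 0) := by
    apply cof_eq E
    intro x
    rw [N.nu_t]
    simp only [ite_mul, zero_mul, Finset.sum_ite_eq', Finset.mem_univ, if_true]
    simp
  rw [h]
  simp

/-! ### The torus -/

variable {d : G} {l : Fˣ}

theorem conj_wt' (hd : d * E.t = E.t * d) (s : G) :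
    wt E (d * s * d⁻¹) = d * wt E s * d⁻¹ := by
  have h1 : d⁻¹ * E.t = E.t * d⁻¹ := ((show Commute d E.t from hd).inv_left).eq
  have h2 : d⁻¹ * E.t * d = E.t := by rw [h1]; group
  unfold wt
  calc d * s * d⁻¹ * E.t * (d * s * d⁻¹)⁻¹ * E.t = d * s * (d⁻¹ * E.t * d) * s⁻¹ * (d⁻¹ * E.t) := by
        group
    _ = d * s * E.t * s⁻¹ * (E.t * d⁻¹) := by rw [h2, h1]
    _ = _ := by group

theorem u_conj (hdt : d * E.t = E.t * d) (hdN : d ∈ normalizer (L.S : Set G))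
    (hdl : Acts m E.p d l) {s : G} (hs : s ∈ N.S') :
    phi E k (wt E (d * s * d⁻¹)) = (l : F) ^ (1 + 2 ^ (m + 1)) * phi E k (wt E s) := by
  rw [N.conj_wt' hdt]
  apply L.phi_conj (N.wt_mem hs) (L.norm_W hdN (N.wt_mem hs))
  rw [hdl, mul_zero]

theorem eta_conj (hdN' : d ∈ normalizer (N.S' : Set G)) (hdl : Acts m E.p d l) {s : G}
    (hs : s ∈ N.S') (x : F) :
    eta E (d * s * d⁻¹) (l * x) = (l : F) ^ (1 + 2 ^ (m + 1)) * eta E s x := by
  have hds : d * s * d⁻¹ ∈ N.S' := (mem_normalizer_iff.mp hdN' s).mp hs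
  apply N.eta_eq (b := 0) hds
  have h1 : E.p (l * x) 0 = d * E.p x 0 * d⁻¹ := by rw [hdl, mul_zero]
  calc d * s * d⁻¹ * E.p (l * x) 0 * (d * s * d⁻¹)⁻¹ = d * (s * E.p x 0 * s⁻¹) * d⁻¹ := by
        rw [h1]; group
    _ = _ := by rw [N.eta_spec hs, hdl, zero_add, zero_add]

theorem nu_conj (hdN : d ∈ normalizer (L.S : Set G)) (hdN' : d ∈ normalizer (N.S' : Set G))
    (hdl : Acts m E.p d l) {s : G} (hs : s ∈ N.S') (x : F) :
    nu L (d * s * d⁻¹) ((l : F) ^ (1 + 2 ^ (m + 1)) * x) =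
      (l : F) ^ (1 + 2 ^ (m + 1)) * nu L s x := by
  have hds : d * s * d⁻¹ ∈ N.S' := (mem_normalizer_iff.mp hdN' s).mp hs
  apply N.nu_eq hds (L.norm_W hdN (qv_mem L x))
  · calc d * qv L x * d⁻¹ * (d * qv L x * d⁻¹) = d * (qv L x * qv L x) * d⁻¹ := by group
      _ = _ := by rw [qv_sq, hdl, mul_zero]
  · calc d * s * d⁻¹ * (d * qv L x * d⁻¹) * (d * s * d⁻¹)⁻¹ = d * (s * qv L x * s⁻¹) * d⁻¹ := by
          group
      _ = (d * E.p 0 (nu L s x) * d⁻¹) * (d * qv L x * d⁻¹) := by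
        rw [N.nu_spec hs (qv_mem L x) (qv_sq L x)]; group
      _ = _ := by rw [hdl, mul_zero]

theorem al_conj (hdN' : d ∈ normalizer (N.S' : Set G)) (hdl : Acts m E.p d l) {s : G}
    (hs : s ∈ N.S') : al E (d * s * d⁻¹) = l * al E s := by
  have hds : d * s * d⁻¹ ∈ N.S' := (mem_normalizer_iff.mp hdN' s).mp hs
  have h1 := cof_smul E (N.eta_add hs) (N.eta_add hds) (N.eta_conj hdN' hdl hs) (im E)
  have h2 : (l : F) ^ (2 ^ (m + 1)) ≠ 0 := pow_ne_zero _ l.ne_zero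
  apply mul_right_cancel₀ h2
  have h3 : ((im E : Fin (2 * m + 1)) : ℕ) = m + 1 := rfl
  rw [h3] at h1
  unfold al
  rw [h1, _root_.pow_add, pow_one]
  ring

theorem ep_conj (hdN : d ∈ normalizer (L.S : Set G)) (hdN' : d ∈ normalizer (N.S' : Set G))
    (hdl : Acts m E.p d l) {s : G} (hs : s ∈ N.S') : ep L (d * s * d⁻¹) = ep L s := by
  have hds : d * s * d⁻¹ ∈ N.S' := (mem_normalizer_iff.mp hdN' s).mp hs
  have h1 := cof_smul E (N.nu_add hs) (N.nu_add hds) (N.nu_conj hdN hdN' hdl hs) ⟨0, by omega⟩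
  have h2 : (l : F) ^ (1 + 2 ^ (m + 1)) ≠ 0 := pow_ne_zero _ l.ne_zero
  apply mul_left_cancel₀ h2
  simp only [pow_zero, pow_one] at h1
  unfold ep
  rw [← h1, mul_comm]

/-- elements of `S` : the `t`-coordinate is `0` or `1`. -/
theorem ep_S {s : G} (hs : s ∈ L.S) : ep L s = 0 ∨ ep L s = 1 := by
  by_cases hU : s ∈ L.U
  · left
    obtain ⟨a, w, hw, rfl⟩ := hU
    rw [N.ep_mul (N.p_mem a 0) (N.W_le hw), N.ep_p, N.ep_W hw, add_zero]
  · right
    obtain ⟨a, w, hw, rfl⟩ := L.not_U_iff hs hU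
    rw [N.ep_mul (mul_mem (N.p_mem a 0) (N.W_le hw)) N.t_mem,
      N.ep_mul (N.p_mem a 0) (N.W_le hw), N.ep_p, N.ep_W hw, N.ep_t, add_zero, zero_add]

theorem ep_cases {s : G} (hs : s ∈ N.S') : ep L s = 0 ∨ ep L s = 1 := by
  -- a torus element
  obtain ⟨c, hc0, hc1⟩ := exists_ne_zero_one E
  obtain ⟨d, hd, hdN, hdN', hdl⟩ := N.full (Units.mk0 c hc0)
  have hdt := E.D_t d hd
  have hcN : c ^ (1 + 2 ^ (m + 1)) ≠ 1 := by
    intro h
    apply hc1
    apply norm_inj E.hF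
    rw [h, one_pow]
  have hc2 : c ^ (1 + 2 ^ (m + 1)) + 1 ≠ 0 := by
    intro h
    exact hcN (CharTwo.add_eq_zero.mp h)
  obtain ⟨r, hr, hru⟩ := N.u_surj (phi E k (wt E s) / (c ^ (1 + 2 ^ (m + 1)) + 1))
  have hdr : d * r * d⁻¹ ∈ N.S' := (mem_normalizer_iff.mp hdN' r).mp hr
  have hx : d * r * d⁻¹ * r⁻¹ ∈ N.S' := mul_mem hdr (inv_mem hr)
  have hxu : phi E k (wt E (d * r * d⁻¹ * r⁻¹)) = phi E k (wt E s) := by
    rw [N.u_mul hdr (inv_mem hr), N.u_inv hr, N.u_conj hdt hdN hdl hr, hru, Units.val_mk0]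
    field_simp
  have hxe : ep L (d * r * d⁻¹ * r⁻¹) = 0 := by
    rw [N.ep_mul hdr (inv_mem hr), N.ep_inv hr, N.ep_conj hdN hdN' hdl hr, FormAlg.add_self]
  have hy : s * (d * r * d⁻¹ * r⁻¹)⁻¹ ∈ L.S := by
    apply N.mem_S_of_u (mul_mem hs (inv_mem hx))
    rw [N.u_mul hs (inv_mem hx), N.u_inv hx, hxu, FormAlg.add_self]
  have h1 := N.ep_S hy
  rw [N.ep_mul hs (inv_mem hx), N.ep_inv hx, hxe, add_zero] at h1
  exact h1

end Nxt

namespace Nxt

variable {E : Env G F m} {k : ℕ} {L : Lvl E k} (N : Nxt L) [Finite G]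

/-- The group `W'`. -/
def W' : Subgroup G where
  carrier := {s | s ∈ N.S' ∧ al E s = 0 ∧ ep L s = 0}
  mul_mem' := by
    rintro s r ⟨hs, ha, he⟩ ⟨hr, ha', he'⟩
    exact ⟨mul_mem hs hr, by rw [N.al_mul hs hr, ha, ha', add_zero],
      by rw [N.ep_mul hs hr, he, he', add_zero]⟩
  one_mem' := ⟨one_mem _, N.al_W (one_mem L.W), N.ep_W (one_mem L.W)⟩
  inv_mem' := by
    rintro s ⟨hs, ha, he⟩
    exact ⟨inv_mem hs, by rw [N.al_inv hs, ha], by rw [N.ep_inv hs, he]⟩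

theorem mem_W' {s : G} : s ∈ N.W' ↔ s ∈ N.S' ∧ al E s = 0 ∧ ep L s = 0 := Iff.rfl

theorem W'_le : N.W' ≤ N.S' := fun _ h => h.1

theorem W_le_W' : L.W ≤ N.W' := fun _ hw => ⟨N.W_le hw, N.al_W hw, N.ep_W hw⟩

/-- `S' = P W' ⟨t⟩`. -/
theorem exists_dec {s : G} (hs : s ∈ N.S') : ∃ a, ∃ w ∈ N.W', s = E.p a 0 * w ∨
    s = E.p a 0 * w * E.t := by
  have h1 : (E.p (al E s) 0)⁻¹ * s ∈ N.S' := mul_mem (inv_mem (N.p_mem _ _)) hs
  have h2 : al E ((E.p (al E s) 0)⁻¹ * s) = 0 := by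
    rw [N.al_mul (inv_mem (N.p_mem _ _)) hs, N.al_inv (N.p_mem _ _), N.al_p, FormAlg.add_self]
  rcases N.ep_cases h1 with h | h
  · exact ⟨al E s, _, ⟨h1, h2, h⟩, Or.inl (by group)⟩
  · refine ⟨al E s, (E.p (al E s) 0)⁻¹ * s * E.t, ⟨mul_mem h1 N.t_mem, ?_, ?_⟩, Or.inr ?_⟩
    · rw [N.al_mul h1 N.t_mem, h2, N.al_t, add_zero]
    · rw [N.ep_mul h1 N.t_mem, h, N.ep_t, FormAlg.add_self]
    · have := E.t_sq
      calc s = s * (E.t * E.t) := by rw [this, mul_one]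
        _ = _ := by group

theorem W'_inf {s : G} (hs : s ∈ N.W') (hS : s ∈ L.S) : s ∈ L.W := by
  by_cases hU : s ∈ L.U
  · obtain ⟨a, w, hw, he⟩ := hU
    have h1 := hs.2.1
    rw [he, N.al_mul (N.p_mem a 0) (N.W_le hw), N.al_p, N.al_W hw, add_zero] at h1
    subst h1
    rw [he, E.p_zero, one_mul]; exact hw
  · exfalso
    obtain ⟨a, w, hw, he⟩ := L.not_U_iff hS hU
    have h1 := hs.2.2
    rw [he, N.ep_mul (mul_mem (N.p_mem a 0) (N.W_le hw)) N.t_mem,
      N.ep_mul (N.p_mem a 0) (N.W_le hw), N.ep_p, N.ep_W hw, N.ep_t, add_zero, zero_add] at h1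
    exact one_ne_zero h1

theorem W'_u {s : G} (hs : s ∈ N.W') (h : phi E k (wt E s) = 0) : s ∈ L.W :=
  N.W'_inf hs (N.mem_S_of_u hs.1 h)

theorem u_surj' (b : F) : ∃ s ∈ N.W', phi E k (wt E s) = b := by
  obtain ⟨s, hs, hsb⟩ := N.u_surj b
  obtain ⟨a, w, hw, h | h⟩ := N.exists_dec hs
  · refine ⟨w, hw, ?_⟩
    rw [h, N.u_mul (N.p_mem _ _) hw.1, N.u_p, zero_add] at hsb
    exact hsb
  · refine ⟨w, hw, ?_⟩
    rw [h, N.u_mul (mul_mem (N.p_mem _ _) hw.1) N.t_mem, N.u_mul (N.p_mem _ _) hw.1, N.u_p,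
      N.u_t, zero_add, add_zero] at hsb
    exact hsb

/-- `W'` is normalised by the torus. -/
theorem W'_conj {d : G} {l : Fˣ} (hdN : d ∈ normalizer (L.S : Set G))
    (hdN' : d ∈ normalizer (N.S' : Set G)) (hdl : Acts m E.p d l) {s : G} (hs : s ∈ N.W') :
    d * s * d⁻¹ ∈ N.W' :=
  ⟨(mem_normalizer_iff.mp hdN' s).mp hs.1, by rw [N.al_conj hdN' hdl hs.1, hs.2.1, mul_zero],
    by rw [N.ep_conj hdN hdN' hdl hs.1, hs.2.2]⟩

open Classical in
/-- representatives in `W'`. -/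
noncomputable def sel (b : F) : G := Classical.choose (N.u_surj' b)

theorem sel_mem (b : F) : N.sel b ∈ N.W' := (Classical.choose_spec (N.u_surj' b)).1

theorem sel_u (b : F) : phi E k (wt E (N.sel b)) = b := (Classical.choose_spec (N.u_surj' b)).2

/-- functions on `W'` that are additive and vanish on `W` depend only on `u`. -/
theorem eq_of_u {f : G → F} (hf : ∀ s ∈ N.W', ∀ r ∈ N.W', f (s * r) = f s + f r)
    (hf0 : ∀ w ∈ L.W, f w = 0) {s r : G} (hs : s ∈ N.W') (hr : r ∈ N.W')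
    (h : phi E k (wt E s) = phi E k (wt E r)) : f s = f r := by
  have h1 : s * r⁻¹ ∈ L.W := by
    apply N.W'_u (mul_mem hs (inv_mem hr))
    rw [N.u_mul hs.1 (inv_mem hr.1), N.u_inv hr.1, h, FormAlg.add_self]
  have h2 := hf (s * r⁻¹) (mul_mem hs (inv_mem hr)) r hr
  rw [inv_mul_cancel_right, hf0 _ h1, zero_add] at h2
  exact h2

/-- the constant `δ`. -/
theorem exists_delta : ∃ δ : F, ∀ s ∈ N.W', ∀ a,
    eta E s a = δ * (a * phi E k (wt E s)) ^ (2 ^ m) := by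
  have hu : ∀ a : F, ∀ s ∈ N.W', ∀ r ∈ N.W', phi E k (wt E s) = phi E k (wt E r) →
      eta E s a = eta E r a := by
    intro a s hs r hr h
    exact N.eq_of_u (f := fun s => eta E s a) (fun s hs r hr => N.eta_mul hs.1 hr.1 a)
      (fun w hw => N.eta_W hw a) hs hr h
  obtain ⟨δ, hδ⟩ := SzMaps.pairing_122 E.hm E.hF (fun x y => eta E (N.sel y) x)
    (fun x x' y => N.eta_add (N.sel_mem y).1 x x')
    (by
      intro x y y'
      rw [← N.eta_mul (N.sel_mem y).1 (N.sel_mem y').1]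
      apply hu x _ (N.sel_mem _) _ (mul_mem (N.sel_mem y) (N.sel_mem y'))
      rw [N.sel_u, N.u_mul (N.sel_mem y).1 (N.sel_mem y').1, N.sel_u, N.sel_u])
    (by
      intro l x y hl
      obtain ⟨d, hd, hdN, hdN', hdl⟩ := N.full (Units.mk0 l hl)
      have h1 := N.eta_conj hdN' hdl (N.sel_mem y).1 x
      rw [Units.val_mk0] at h1
      rw [← h1]
      apply hu _ _ (N.sel_mem _) _ (N.W'_conj hdN hdN' hdl (N.sel_mem y))
      rw [N.sel_u, N.u_conj (E.D_t d hd) hdN hdl (N.sel_mem y).1, N.sel_u, Units.val_mk0])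
  refine ⟨δ, fun s hs a => ?_⟩
  rw [hu a s hs _ (N.sel_mem (phi E k (wt E s))) (by rw [N.sel_u])]
  exact hδ a _

/-- every nonzero scalar is a norm. -/
theorem exists_norm (_E : Env G F m) {c : F} (hc : c ≠ 0) :
    ∃ l : Fˣ, (l : F) ^ (1 + 2 ^ (m + 1)) = c :=
  ⟨Units.mk0 _ (pow_ne_zero (2 ^ (m + 1) - 1) hc), SzMaps.norm_surj _E.hF c⟩

/-- the constant `κ`. -/
theorem exists_kappa : ∃ κ : F, ∀ s ∈ N.W', ∀ v,
    nu L s v = κ * (phi E k (wt E s) * v) ^ (2 ^ (2 * m)) := by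
  have hu : ∀ a : F, ∀ s ∈ N.W', ∀ r ∈ N.W', phi E k (wt E s) = phi E k (wt E r) →
      nu L s a = nu L r a := by
    intro a s hs r hr h
    exact N.eq_of_u (f := fun s => nu L s a) (fun s hs r hr => N.nu_mul hs.1 hr.1 a)
      (fun w hw => N.nu_W hw a) hs hr h
  obtain ⟨κ, hκ⟩ := SzMaps.pairing_same (n := 2 * m + 1) (by have := E.hm; omega) E.hF
    (fun x y => nu L (N.sel x) y)
    (by
      intro x x' y
      rw [← N.nu_mul (N.sel_mem x).1 (N.sel_mem x').1]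
      apply hu y _ (N.sel_mem _) _ (mul_mem (N.sel_mem x) (N.sel_mem x'))
      rw [N.sel_u, N.u_mul (N.sel_mem x).1 (N.sel_mem x').1, N.sel_u, N.sel_u])
    (fun x y y' => N.nu_add (N.sel_mem x).1 y y')
    (by
      intro c x y hc
      obtain ⟨l, hl⟩ := exists_norm E hc
      obtain ⟨d, hd, hdN, hdN', hdl⟩ := N.full l
      have h1 := N.nu_conj hdN hdN' hdl (N.sel_mem x).1 y
      rw [hl] at h1
      rw [← h1]
      apply hu _ _ (N.sel_mem _) _ (N.W'_conj hdN hdN' hdl (N.sel_mem x))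
      rw [N.sel_u, N.u_conj (E.D_t d hd) hdN hdl (N.sel_mem x).1, N.sel_u, hl])
  refine ⟨κ, fun s hs v => ?_⟩
  rw [hu v s hs _ (N.sel_mem (phi E k (wt E s))) (by rw [N.sel_u])]
  exact hκ _ v

end Nxt

end Cfsg.Agent.StdSz.Tower
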