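import Cfsg.Agent.StdSz.Tower.Bad2
import Cfsg.Agent.StdSz.LevelOneEnd

/-!
# The end of the tower
-/

set_option autoImplicit false
set_option linter.unusedSectionVars false
set_option linter.dupNamespace false

namespace Cfsg.Agent.StdSz.Tower

open Subgroup Cfsg.Agent.StdSz.FormAlg Cfsg.Agent.StdSz.Env

variable {G : Type*} [Group G] {F : Type*} [Field F] [Fintype F] [CharP F 2] {m : ℕ}

/-- the torus acts on `S` and `W`. -/
def Full {E : Env G F m} {k : ℕ} {δ μ : F} (L : Lv E k δ μ) : Prop :=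
  ∀ l : Fˣ, ∃ g ∈ E.D, g ∈ normalizer (L.S : Set G) ∧ (∀ w ∈ L.W, g * w * g⁻¹ ∈ L.W) ∧
    Acts m E.p g l

/-- a 2-subgroup contained in no larger one. -/
def Maxl (S : Subgroup G) : Prop := ∀ R : Subgroup G, IsPGroup 2 R → S ≤ R → R = S

variable [Finite G]

/-- if 2-elements of `N(S)` move `t` inside its `S`-class then `S` is maximal. -/
theorem maxl_of_conj (E : Env G F m) {S : Subgroup G} (hS : IsPGroup 2 S) (hT : E.T ≤ S)
    (h : ∀ s ∈ normalizer (S : Set G), (∃ j : ℕ, s ^ 2 ^ j = 1) → ∃ v ∈ S,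
      s * E.t * s⁻¹ = v * E.t * v⁻¹) : Maxl S := by
  intro R hR hSR
  by_contra hne
  have h3 := NextExists.lt_inf_normalizer hR (lt_of_le_of_ne hSR (Ne.symm hne))
  obtain ⟨s, hs, hsS⟩ := SetLike.exists_of_lt h3
  obtain ⟨hsR, hsN⟩ := mem_inf.mp hs
  obtain ⟨j, hj⟩ := hR ⟨s, hsR⟩
  obtain ⟨v, hv, hvt⟩ := h s hsN ⟨j, congrArg Subtype.val hj⟩
  apply hsS
  have h1 : v⁻¹ * s ∈ E.T := by
    apply E.mem_T_of_comm hR (hT.trans hSR) (mul_mem (inv_mem (hSR hv)) hsR)
    calc v⁻¹ * s * E.t = v⁻¹ * (s * E.t * s⁻¹) * s := by group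
      _ = v⁻¹ * (v * E.t * v⁻¹) * s := by rw [hvt]
      _ = E.t * (v⁻¹ * s) := by group
  have h2 := mul_mem hv (hT h1)
  rwa [mul_inv_cancel_left] at h2

namespace Lv

variable {E : Env G F m} {k : ℕ} {δ μ : F} (L : Lv E k δ μ)

omit [Finite G] in
theorem conj_t {v : G} (hv : v ∈ L.W) :
    v * E.t * v⁻¹ = E.p 0 (μ * phi E k v) * (v * v) * E.t := by
  have h1 := L.W_t _ (inv_mem hv)
  rw [inv_inv, L.ab.phi_inv hv] at h1
  have h2 := L.comm_z hv (μ * phi E k v)
  calc v * E.t * v⁻¹ = v * (E.t * v⁻¹ * E.t⁻¹) * E.t := by group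
    _ = (v * E.p 0 (μ * phi E k v)) * v * E.t := by rw [h1]; group
    _ = _ := by rw [h2]; group

omit [Finite G] in
/-- the `S`-class of `t` contains `w t` for `φ w = 0`. -/
theorem exists_conj (hk : 3 ≤ k) {w : G} (hw : w ∈ L.W) (h : phi E k w = 0) :
    ∃ v ∈ L.S, v * E.t * v⁻¹ = w * E.t := by
  obtain ⟨v, hv, rfl⟩ := (L.ab.phi_eq_zero hw).mp h
  obtain ⟨y, hy, hyc⟩ := L.ab.exists_sq (μ * phi E k v)
  have hy0 : phi E k y = 0 := by
    apply L.ab.phi_eq hy
    obtain ⟨j, rfl⟩ := Nat.exists_eq_add_of_le hk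
    have : 2 ^ (3 + j - 1) = 4 * 2 ^ j := by
      have e : 3 + j - 1 = j + 2 := by omega
      rw [e, Nat.pow_add]; ring
    rw [this, pow_mul, pow_four_of_sq hyc, one_pow, E.p_zero]
  refine ⟨v * y, L.good.W_le_S (mul_mem hv hy), ?_⟩
  rw [L.conj_t (mul_mem hv hy), L.ab.phi_mul hv hy, hy0, add_zero, L.ab.mul_mul_mul hv hy, hyc]
  have h2 := L.comm_z (mul_mem hv hv) (μ * phi E k v)
  rw [h2, ← mul_assoc (E.p 0 _), E.z_self, one_mul]

/-- **The bad levels are final.** -/
theorem maxl (hne : ¬ (δ = 0 ∧ μ = 0))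
    (hexo : m = 1 → δ = 0 → μ = 1 → ∀ s a x, Mv L s a x → a = 0) : Maxl L.S := by
  have hk : 3 ≤ k := L.hk.resolve_left hne
  apply maxl_of_conj E L.good.two_S L.good.T_le_S
  rintro s hs ⟨j, hj⟩
  obtain ⟨a, x, hx, he, hz⟩ := L.exists_shape hs
  have M : Mv L s a x := ⟨hk, hs, hx, he, hz⟩
  have key : a = 0 ∧ phi E k x = 0 := by
    by_cases hδ : δ = 0
    · subst hδ
      have hμ : μ ≠ 0 := fun h => hne ⟨rfl, h⟩
      have ha : a = 0 := by
        by_cases hm : 2 ≤ m
        · exact M.eq_zero_of_two_le hm hj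
        · have hm1 : m = 1 := by have := E.hm; omega
          by_cases hμ1 : μ = 1
          · exact hexo hm1 rfl hμ1 s a x M
          · exact M.eq_zero_of_mu hm1 hμ hμ1
      refine ⟨ha, ?_⟩
      rw [ha, zero_pow (by positivity), zero_mul, zero_add, zero_add] at hz
      exact (mul_eq_zero.mp hz).resolve_left hμ
    · have hb := M.phi_eq_zero_of_delta hδ
      refine ⟨?_, hb⟩
      rw [hb, mul_zero, zero_pow (by positivity), mul_zero, mul_zero, add_zero, add_zero] at hz
      exact (pow_eq_zero_iff (by positivity)).mp hz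
  obtain ⟨ha, hb⟩ := key
  subst ha
  obtain ⟨v, hv, hvt⟩ := L.exists_conj hk hx hb
  exact ⟨v, hv, by rw [he, hvt, E.p_zero, one_mul]⟩

end Lv

/-- The data at the end of the tower: a final level, or the class two branch. -/
theorem tower {E : Env G F m}
    (hexo : m = 1 → ∀ (k : ℕ) (L : Lv E k 0 1), Full L → ∀ s a x, Mv L s a x → a = 0) :
    ∀ n : ℕ, ∀ (k : ℕ) (L : Lvl E k), Nat.card G - Nat.card L.S = n → E.DFull L.S →
    (∃ (k' : ℕ) (δ μ : F) (L' : Lv E k' δ μ), Maxl L'.S ∧ Full L') ∨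
    ∃ (L2 : Lvl E 2) (N : Nxt L2),
      ∀ s ∈ N.W', ∀ v, nu L2 s v = (phi E 2 (wt E s) * v) ^ (2 ^ (2 * m)) := by
  intro n
  induction n using Nat.strong_induction_on with
  | _ n ih =>
    intro k L hn hD
    rcases L.exists_next hD with hmax | ⟨⟨N⟩⟩
    · left
      refine ⟨k, 0, 0, L.toLv, ?_, ?_⟩
      · rw [L.toLv_S]; exact hmax
      · intro l
        obtain ⟨g, hg, hgN, hgl⟩ := hD l
        refine ⟨g, hg, by rw [L.toLv_S]; exact hgN, fun w hw => L.norm_W hgN hw, hgl⟩
    · rcases step N with ⟨δ, μ, L', hS, hW⟩ | ⟨hk, hκ⟩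
      · have hfull : Full L' := by
          intro l
          obtain ⟨g, hg, hgN, hgN', hgl⟩ := N.full l
          refine ⟨g, hg, by rw [hS]; exact hgN', fun w hw => ?_, hgl⟩
          rw [hW] at hw ⊢
          exact N.W'_conj hgN hgN' hgl hw
        by_cases hne : δ = 0 ∧ μ = 0
        · obtain ⟨rfl, rfl⟩ := hne
          have hlt : Nat.card L.S < Nat.card L'.toLvl.S := by
            have hle : L.S < L'.toLvl.S := by
              rw [L'.toLvl_S, hS]
              refine lt_of_le_of_ne N.le ?_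
              intro heq
              obtain ⟨s, hs, hu⟩ := N.u_surj 1
              rw [← heq] at hs
              -- `u` vanishes on `S`
              have h0 : phi E k (wt E s) = 0 := by
                by_cases hU : s ∈ L.U
                · obtain ⟨a, w, hw, rfl⟩ := hU
                  rw [N.u_mul (N.p_mem a 0) (N.W_le hw), N.u_p, N.u_W hw, add_zero]
                · obtain ⟨a, w, hw, rfl⟩ := L.not_U_iff hs hU
                  rw [N.u_mul (mul_mem (N.p_mem a 0) (N.W_le hw)) N.t_mem,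
                    N.u_mul (N.p_mem a 0) (N.W_le hw), N.u_p, N.u_W hw, N.u_t, add_zero,
                    add_zero]
              rw [h0] at hu
              exact zero_ne_one hu
            exact Set.ncard_lt_ncard hle (Set.toFinite _)
          have hle' : Nat.card L'.toLvl.S ≤ Nat.card G := Subgroup.card_le_card_group _
          refine ih (Nat.card G - Nat.card L'.toLvl.S) (by omega) (k + 1) L'.toLvl rfl ?_
          rw [L'.toLvl_S, hS]
          exact N.dFull
        · left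
          refine ⟨k + 1, δ, μ, L', L'.maxl hne ?_, hfull⟩
          rintro hm1 rfl rfl
          exact hexo hm1 (k + 1) L' hfull
      · right
        subst hk
        exact ⟨L, N, hκ⟩

end Cfsg.Agent.StdSz.Tower
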