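import Cfsg.Agent.StdSz.Tower.Coord

/-!
# The action of `W'` on `W`
-/

set_option autoImplicit false
set_option linter.unusedSectionVars false
set_option linter.dupNamespace false

namespace Cfsg.Agent.StdSz.Tower

open Subgroup Cfsg.Agent.StdSz.FormAlg Cfsg.Agent.StdSz.Env

variable {G : Type*} [Group G] {F : Type*} [Field F] [Fintype F] [CharP F 2] {m : ℕ}

/-- the square root. -/
theorem sqrt_sq (E : Env G F m) (x : F) : (x * x) ^ (2 ^ (2 * m)) = x := by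
  rw [← pow_two, ← pow_mul, ← pow_succ', ← E.hF, FiniteField.pow_card]

theorem sq_sqrt (E : Env G F m) (x : F) : x ^ (2 ^ (2 * m)) * x ^ (2 ^ (2 * m)) = x := by
  rw [← pow_two, ← pow_mul, ← pow_succ, ← E.hF, FiniteField.pow_card]

/-- an element of order four in a cyclic 2-group. -/
theorem exists_four {x : G} {n : ℕ} (hn : x ^ 2 ^ n = 1) (hx : x * x ≠ 1) :
    ∃ j : ℕ, x ^ j * x ^ j ≠ 1 ∧ (x ^ j * x ^ j) * (x ^ j * x ^ j) = 1 := by
  classical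
  have hex : ∃ i, x ^ 2 ^ i = 1 := ⟨n, hn⟩
  set i := Nat.find hex with hi
  have h1 : x ^ 2 ^ i = 1 := Nat.find_spec hex
  have h2 : ∀ j < i, x ^ 2 ^ j ≠ 1 := fun j hj => Nat.find_min hex hj
  have h3 : 2 ≤ i := by
    by_contra hlt
    push Not at hlt
    apply hx
    rw [← pow_two]
    interval_cases i
    · rw [pow_zero, pow_one] at h1
      rw [h1, one_pow]
    · rw [pow_one] at h1
      exact h1
  obtain ⟨j, hj⟩ := Nat.exists_eq_add_of_le h3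
  refine ⟨2 ^ j, ?_, ?_⟩
  · rw [← pow_two, ← pow_mul, ← pow_succ]
    apply h2
    omega
  · have e : (x ^ 2 ^ j * x ^ 2 ^ j) * (x ^ 2 ^ j * x ^ 2 ^ j) = x ^ 2 ^ i := by
      have : 2 ^ i = 2 ^ j + 2 ^ j + (2 ^ j + 2 ^ j) := by rw [hj, Nat.pow_add]; ring
      rw [this, _root_.pow_add, _root_.pow_add]
    rw [e]; exact h1

namespace Ab

variable {E : Env G F m} {W : Subgroup G} {k : ℕ} (h : Ab E W k)

include h

theorem phi_p (b : F) : phi E k (E.p 0 b) = 0 := by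
  rw [h.phi_eq_zero (h.z_mem b)]
  obtain ⟨w, hw, he⟩ := h.exists_sq b
  exact ⟨w, hw, he.symm⟩

theorem mul_mul_mul {x y : G} (hx : x ∈ W) (hy : y ∈ W) : (x * y) * (x * y) = (x * x) * (y * y) := by
  have h1 := h.comm x hx y hy
  calc (x * y) * (x * y) = x * (y * x) * y := by group
    _ = x * (x * y) * y := by rw [h1]
    _ = _ := by group

/-- for `k ≥ 3` there are elements of order 8 with prescribed 4th power -/
theorem exists_fourth (hk : 3 ≤ k) (b : F) : ∃ w ∈ W, (w * w) * (w * w) = E.p 0 b := by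
  obtain ⟨w, hw, he⟩ := h.surj b
  refine ⟨w ^ 2 ^ (k - 3), pow_mem hw _, ?_⟩
  have e : 2 ^ (k - 1) = 2 ^ (k - 3) + 2 ^ (k - 3) + (2 ^ (k - 3) + 2 ^ (k - 3)) := by
    obtain ⟨j, rfl⟩ := Nat.exists_eq_add_of_le hk
    have e1 : 3 + j - 1 = j + 2 := by omega
    have e2 : 3 + j - 3 = j := by omega
    rw [e1, e2, Nat.pow_add]; ring
  rw [← he, e, _root_.pow_add, _root_.pow_add]

theorem phi_two (hk : k = 2) {w : G} (hw : w ∈ W) : w * w = E.p 0 (phi E k w) := by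
  have := h.phi_spec hw
  rw [hk] at this ⊢
  rw [← this]
  simp [pow_two]

end Ab

namespace Nxt

variable {E : Env G F m} {k : ℕ} {L : Lvl E k} (N : Nxt L) [Finite G]

include N

theorem t_conj_s (s : G) : E.t * s * E.t⁻¹ = (wt E s)⁻¹ * s := by
  have h := E.t_sq
  have h' := E.t_inv
  unfold wt
  simp only [mul_inv_rev, inv_inv, h']
  calc E.t * s * E.t = E.t * (s * E.t * s⁻¹) * s := by group
    _ = E.t * (s * (E.t * s⁻¹)) * s := by group

theorem sq_sq {s : G} (hs : s ∈ N.S') :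
    (s * s) * (s * s) = (s * wt E s * s⁻¹) * wt E s := by
  have h1 := L.W_t _ (N.sq_mem_W hs)
  have h2 := N.t_conj_s s
  have h3 : E.t * (s * s) * E.t⁻¹ = (E.t * s * E.t⁻¹) * (E.t * s * E.t⁻¹) := by group
  rw [h3, h2] at h1
  have h4 : (wt E s)⁻¹ * s * ((wt E s)⁻¹ * s) * (s * s) = 1 := by rw [h1]; group
  have h5 : (wt E s)⁻¹ * (s * (wt E s) * s⁻¹)⁻¹ * ((s * s) * (s * s)) = 1 := by
    rw [← h4]; group
  calc (s * s) * (s * s) = (s * wt E s * s⁻¹) * wt E s *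
        ((wt E s)⁻¹ * (s * (wt E s) * s⁻¹)⁻¹ * ((s * s) * (s * s))) := by group
    _ = _ := by rw [h5, mul_one]

/-- `k = 2`: `κ ∈ {0, 1}`. -/
theorem kappa_cases (hk : k = 2) {κ : F}
    (hκ : ∀ s ∈ N.W', ∀ v, nu L s v = κ * (phi E k (wt E s) * v) ^ (2 ^ (2 * m))) :
    κ = 0 ∨ κ = 1 := by
  obtain ⟨s, hs, hu⟩ := N.u_surj' 1
  have hw := N.wt_mem hs.1
  have h1 := L.ab.phi_two hk hw
  rw [hu] at h1
  have h2 := N.nu_spec hs.1 hw h1
  have h3 := hκ s hs 1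
  rw [hu, mul_one, one_pow, mul_one] at h3
  have h4 := N.sq_sq hs.1
  rw [h2, h3, mul_assoc (E.p 0 κ), h1, E.z_mul] at h4
  have h5 := N.nu_spec hs.1 (N.sq_mem_W hs.1) h4
  have h6 : s * (s * s) * s⁻¹ = s * s := by group
  rw [h6] at h5
  have h7 : E.p 0 (nu L s (κ + 1)) = 1 := mul_eq_right.mp h5.symm
  have h8 := E.z_eq_one h7
  rw [hκ s hs, hu, one_mul] at h8
  rcases mul_eq_zero.mp h8 with h | h
  · exact Or.inl h
  · right
    exact CharTwo.add_eq_zero.mp ((pow_eq_zero_iff (by positivity)).mp h)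

/-- the elements of `W'` invert `[s, W]`. -/
theorem inv_comm {s w : G} (hs : s ∈ N.S') (hw : w ∈ L.W) :
    s * (s * w * s⁻¹ * w⁻¹) * s⁻¹ = (s * w * s⁻¹ * w⁻¹)⁻¹ := by
  have h1 := L.ab.comm _ (N.sq_mem_W hs) _ hw
  have h2 : (s * s) * w * (s * s)⁻¹ = w := by rw [h1, mul_inv_cancel_right]
  calc s * (s * w * s⁻¹ * w⁻¹) * s⁻¹ = ((s * s) * w * (s * s)⁻¹) * (s * w⁻¹ * s⁻¹) := by group
    _ = w * (s * w⁻¹ * s⁻¹) := by rw [h2]
    _ = _ := by group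

theorem comm_mem {s w : G} (hs : s ∈ N.S') (hw : w ∈ L.W) : s * w * s⁻¹ * w⁻¹ ∈ L.W :=
  mul_mem (N.conj_W hs hw) (inv_mem hw)

/-- `k ≥ 3`: `κ = 0`. -/
theorem kappa_zero (hk : 3 ≤ k) {κ : F}
    (hκ : ∀ s ∈ N.W', ∀ v, nu L s v = κ * (phi E k (wt E s) * v) ^ (2 ^ (2 * m))) : κ = 0 := by
  by_contra hne
  obtain ⟨s, hs, hu⟩ := N.u_surj' 1
  have hκ' : ∀ v, nu L s v = κ * v ^ (2 ^ (2 * m)) := by
    intro v; rw [hκ s hs, hu, one_mul]
  have key : ∀ y : F, κ * y ^ (2 ^ (2 * m)) = y := by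
    intro y
    -- `y = κ v ^ (1/2)`
    set v := (y / κ) * (y / κ) with hv
    obtain ⟨w, hw, hw4⟩ := L.ab.exists_fourth hk v
    have hww : w * w ∈ L.W := mul_mem hw hw
    have h1 := N.nu_spec hs.1 hww hw4
    have h2 : nu L s v = y := by
      rw [hκ', hv, sqrt_sq E, mul_div_cancel₀ _ hne]
    have hxW := N.comm_mem hs.1 hw
    have h3 : (s * w * s⁻¹ * w⁻¹) * (s * w * s⁻¹ * w⁻¹) = E.p 0 y := by
      rw [L.ab.mul_mul_mul (N.conj_W hs.1 hw) (inv_mem hw)]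
      calc s * w * s⁻¹ * (s * w * s⁻¹) * (w⁻¹ * w⁻¹) = (s * (w * w) * s⁻¹) * (w * w)⁻¹ := by group
        _ = E.p 0 y := by rw [h1, h2]; group
    have h4 := N.nu_spec hs.1 hxW h3
    rw [N.inv_comm hs.1 hw] at h4
    have h5 : E.p 0 (nu L s y) = E.p 0 y := by
      have h6 : (s * w * s⁻¹ * w⁻¹)⁻¹ * (s * w * s⁻¹ * w⁻¹)⁻¹ = E.p 0 (nu L s y) := by
        nth_rewrite 1 [h4]
        rw [mul_inv_cancel_right]
      rw [← h6, ← mul_inv_rev, h3, E.z_inv]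
    rw [← hκ']
    exact E.z_inj h5
  obtain ⟨c, hc0, hc1⟩ := exists_ne_zero_one E
  have h1 := key 1
  rw [one_pow, mul_one] at h1
  have h2 := key c
  rw [h1, one_mul] at h2
  have h3 := sq_sqrt E c
  rw [h2] at h3
  exact hc1 (mul_left_cancel₀ hc0 (by rw [h3, mul_one]))

/-- If `κ = 0` then `[s, w]` is an involution. -/
theorem comm_z' {κ : F} (h0 : κ = 0)
    (hκ : ∀ s ∈ N.W', ∀ v, nu L s v = κ * (phi E k (wt E s) * v) ^ (2 ^ (2 * m)))
    {s w : G} (hs : s ∈ N.W') (hw : w ∈ L.W) : ∃ b, s * w * s⁻¹ = E.p 0 b * w := by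
  have hxW := N.comm_mem hs.1 hw
  have hx : (s * w * s⁻¹ * w⁻¹) * (s * w * s⁻¹ * w⁻¹) = 1 := by
    by_contra hne
    obtain ⟨j, hj1, hj2⟩ := exists_four (L.ab.pow _ hxW) hne
    set x := s * w * s⁻¹ * w⁻¹ with hx
    have hyW : x ^ j ∈ L.W := pow_mem hxW j
    obtain ⟨v, hv⟩ := L.ab.inv _ (mul_mem hyW hyW) hj2
    have h1 := N.nu_spec hs.1 hyW hv
    rw [hκ s hs, h0, zero_mul, E.p_zero, one_mul] at h1
    have h2 : s * x ^ j * s⁻¹ = (x ^ j)⁻¹ := by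
      rw [← conj_pow, N.inv_comm hs.1 hw, inv_pow]
    rw [h2] at h1
    apply hj1
    nth_rewrite 1 [← h1]
    rw [inv_mul_cancel]
  obtain ⟨b, hb⟩ := L.ab.inv _ hxW hx
  exact ⟨b, by rw [← hb]; group⟩

/-- `κ = 0`: `W'` centralises the squares of `W` -/
theorem comm_sq {κ : F} (h0 : κ = 0)
    (hκ : ∀ s ∈ N.W', ∀ v, nu L s v = κ * (phi E k (wt E s) * v) ^ (2 ^ (2 * m)))
    {s w : G} (hs : s ∈ N.W') (hw : w ∈ L.W) : s * (w * w) * s⁻¹ = w * w := by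
  obtain ⟨b, hb⟩ := N.comm_z' h0 hκ hs hw
  calc s * (w * w) * s⁻¹ = (s * w * s⁻¹) * (s * w * s⁻¹) := by group
    _ = E.p 0 b * (w * E.p 0 b) * w := by rw [hb]; group
    _ = (E.p 0 b * E.p 0 b) * (w * w) := by rw [L.W_p w hw]; group
    _ = w * w := by rw [E.z_self, one_mul]

/-- `κ = 0`: `s` commutes with `w_s`. -/
theorem comm_wt {κ : F} (h0 : κ = 0)
    (hκ : ∀ s ∈ N.W', ∀ v, nu L s v = κ * (phi E k (wt E s) * v) ^ (2 ^ (2 * m)))
    {s : G} (hs : s ∈ N.W') : s * wt E s * s⁻¹ = wt E s := by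
  have hw := N.wt_mem hs.1
  rcases Nat.lt_or_ge k 3 with hk | hk
  · have hk2 : k = 2 := by have := L.ab.hk; omega
    have h1 := L.ab.phi_two hk2 hw
    have h2 := N.nu_spec hs.1 hw h1
    rw [hκ s hs, h0, zero_mul, E.p_zero, one_mul] at h2
    exact h2
  · obtain ⟨b, hb⟩ := N.comm_z' h0 hκ hs hw
    obtain ⟨v, hv, hvb⟩ := L.ab.exists_fourth hk b
    have hvv : v * v ∈ L.W := mul_mem hv hv
    have h1 := N.sq_sq hs.1
    have h2 : (s * s) * (s * s) = (v * v * wt E s) * (v * v * wt E s) := by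
      rw [h1, hb, L.ab.mul_mul_mul hvv hw, hvb, mul_assoc]
    obtain ⟨c, hc⟩ := L.ab.eq_mul_of_sq_eq (N.sq_mem_W hs.1) (mul_mem hvv hw) h2
    have h3 : s * (s * s) * s⁻¹ = s * s := by group
    rw [hc] at h3
    have h4 : s * (E.p 0 c * (v * v * wt E s)) * s⁻¹ =
        (s * E.p 0 c * s⁻¹) * (s * (v * v) * s⁻¹) * (s * wt E s * s⁻¹) := by group
    rw [h4, N.comm_z hs.1, mul_inv_cancel_right, N.comm_sq h0 hκ hs hv] at h3
    have h5 : E.p 0 c * (v * v * wt E s) = E.p 0 c * (v * v) * wt E s := by group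
    rw [h5] at h3
    exact mul_left_cancel h3

/-- `κ = 0`: `W'` centralises `W`. -/
theorem comm_W {κ : F} (h0 : κ = 0)
    (hκ : ∀ s ∈ N.W', ∀ v, nu L s v = κ * (phi E k (wt E s) * v) ^ (2 ^ (2 * m)))
    {s w : G} (hs : s ∈ N.W') (hw : w ∈ L.W) : s * w = w * s := by
  have hz := fun {s w : G} (hs : s ∈ N.W') (hw : w ∈ L.W) => N.comm_z' h0 hκ hs hw
  -- `g s w`
  let g : G → G → F := fun s w => zc E (s * w * s⁻¹ * w⁻¹)
  have hg : ∀ s ∈ N.W', ∀ w ∈ L.W, s * w * s⁻¹ = E.p 0 (g s w) * w := by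
    intro s hs w hw
    obtain ⟨b, hb⟩ := hz hs hw
    have : g s w = b := by
      show zc E (s * w * s⁻¹ * w⁻¹) = b
      rw [hb, mul_inv_cancel_right, zc_p]
    rw [this, hb]
  have hgeq : ∀ s ∈ N.W', ∀ w ∈ L.W, ∀ b, s * w * s⁻¹ = E.p 0 b * w → g s w = b := by
    intro s hs w hw b hb
    rw [hg s hs w hw, mul_left_inj] at hb
    exact E.z_inj hb
  have hgmul : ∀ w ∈ L.W, ∀ s ∈ N.W', ∀ r ∈ N.W', g (s * r) w = g s w + g r w := by
    intro w hw s hs r hr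
    apply hgeq _ (mul_mem hs hr) _ hw
    calc s * r * w * (s * r)⁻¹ = s * (r * w * r⁻¹) * s⁻¹ := by group
      _ = (s * E.p 0 (g r w) * s⁻¹) * (s * w * s⁻¹) := by rw [hg r hr w hw]; group
      _ = E.p 0 (g r w) * (E.p 0 (g s w) * w) := by
        rw [N.comm_z hs.1, mul_inv_cancel_right, hg s hs w hw]
      _ = _ := by rw [← mul_assoc, E.z_mul, add_comm]
  have hgmul' : ∀ s ∈ N.W', ∀ w ∈ L.W, ∀ v ∈ L.W, g s (w * v) = g s w + g s v := by
    intro s hs w hw v hv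
    apply hgeq _ hs _ (mul_mem hw hv)
    calc s * (w * v) * s⁻¹ = (s * w * s⁻¹) * (s * v * s⁻¹) := by group
      _ = E.p 0 (g s w) * (w * E.p 0 (g s v)) * v := by
        rw [hg s hs w hw, hg s hs v hv]; group
      _ = E.p 0 (g s w) * (E.p 0 (g s v) * w) * v := by rw [L.W_p w hw]
      _ = E.p 0 (g s w) * E.p 0 (g s v) * (w * v) := by group
      _ = _ := by rw [E.z_mul]
  have hgW : ∀ s ∈ L.W, ∀ w ∈ L.W, g s w = 0 := by
    intro s hs w hw
    apply hgeq _ (N.W_le_W' hs) _ hw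
    rw [L.ab.comm s hs w hw, mul_inv_cancel_right, E.p_zero, one_mul]
  have hgsq : ∀ s ∈ N.W', ∀ w ∈ L.W, phi E k w = 0 → g s w = 0 := by
    intro s hs w hw h
    obtain ⟨v, hv, rfl⟩ := (L.ab.phi_eq_zero hw).mp h
    rw [hgmul' s hs v hv v hv, FormAlg.add_self]
  have hgu : ∀ w ∈ L.W, ∀ s ∈ N.W', ∀ r ∈ N.W', phi E k (wt E s) = phi E k (wt E r) →
      g s w = g r w := by
    intro w hw s hs r hr h
    exact N.eq_of_u (f := fun s => g s w) (hgmul w hw) (fun v hv => hgW v hv w hw) hs hr h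
  have hgphi : ∀ s ∈ N.W', ∀ w ∈ L.W, ∀ v ∈ L.W, phi E k w = phi E k v → g s w = g s v := by
    intro s hs w hw v hv h
    have h1 := hgmul' s hs (w * v⁻¹) (mul_mem hw (inv_mem hv)) v hv
    rw [inv_mul_cancel_right] at h1
    rw [h1, hgsq s hs _ (mul_mem hw (inv_mem hv)), zero_add]
    rw [L.ab.phi_mul hw (inv_mem hv), L.ab.phi_inv hv, h, FormAlg.add_self]
  choose ws hwsW hwsphi using fun b => L.ab.phi_surj b
  have halt := SzMaps.alternating_same (n := 2 * m + 1) (by have := E.hm; omega) E.hF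
    (fun x y => g (N.sel x) (ws y))
    (by
      intro x x' y
      rw [← hgmul _ (hwsW y) _ (N.sel_mem x) _ (N.sel_mem x')]
      apply hgu _ (hwsW y) _ (N.sel_mem _) _ (mul_mem (N.sel_mem x) (N.sel_mem x'))
      rw [N.sel_u, N.u_mul (N.sel_mem x).1 (N.sel_mem x').1, N.sel_u, N.sel_u])
    (by
      intro x y y'
      rw [← hgmul' _ (N.sel_mem x) _ (hwsW y) _ (hwsW y')]
      apply hgphi _ (N.sel_mem x) _ (hwsW _) _ (mul_mem (hwsW y) (hwsW y'))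
      rw [hwsphi, L.ab.phi_mul (hwsW y) (hwsW y'), hwsphi, hwsphi])
    (by
      intro c x y hc
      obtain ⟨l, hl⟩ := exists_norm E hc
      obtain ⟨d, hd, hdN, hdN', hdl⟩ := N.full l
      have hsd := N.W'_conj hdN hdN' hdl (N.sel_mem x)
      have hwd := L.norm_W hdN (hwsW y)
      have h1 : g (d * N.sel x * d⁻¹) (d * ws y * d⁻¹) = c * g (N.sel x) (ws y) := by
        apply hgeq _ hsd _ hwd
        calc d * N.sel x * d⁻¹ * (d * ws y * d⁻¹) * (d * N.sel x * d⁻¹)⁻¹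
            = d * (N.sel x * ws y * (N.sel x)⁻¹) * d⁻¹ := by group
          _ = (d * E.p 0 (g (N.sel x) (ws y)) * d⁻¹) * (d * ws y * d⁻¹) := by
            rw [hg _ (N.sel_mem x) _ (hwsW y)]; group
          _ = _ := by rw [hdl, mul_zero, hl]
      show g (N.sel (c * x)) (ws (c * y)) = c * g (N.sel x) (ws y)
      rw [← h1]
      rw [hgu _ (hwsW _) _ (N.sel_mem _) _ hsd (by
        rw [N.sel_u, N.u_conj (E.D_t d hd) hdN hdl (N.sel_mem x).1, N.sel_u, hl])]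
      apply hgphi _ hsd _ (hwsW _) _ hwd
      rw [hwsphi, L.phi_conj (hwsW y) hwd (b := c * y)]
      rw [hwsphi, hdl, mul_zero, hl])
    (by
      intro x
      show g (N.sel x) (ws x) = 0
      rw [hgphi _ (N.sel_mem x) _ (hwsW x) _ (N.wt_mem (N.sel_mem x).1) (by
        rw [hwsphi, N.sel_u])]
      apply hgeq _ (N.sel_mem x) _ (N.wt_mem (N.sel_mem x).1)
      rw [N.comm_wt h0 hκ (N.sel_mem x), E.p_zero, one_mul])
  have h1 : g s w = 0 := by
    rw [hgu w hw s hs _ (N.sel_mem (phi E k (wt E s))) (by rw [N.sel_u]),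
      hgphi _ (N.sel_mem _) w hw _ (hwsW (phi E k w)) (by rw [hwsphi])]
    exact halt _ _
  have h2 := hg s hs w hw
  rw [h1, E.p_zero, one_mul] at h2
  exact mul_inv_eq_iff_eq_mul.mp h2

end Nxt

end Cfsg.Agent.StdSz.Tower
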