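import Cfsg.Agent.StdSz.Tower.Base
import Cfsg.Agent.StdSz.FixT

/-!
# The good levels of the tower

`Lvl E k`: `W` homocyclic of exponent `2 ^ k`, inverted by `t`, centralized by `P`;
`S = ⟨t⟩ P W`. Elements normalizing `S` move `t` into `W t`, normalize `P` and `W`.
-/

set_option autoImplicit false
set_option linter.unusedSectionVars false
set_option linter.dupNamespace false

namespace Cfsg.Agent.StdSz.Tower

open Subgroup Cfsg.Agent.StdSz.FormAlg Cfsg.Agent.StdSz.Env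

variable {G : Type*} [Group G] {F : Type*} [Field F] [Fintype F] [CharP F 2] {m : ℕ}

/-- the good levels of the tower -/
structure Lvl (E : Env G F m) (k : ℕ) where
  W : Subgroup G
  ab : Ab E W k
  W_t : ∀ w ∈ W, E.t * w * E.t⁻¹ = w⁻¹
  W_p : ∀ w ∈ W, ∀ a b, w * E.p a b = E.p a b * w

/-- there is an element outside `{0, 1}` -/
theorem exists_ne_zero_one (E : Env G F m) : ∃ c : F, c ≠ 0 ∧ c ≠ 1 := by
  obtain ⟨a, h0, h1, -⟩ := FixT.exists_ne_zero_one (F := F) E.hm E.hF 0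
  exact ⟨a, h0, h1⟩

namespace Lvl

variable {E : Env G F m} {k : ℕ} (L : Lvl E k)

theorem W_t' {w : G} (hw : w ∈ L.W) : E.t * w = w⁻¹ * E.t := by
  rw [← L.W_t w hw]; group

theorem W_t'' {w : G} (hw : w ∈ L.W) : w * E.t = E.t * w⁻¹ := by
  have h := L.W_t' (inv_mem hw)
  rw [inv_inv] at h
  exact h.symm

theorem good : Good E L.W where
  z_mem := L.ab.z_mem
  t_mem := fun w hw => by rw [L.W_t w hw]; exact inv_mem hw
  comm_p := fun w hw a => ⟨0, by rw [E.p_zero, one_mul, L.W_p w hw]⟩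
  p_mem := fun a b hab => by
    have h1 := L.W_t _ hab
    rw [E.t_p, mul_inv_cancel_right] at h1
    have h2 : E.p a b * E.p a b = 1 := by
      nth_rewrite 1 [h1]
      rw [inv_mul_cancel]
    rw [E.p_sq] at h2
    exact (pow_eq_zero_iff (by positivity)).mp (E.z_eq_one h2)
  t_not := fun a w hw he => by
    have h1 : w = (E.p a 0)⁻¹ * E.t := by rw [← he]; group
    have h2 := L.W_t w hw
    have h3 : E.t * w * E.t⁻¹ = w := by
      rw [h1]
      have : E.t * (E.p a 0)⁻¹ = (E.p a 0)⁻¹ * E.t :=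
        ((show Commute E.t (E.p a 0) from E.t_p a 0).inv_right).eq
      calc E.t * ((E.p a 0)⁻¹ * E.t) * E.t⁻¹ = E.t * (E.p a 0)⁻¹ := by group
        _ = _ := this
    rw [h3] at h2
    have h4 : w * w = 1 := by nth_rewrite 1 [h2]; rw [inv_mul_cancel]
    obtain ⟨b, hb⟩ := L.ab.inv w hw h4
    apply E.t_not a (0 + b)
    rw [← he, hb, E.p_mul_z]
  two := L.ab.two
  comm_z := fun w hw b => L.W_p w hw 0 b

/-- `U = P W` -/
def U : Subgroup G := L.good.U

/-- `S = ⟨t⟩ P W` -/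
def S : Subgroup G := L.good.S

theorem mem_U {x : G} : x ∈ L.U ↔ ∃ a, ∃ w ∈ L.W, x = E.p a 0 * w := Iff.rfl

theorem mem_S {x : G} : x ∈ L.S ↔ x ∈ L.U ∨ x * E.t ∈ L.U := Iff.rfl

theorem W_comm_U {w x : G} (hw : w ∈ L.W) (hx : x ∈ L.U) : w * x = x * w := by
  obtain ⟨a, v, hv, rfl⟩ := hx
  have h1 : Commute w (E.p a 0) := L.W_p w hw a 0
  have h2 : Commute w v := L.ab.comm w hw v hv
  exact (h1.mul_right h2).eq

/-- the action of `t` on `U`: `t (p a w) t⁻¹ = p a w⁻¹`. -/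
theorem t_conj_U {a : F} {w : G} (hw : w ∈ L.W) :
    E.t * (E.p a 0 * w) * E.t⁻¹ = E.p a 0 * w⁻¹ := by
  calc E.t * (E.p a 0 * w) * E.t⁻¹ = (E.t * E.p a 0) * w * E.t⁻¹ := by group
    _ = E.p a 0 * (E.t * w * E.t⁻¹) := by rw [E.t_p]; group
    _ = _ := by rw [L.W_t w hw]

/-- `C_U(w t) = P`. -/
theorem mem_P_of_comm {x w : G} (hx : x ∈ L.U) (hw : w ∈ L.W)
    (h : x * (w * E.t) = (w * E.t) * x) : ∃ a b, x = E.p a b := by
  obtain ⟨a, v, hv, rfl⟩ := hx
  have h1 : (w * E.t) * (E.p a 0 * v) * (w * E.t)⁻¹ = E.p a 0 * v⁻¹ := by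
    calc (w * E.t) * (E.p a 0 * v) * (w * E.t)⁻¹ = w * (E.t * (E.p a 0 * v) * E.t⁻¹) * w⁻¹ := by
          group
      _ = w * (E.p a 0 * v⁻¹) * w⁻¹ := by rw [L.t_conj_U hv]
      _ = E.p a 0 * v⁻¹ := by
        rw [L.W_comm_U hw (mul_mem (L.good.p_mem_U a 0) (L.good.W_le_U (inv_mem hv)))]
        group
  rw [← h, mul_inv_cancel_right, mul_right_inj] at h1
  have h2 : v * v = 1 := by nth_rewrite 1 [h1]; rw [inv_mul_cancel]
  obtain ⟨b, rfl⟩ := L.ab.inv v hv h2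
  exact ⟨a, 0 + b, by rw [E.p_mul_z]⟩

theorem not_U_iff {x : G} (hx : x ∈ L.S) (hxU : x ∉ L.U) : ∃ a, ∃ w ∈ L.W,
    x = E.p a 0 * w * E.t := by
  rcases L.mem_S.mp hx with h | h
  · exact absurd h hxU
  · obtain ⟨a, w, hw, he⟩ := h
    refine ⟨a, w, hw, ?_⟩
    rw [← he, mul_assoc, E.t_sq, mul_one]

theorem sq_tU {a : F} {w : G} (hw : w ∈ L.W) :
    (E.p a 0 * w * E.t) * (E.p a 0 * w * E.t) = E.p 0 (a ^ (1 + 2 ^ (m + 1))) := by
  have h1 := L.t_conj_U (a := a) hw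
  have h2 := L.W_p w hw a 0
  calc (E.p a 0 * w * E.t) * (E.p a 0 * w * E.t)
      = E.p a 0 * w * (E.t * (E.p a 0 * w) * E.t⁻¹) * (E.t * E.t) := by group
    _ = E.p a 0 * (w * E.p a 0) * w⁻¹ := by rw [h1, E.t_sq]; group
    _ = E.p a 0 * E.p a 0 := by rw [h2]; group
    _ = _ := E.p_sq a 0

/-- the involutions of `t U` are those of `W t`. -/
theorem exists_of_sq {x : G} (hx : x ∈ L.S) (hxU : x ∉ L.U) (h : x * x = 1) :
    ∃ w ∈ L.W, x = w * E.t := by
  obtain ⟨a, w, hw, rfl⟩ := L.not_U_iff hx hxU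
  rw [L.sq_tU hw] at h
  have := (pow_eq_zero_iff (by positivity)).mp (E.z_eq_one h)
  subst this
  exact ⟨w, hw, by rw [E.p_zero, one_mul]⟩

/-- two elements of order four of `W` with different squares. -/
theorem exists_pair : ∃ w ∈ L.W, ∃ v ∈ L.W, w * w ≠ 1 ∧ v * v ≠ 1 ∧ w * w ≠ v * v := by
  obtain ⟨c, hc0, hc1⟩ := exists_ne_zero_one E
  obtain ⟨w, hw, h1⟩ := L.ab.exists_sq 1
  obtain ⟨v, hv, h2⟩ := L.ab.exists_sq c
  refine ⟨w, hw, v, hv, ?_, ?_, ?_⟩
  · rw [h1]; intro h; exact one_ne_zero (E.z_eq_one h)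
  · rw [h2]; intro h; exact hc0 (E.z_eq_one h)
  · rw [h1, h2]; intro h; exact hc1 (E.z_inj h).symm

variable [Finite G]

/-- `C_S(t) = T`. -/
theorem mem_T_of_comm {x : G} (hx : x ∈ L.S) (h : x * E.t = E.t * x) : x ∈ E.T :=
  E.mem_T_of_comm L.good.two_S L.good.T_le_S hx h

/-- elements of `N(S)` move `t` into `W t`. -/
theorem t_conj {s : G} (hs : s ∈ normalizer (L.S : Set G)) :
    ∃ w ∈ L.W, s * E.t * s⁻¹ = w * E.t := by
  have h1 : s * E.t * s⁻¹ ∈ L.S := (mem_normalizer_iff.mp hs _).mp L.good.t_mem_S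
  have h2 : (s * E.t * s⁻¹) * (s * E.t * s⁻¹) = 1 := by
    calc (s * E.t * s⁻¹) * (s * E.t * s⁻¹) = s * (E.t * E.t) * s⁻¹ := by group
      _ = 1 := by rw [E.t_sq]; group
  apply L.exists_of_sq h1 _ h2
  intro hU
  obtain ⟨w, hw, v, hv, hw1, hv1, hwv⟩ := L.exists_pair
  have key : ∀ x ∈ L.W, s⁻¹ * x * s ∈ E.T := by
    intro x hx
    apply L.mem_T_of_comm
    · have := (mem_normalizer_iff.mp (inv_mem hs) x).mp (L.good.W_le_S hx)
      rwa [inv_inv] at this
    · have h3 := L.W_comm_U hx hU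
      calc s⁻¹ * x * s * E.t = s⁻¹ * (x * (s * E.t * s⁻¹)) * s := by group
        _ = s⁻¹ * ((s * E.t * s⁻¹) * x) * s := by rw [h3]
        _ = E.t * (s⁻¹ * x * s) := by group
  have hsq : ∀ x y : G, s⁻¹ * x * s * (s⁻¹ * y * s) = s⁻¹ * (x * y) * s := by
    intro x y; group
  have hne : ∀ x y : G, s⁻¹ * x * s = s⁻¹ * y * s → x = y := by
    intro x y hxy
    have := congrArg (fun z => s * z * s⁻¹) hxy
    simpa [mul_assoc] using this
  apply hwv
  apply hne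
  rw [← hsq, ← hsq]
  apply T_sq_eq E (key w hw) (key v hv)
  · rw [hsq, hsq, L.ab.comm w hw v hv]
  · rw [hsq]; intro h
    apply hw1; apply hne; rw [h]; group
  · rw [hsq]; intro h
    apply hv1; apply hne; rw [h]; group

/-- elements of `N(S)` normalize `P`. -/
theorem norm_P {s : G} (hs : s ∈ normalizer (L.S : Set G)) (a b : F) :
    ∃ c d, s * E.p a b * s⁻¹ = E.p c d := by
  obtain ⟨w0, hw0, ht⟩ := L.t_conj hs
  have hmem : ∀ x ∈ L.S, s * x * s⁻¹ ∈ L.S := fun x hx => (mem_normalizer_iff.mp hs x).mp hx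
  have hconj : ∀ x y : G, s * x * s⁻¹ * (s * y * s⁻¹) = s * (x * y) * s⁻¹ := by
    intro x y; group
  have hne : ∀ x y : G, s * x * s⁻¹ = s * y * s⁻¹ → x = y := by
    intro x y hxy
    have := congrArg (fun z => s⁻¹ * z * s) hxy
    simpa [mul_assoc] using this
  have hone : ∀ x : G, s * x * s⁻¹ = 1 → x = 1 := by
    intro x hx; apply hne; rw [hx]; group
  have hct : (s * E.p a b * s⁻¹) * (w0 * E.t) = (w0 * E.t) * (s * E.p a b * s⁻¹) := by
    rw [← ht, hconj, hconj, E.t_p]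
  by_cases hU : s * E.p a b * s⁻¹ ∈ L.U
  · exact L.mem_P_of_comm hU hw0 hct
  exfalso
  set v := s * E.p a b * s⁻¹ with hv
  have hvS : v ∈ L.S := hmem _ (L.good.p_mem_S a b)
  -- elements of `s W s⁻¹ ∩ U` are involutions
  have key : ∀ w ∈ L.W, s * w * s⁻¹ ∈ L.U → w * w = 1 := by
    intro w hw hwU
    obtain ⟨c, y, hy, hx⟩ := hwU
    -- `x` is inverted by `w0 t`
    have h1 : (w0 * E.t) * (s * w * s⁻¹) * (w0 * E.t)⁻¹ = (s * w * s⁻¹)⁻¹ := by
      rw [← ht]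
      calc s * E.t * s⁻¹ * (s * w * s⁻¹) * (s * E.t * s⁻¹)⁻¹ = s * (E.t * w * E.t⁻¹) * s⁻¹ := by
            group
        _ = s * w⁻¹ * s⁻¹ := by rw [L.W_t w hw]
        _ = _ := by group
    have hyU : y ∈ L.U := L.good.W_le_U hy
    have h2 : (w0 * E.t) * (s * w * s⁻¹) * (w0 * E.t)⁻¹ = E.p c 0 * y⁻¹ := by
      rw [hx]
      calc (w0 * E.t) * (E.p c 0 * y) * (w0 * E.t)⁻¹ = w0 * (E.t * (E.p c 0 * y) * E.t⁻¹) * w0⁻¹ := by
            group
        _ = w0 * (E.p c 0 * y⁻¹) * w0⁻¹ := by rw [L.t_conj_U hy]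
        _ = E.p c 0 * y⁻¹ := by
          rw [L.W_comm_U hw0 (mul_mem (L.good.p_mem_U c 0) (L.good.W_le_U (inv_mem hy)))]
          group
    rw [h1, hx, mul_inv_rev] at h2
    have h3 : y⁻¹ * (E.p c 0)⁻¹ = (E.p c 0)⁻¹ * y⁻¹ := by
      have : Commute y (E.p c 0) := L.W_p y hy c 0
      exact (this.inv_inv).eq
    rw [h3, mul_left_inj] at h2
    have h4 : E.p c 0 * E.p c 0 = 1 := by nth_rewrite 1 [← h2]; rw [inv_mul_cancel]
    rw [E.p_sq] at h4
    have hc := (pow_eq_zero_iff (by positivity)).mp (E.z_eq_one h4)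
    subst hc
    rw [E.p_zero, one_mul] at hx
    -- `y` commutes with `v`
    have h5 : y * v = v * y := by
      rw [← hx, hv, hconj, hconj, L.W_p w hw]
    obtain ⟨d, z, hz, hvd⟩ := L.not_U_iff hvS hU
    have h6 : v * y * v⁻¹ = y⁻¹ := by
      rw [hvd]
      calc E.p d 0 * z * E.t * y * (E.p d 0 * z * E.t)⁻¹
          = (E.p d 0 * z) * (E.t * y * E.t⁻¹) * (E.p d 0 * z)⁻¹ := by group
        _ = (E.p d 0 * z) * y⁻¹ * (E.p d 0 * z)⁻¹ := by rw [L.W_t y hy]
        _ = y⁻¹ := by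
          rw [← L.W_comm_U (inv_mem hy) ⟨d, z, hz, rfl⟩]; group
    rw [← h5, mul_inv_cancel_right] at h6
    have h7 : y * y = 1 := by nth_rewrite 1 [h6]; rw [inv_mul_cancel]
    apply hone
    rw [← hconj, hx, h7]
  obtain ⟨w, hw, v', hv', hw1, hv1, hwv⟩ := L.exists_pair
  have h1 : s * w * s⁻¹ ∉ L.U := fun h => hw1 (key w hw h)
  have h2 : s * v' * s⁻¹ ∉ L.U := fun h => hv1 (key v' hv' h)
  obtain ⟨a1, w1, hw1', e1⟩ := L.not_U_iff (hmem _ (L.good.W_le_S hw)) h1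
  obtain ⟨a2, w2, hw2', e2⟩ := L.not_U_iff (hmem _ (L.good.W_le_S hv')) h2
  have h3 : s * (w * v') * s⁻¹ ∈ L.U := by
    rw [← hconj, e1, e2]
    have : E.p a1 0 * w1 * E.t * (E.p a2 0 * w2 * E.t) =
        (E.p a1 0 * w1) * (E.t * (E.p a2 0 * w2) * E.t⁻¹) * (E.t * E.t) := by group
    rw [this, E.t_sq, mul_one]
    exact mul_mem ⟨a1, w1, hw1', rfl⟩ (L.good.t_U ⟨a2, w2, hw2', rfl⟩)
  have h4 := key (w * v') (mul_mem hw hv') h3
  apply hwv
  have h5 := L.ab.comm w hw v' hv'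
  have h6 : w * w * (v' * v') = 1 := by
    calc w * w * (v' * v') = w * (w * v') * v' := by group
      _ = w * (v' * w) * v' := by rw [h5]
      _ = (w * v') * (w * v') := by group
      _ = 1 := h4
  -- `v' * v'` is an involution
  have h7 : s * (v' * v') * s⁻¹ ∈ L.U := by
    rw [← hconj]
    exact L.good.sq_S (hmem _ (L.good.W_le_S hv'))
  have h8 := key (v' * v') (mul_mem hv' hv') h7
  calc w * w = w * w * ((v' * v') * (v' * v')) := by rw [h8, mul_one]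
    _ = (w * w * (v' * v')) * (v' * v') := by group
    _ = v' * v' := by rw [h6, one_mul]

/-- elements of `N(S)` normalize `W`. -/
theorem norm_W {s : G} (hs : s ∈ normalizer (L.S : Set G)) {w : G} (hw : w ∈ L.W) :
    s * w * s⁻¹ ∈ L.W := by
  have hs' : s⁻¹ ∈ normalizer (L.S : Set G) := inv_mem hs
  have h1 : s * w * s⁻¹ ∈ L.S := (mem_normalizer_iff.mp hs _).mp (L.good.W_le_S hw)
  -- it commutes with `P`
  have h2 : ∀ a b, (s * w * s⁻¹) * E.p a b = E.p a b * (s * w * s⁻¹) := by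
    intro a b
    obtain ⟨c, d, hcd⟩ := L.norm_P hs' a b
    rw [inv_inv] at hcd
    have h3 := L.W_p w hw c d
    calc s * w * s⁻¹ * E.p a b = s * (w * (s⁻¹ * E.p a b * s)) * s⁻¹ := by group
      _ = s * ((s⁻¹ * E.p a b * s) * w) * s⁻¹ := by rw [hcd, h3]
      _ = _ := by group
  have hbt : ∀ a : F, (∀ c : F, bt m a c = 0) → a = 0 := by
    intro a ha
    by_contra hne
    obtain ⟨c, hc0, hc1⟩ := exists_ne_zero_one E
    rcases bt_eq_zero E.hF (ha (a * c)) with h | h | h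
    · exact hne h
    · exact (mul_ne_zero hne hc0) h
    · exact hc1 (mul_left_cancel₀ hne (by rw [h, mul_one]))
  have h3 : ∀ a, ∀ v ∈ L.W, (∀ c d, (E.p a 0 * v) * E.p c d = E.p c d * (E.p a 0 * v)) →
      a = 0 := by
    intro a v hv h
    apply hbt
    intro c
    have h4 := h c 0
    have h5 := L.W_p v hv c 0
    have h6 : E.p a 0 * E.p c 0 = E.p c 0 * E.p a 0 := by
      have : E.p a 0 * E.p c 0 * v = E.p c 0 * E.p a 0 * v := by
        calc E.p a 0 * E.p c 0 * v = E.p a 0 * (v * E.p c 0) := by rw [h5]; group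
          _ = (E.p a 0 * v) * E.p c 0 := by group
          _ = E.p c 0 * (E.p a 0 * v) := h4
          _ = _ := by group
      exact mul_right_cancel this
    rw [E.p_comm] at h6
    exact E.z_eq_one (mul_eq_right.mp h6)
  by_cases hU : s * w * s⁻¹ ∈ L.U
  · obtain ⟨a, v, hv, he⟩ := hU
    have ha := h3 a v hv (fun c d => by rw [← he]; exact h2 c d)
    subst ha
    rw [he, E.p_zero, one_mul]
    exact hv
  · exfalso
    obtain ⟨a, v, hv, he⟩ := L.not_U_iff h1 hU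
    have ha := h3 a v hv (fun c d => by
      have h4 := h2 c d
      rw [he] at h4
      have h5 := E.t_p c d
      have : (E.p a 0 * v) * E.p c d * E.t = E.p c d * (E.p a 0 * v) * E.t := by
        calc (E.p a 0 * v) * E.p c d * E.t = (E.p a 0 * v) * (E.t * E.p c d) := by
              rw [h5]; group
          _ = (E.p a 0 * v * E.t) * E.p c d := by group
          _ = E.p c d * (E.p a 0 * v * E.t) := h4
          _ = _ := by group
      exact mul_right_cancel this)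
    subst ha
    rw [E.p_zero, one_mul] at he
    -- `w` is an involution, so in `P`
    have h5 : s * (w * w) * s⁻¹ = 1 := by
      calc s * (w * w) * s⁻¹ = (s * w * s⁻¹) * (s * w * s⁻¹) := by group
        _ = v * (E.t * v * E.t⁻¹) * (E.t * E.t) := by rw [he]; group
        _ = 1 := by rw [L.W_t v hv, E.t_sq]; group
    have h6 : w * w = 1 := by
      have := congrArg (fun z => s⁻¹ * z * s) h5
      simpa [mul_assoc] using this
    obtain ⟨b, rfl⟩ := L.ab.inv w hw h6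
    obtain ⟨c, d, hcd⟩ := L.norm_P hs 0 b
    apply hU
    rw [hcd]
    exact L.good.p_mem_U c d

end Lvl

end Cfsg.Agent.StdSz.Tower
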