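import Cfsg.Agent.StdSz.Tower.TwoElt
import Cfsg.Agent.StdSz.NextExists

/-!
# The next level exists
-/

set_option autoImplicit false
set_option linter.unusedSectionVars false
set_option linter.dupNamespace false

namespace Cfsg.Agent.StdSz.Tower

open Subgroup Cfsg.Agent.StdSz.FormAlg Cfsg.Agent.StdSz.Env

variable {G : Type*} [Group G] {F : Type*} [Field F] [Fintype F] [CharP F 2] {m : ℕ}

/-- A Sylow 2-subgroup is transitive on orbits of 2-power length. -/
theorem sylow_transitive [Finite G] (N S : Subgroup G) (hSN : S ≤ N) (hS : IsPGroup 2 S)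
    (hmax : ∀ X : Subgroup G, IsPGroup 2 X → X ≤ N → S ≤ X → X = S) (t : G) (Ω : Set G) (n : ℕ)
    (hcard : Ω.ncard = 2 ^ n) (hΩ : ∀ g ∈ N, g * t * g⁻¹ ∈ Ω) (htr : ∀ x ∈ Ω, ∃ g ∈ N,
      g * t * g⁻¹ = x) : ∀ x ∈ Ω, ∃ s ∈ S, s * t * s⁻¹ = x := by
  classical
  have : Fact (Nat.Prime 2) := ⟨Nat.prime_two⟩
  -- index computations
  have key : ∀ H : Subgroup G, Nat.card H = Nat.card (H ⊓ centralizer {t} : Subgroup G) *
      {x | ∃ g ∈ H, g * t * g⁻¹ = x}.ncard := by
    intro H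
    let act : MulAction H G := MulAction.compHom G (MulAut.conj.comp H.subtype : H →* MulAut G)
    have h1 : MulAction.orbit H t = {x | ∃ g ∈ H, g * t * g⁻¹ = x} := by
      ext x
      constructor
      · rintro ⟨g, rfl⟩
        exact ⟨g, g.2, rfl⟩
      · rintro ⟨g, hg, rfl⟩
        exact ⟨⟨g, hg⟩, rfl⟩
    have h2 : Nat.card (MulAction.stabilizer H t) * (MulAction.stabilizer H t).index =
        Nat.card H := card_mul_index _
    rw [MulAction.index_stabilizer, h1] at h2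
    have h3 : Nat.card (MulAction.stabilizer H t) =
        Nat.card (H ⊓ centralizer {t} : Subgroup G) := by
      apply Nat.card_congr
      refine ⟨fun x => ⟨x.1, x.1.2, ?_⟩, fun x => ⟨⟨x.1, x.2.1⟩, ?_⟩, ?_, ?_⟩
      · have : (x.1 : G) * t * (x.1 : G)⁻¹ = t := x.2
        show _ ∈ centralizer {t}
        rw [mem_centralizer_singleton_iff]
        exact mul_inv_eq_iff_eq_mul.mp this
      · have : (x.1 : G) * t = t * (x.1 : G) := mem_centralizer_singleton_iff.mp x.2.2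
        show (x.1 : G) * t * (x.1 : G)⁻¹ = t
        rw [this, mul_inv_cancel_right]
      · intro x; rfl
      · intro x; rfl
    rw [← h2, h3]
  have hN : {x | ∃ g ∈ N, g * t * g⁻¹ = x} = Ω := by
    ext x
    constructor
    · rintro ⟨g, hg, rfl⟩; exact hΩ g hg
    · intro hx; exact htr x hx
  have hSsub : {x | ∃ g ∈ S, g * t * g⁻¹ = x} ⊆ Ω := by
    rintro x ⟨g, hg, rfl⟩; exact hΩ g (hSN hg)
  have k1 := key N
  have k2 := key S
  rw [hN, hcard] at k1
  -- `S` is a Sylow subgroup of `N`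
  let S1 : Sylow 2 N :=
    { toSubgroup := S.subgroupOf N
      isPGroup' := hS.comap_subtype
      is_maximal' := by
        intro R hR hle
        have h1 : IsPGroup 2 (R.map N.subtype) := hR.map _
        have h2 : S ≤ R.map N.subtype := by
          intro x hx
          exact ⟨⟨x, hSN hx⟩, hle (mem_subgroupOf.mpr hx), rfl⟩
        have h3 : R.map N.subtype ≤ N := by
          rintro _ ⟨x, -, rfl⟩
          exact x.2
        have h4 := hmax _ h1 h3 h2
        apply le_antisymm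
        · intro x hx
          rw [mem_subgroupOf, ← h4]
          exact ⟨x, hx, rfl⟩
        · exact hle }
  have hodd : ¬ 2 ∣ S.relIndex N := S1.not_dvd_index
  have k3 : S.relIndex N * Nat.card S = Nat.card N := by
    have h1 : Nat.card (S.subgroupOf N) * (S.subgroupOf N).index = Nat.card N :=
      card_mul_index _
    have h2 : Nat.card (S.subgroupOf N) = Nat.card S :=
      Nat.card_congr (Subgroup.subgroupOfEquivOfLe hSN).toEquiv
    rw [← h1, h2, mul_comm]
    rfl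
  have hdvd : Nat.card (S ⊓ centralizer {t} : Subgroup G) ∣
      Nat.card (N ⊓ centralizer {t} : Subgroup G) :=
    Subgroup.card_dvd_of_le (inf_le_inf_right _ hSN)
  obtain ⟨j, hj⟩ := hdvd
  have hpos : 0 < Nat.card (S ⊓ centralizer {t} : Subgroup G) := Nat.card_pos
  have k4 : S.relIndex N * {x | ∃ g ∈ S, g * t * g⁻¹ = x}.ncard = j * 2 ^ n := by
    apply Nat.eq_of_mul_eq_mul_left hpos
    calc Nat.card (S ⊓ centralizer {t} : Subgroup G) *
          (S.relIndex N * {x | ∃ g ∈ S, g * t * g⁻¹ = x}.ncard)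
        = S.relIndex N * (Nat.card (S ⊓ centralizer {t} : Subgroup G) *
          {x | ∃ g ∈ S, g * t * g⁻¹ = x}.ncard) := by ring
      _ = Nat.card N := by rw [← k2, k3]
      _ = _ := by rw [k1, hj]; ring
  have k5 : 2 ^ n ∣ {x | ∃ g ∈ S, g * t * g⁻¹ = x}.ncard := by
    have hcop : Nat.Coprime (2 ^ n) (S.relIndex N) :=
      Nat.Coprime.pow_left _ ((Nat.Prime.coprime_iff_not_dvd Nat.prime_two).mpr hodd)
    exact hcop.dvd_of_dvd_mul_left (Dvd.intro_left j k4.symm)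
  have k6 : 0 < {x | ∃ g ∈ S, g * t * g⁻¹ = x}.ncard := by
    rw [Set.ncard_pos]
    exact ⟨t, 1, one_mem _, by rw [one_mul, inv_one, mul_one]⟩
  have k7 : {x | ∃ g ∈ S, g * t * g⁻¹ = x} = Ω := by
    apply Set.eq_of_subset_of_ncard_le hSsub
    rw [hcard]
    exact Nat.le_of_dvd k6 k5
  intro x hx
  rw [← k7] at hx
  exact hx

/-- the next level -/
structure Nxt {E : Env G F m} {k : ℕ} (L : Lvl E k) where
  S' : Subgroup G
  two : IsPGroup 2 S'
  le : L.S ≤ S'
  norm : S' ≤ normalizer (L.S : Set G)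
  trans : ∀ w ∈ L.W, ∃ s ∈ S', s * E.t * s⁻¹ = w * E.t
  full : ∀ l : Fˣ, ∃ g ∈ E.D, g ∈ normalizer (L.S : Set G) ∧ g ∈ normalizer (S' : Set G) ∧
    Acts m E.p g l

namespace Lvl

variable {E : Env G F m} {k : ℕ} (L : Lvl E k)

/-- conjugation of `W t` by `W`. -/
theorem conj_wt {v w : G} (hv : v ∈ L.W) (hw : w ∈ L.W) :
    v * (w * E.t) * v⁻¹ = (w * (v * v)) * E.t := by
  have h1 := L.W_t' (inv_mem hv)
  rw [inv_inv] at h1
  have h2 := L.ab.comm v hv w hw
  calc v * (w * E.t) * v⁻¹ = (v * w) * (E.t * v⁻¹) := by group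
    _ = (w * v) * (v * E.t) := by rw [h1, h2]
    _ = _ := by group

theorem conj_t {v : G} (hv : v ∈ L.W) : v * E.t * v⁻¹ = (v * v) * E.t := by
  have := L.conj_wt hv (one_mem L.W)
  rwa [one_mul, one_mul] at this

/-- torus elements act on `φ` -/
theorem phi_conj {s : G} {w : G} (hw : w ∈ L.W) (hs : s * w * s⁻¹ ∈ L.W) {b : F}
    (hb : s * E.p 0 (phi E k w) * s⁻¹ = E.p 0 b) : phi E k (s * w * s⁻¹) = b := by
  apply L.ab.phi_eq hs
  rw [conj_pow, L.ab.phi_spec hw, hb]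

variable [Finite G]

theorem norm_two {s : G} (hs : s ∈ normalizer (L.S : Set G)) {j : ℕ} (hj : s ^ 2 ^ j = 1) :
    (∀ b, s * E.p 0 b = E.p 0 b * s) ∧ ∀ a b, ∃ d, s * E.p a b * s⁻¹ = E.p a d :=
  two_elt E (L.norm_P hs) hj

theorem exists_next (hD : E.DFull L.S) :
    (∀ R : Subgroup G, IsPGroup 2 R → L.S ≤ R → R = L.S) ∨ Nonempty (Nxt L) := by
  classical
  by_cases hmaxS : ∀ R : Subgroup G, IsPGroup 2 R → L.S ≤ R → R = L.S
  · exact Or.inl hmaxS
  right
  push Not at hmaxS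
  obtain ⟨R, hR, hSR, hne⟩ := hmaxS
  have h3 := NextExists.lt_inf_normalizer hR (lt_of_le_of_ne hSR hne.symm)
  obtain ⟨s, hs, hsS⟩ := SetLike.exists_of_lt h3
  obtain ⟨hsR, hsN⟩ := mem_inf.mp hs
  obtain ⟨w0, hw0, hst⟩ := L.t_conj hsN
  -- `φ w0 ≠ 0`
  have hphi : phi E k w0 ≠ 0 := by
    intro h0
    obtain ⟨v, hv, rfl⟩ := (L.ab.phi_eq_zero hw0).mp h0
    apply hsS
    have h1 : v⁻¹ * s ∈ E.T := by
      apply E.mem_T_of_comm hR (L.good.T_le_S.trans hSR)
        (mul_mem (inv_mem (hSR (L.good.W_le_S hv))) hsR)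
      have h2 := L.conj_t hv
      rw [← hst] at h2
      calc v⁻¹ * s * E.t = v⁻¹ * (s * E.t * s⁻¹) * s := by group
        _ = v⁻¹ * (v * E.t * v⁻¹) * s := by rw [h2]
        _ = E.t * (v⁻¹ * s) := by group
    have h2 := mul_mem (L.good.W_le_S hv) (L.good.T_le_S h1)
    rwa [mul_inv_cancel_left] at h2
  -- transitivity of `N(S)` on `W t`
  have htrN : ∀ w ∈ L.W, ∃ g ∈ normalizer (L.S : Set G), g * E.t * g⁻¹ = w * E.t := by
    -- it is enough to reach the right `φ`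
    have key : ∀ w ∈ L.W, ∀ w1 ∈ L.W, ∀ g ∈ normalizer (L.S : Set G), g * E.t * g⁻¹ = w1 * E.t →
        phi E k w1 = phi E k w → ∃ g ∈ normalizer (L.S : Set G), g * E.t * g⁻¹ = w * E.t := by
      intro w hw w1 hw1 g hg hgt he
      have h4 : phi E k (w1⁻¹ * w) = 0 := by
        rw [L.ab.phi_mul (inv_mem hw1) hw, L.ab.phi_inv hw1, he, FormAlg.add_self]
      obtain ⟨v, hv, hv2⟩ := (L.ab.phi_eq_zero (mul_mem (inv_mem hw1) hw)).mp h4
      refine ⟨v * g, mul_mem (le_normalizer (L.good.W_le_S hv)) hg, ?_⟩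
      calc v * g * E.t * (v * g)⁻¹ = v * (g * E.t * g⁻¹) * v⁻¹ := by group
        _ = (w1 * (v * v)) * E.t := by rw [hgt, L.conj_wt hv hw1]
        _ = w * E.t := by rw [← hv2, mul_inv_cancel_left]
    intro w hw
    by_cases h0 : phi E k w = 0
    · exact key w hw 1 (one_mem _) 1 (one_mem _) (by group) (by rw [L.ab.phi_one, h0])
    · -- choose the torus element
      set c := phi E k w / phi E k w0 with hc
      have hc0 : c ≠ 0 := div_ne_zero h0 hphi
      have hl0 : c ^ (2 ^ (m + 1) - 1) ≠ 0 := pow_ne_zero _ hc0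
      obtain ⟨d, hd, hdN, hdl⟩ := hD (Units.mk0 _ hl0)
      have hdt := E.D_t d hd
      have hdW : d * w0 * d⁻¹ ∈ L.W := L.norm_W hdN hw0
      have hdphi : phi E k (d * w0 * d⁻¹) = phi E k w := by
        apply L.phi_conj hw0 hdW
        rw [hdl 0, mul_zero, Units.val_mk0, SzMaps.norm_surj E.hF, hc, div_mul_cancel₀ _ hphi]
      refine key w hw _ hdW (d * s * d⁻¹) (mul_mem (mul_mem hdN hsN) (inv_mem hdN)) ?_ hdphi
      calc d * s * d⁻¹ * E.t * (d * s * d⁻¹)⁻¹ = d * s * (d⁻¹ * (E.t * d)) * s⁻¹ * d⁻¹ := by group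
        _ = d * (s * E.t * s⁻¹) * d⁻¹ := by rw [← hdt]; group
        _ = d * (w0 * E.t) * d⁻¹ := by rw [hst]
        _ = d * w0 * (E.t * d⁻¹) := by group
        _ = d * w0 * (d⁻¹ * E.t) := by
          rw [((show Commute d E.t from hdt).inv_left).eq]
        _ = d * w0 * d⁻¹ * E.t := by group
  -- a Sylow 2-subgroup of `N(S)`
  have : Fact (Nat.Prime 2) := ⟨Nat.prime_two⟩
  set N := normalizer (L.S : Set G) with hN
  have hSp : IsPGroup 2 (L.S.subgroupOf N) := L.good.two_S.comap_subtype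
  obtain ⟨P1, hP1⟩ := hSp.exists_le_sylow
  let S' : Subgroup G := (P1 : Subgroup N).map N.subtype
  have hS'2 : IsPGroup 2 S' := P1.isPGroup'.map _
  have hS'N : S' ≤ N := by
    rintro _ ⟨x, -, rfl⟩
    exact x.2
  have hle : L.S ≤ S' := by
    intro x hx
    exact ⟨⟨x, le_normalizer hx⟩, hP1 (mem_subgroupOf.mpr hx), rfl⟩
  have hmax : ∀ X : Subgroup G, IsPGroup 2 X → X ≤ N → S' ≤ X → X = S' := by
    intro X hX hXN hSX
    have h4 : X.subgroupOf N = (P1 : Subgroup N) := by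
      apply P1.is_maximal' hX.comap_subtype
      intro x hx
      exact mem_subgroupOf.mpr (hSX ⟨x, hx, rfl⟩)
    apply le_antisymm _ hSX
    intro x hx
    have : (⟨x, hXN hx⟩ : N) ∈ (P1 : Subgroup N) := by
      rw [← h4]; exact mem_subgroupOf.mpr hx
    exact ⟨_, this, rfl⟩
  have hS'el : ∀ x ∈ S', ∃ j : ℕ, x ^ 2 ^ j = 1 := by
    intro x hx
    obtain ⟨j, hj⟩ := hS'2 ⟨x, hx⟩
    exact ⟨j, congrArg Subtype.val hj⟩
  obtain ⟨n, hn⟩ := L.ab.two.exists_card_eq
  have htr : ∀ w ∈ L.W, ∃ s ∈ S', s * E.t * s⁻¹ = w * E.t := by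
    intro w hw
    refine sylow_transitive N S' hS'N hS'2 hmax E.t ((fun w => w * E.t) '' (L.W : Set G)) n ?_ ?_
      ?_ (w * E.t) ⟨w, hw, rfl⟩
    · rw [Set.ncard_image_of_injective _ (mul_left_injective E.t), ← hn]
      rfl
    · intro g hg
      obtain ⟨w, hw, he⟩ := L.t_conj hg
      exact ⟨w, hw, he.symm⟩
    · rintro _ ⟨w, hw, rfl⟩
      exact htrN w hw
  have hfull := E.dFull_of_sylow hS'2 L.good.T_le_S hle hS'N hmax hD
    (by
      intro g hg b
      obtain ⟨c, d, hcd⟩ := L.norm_P hg 0 b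
      have h4 : E.p c d * E.p c d = 1 := by
        rw [← hcd]
        calc g * E.p 0 b * g⁻¹ * (g * E.p 0 b * g⁻¹) = g * (E.p 0 b * E.p 0 b) * g⁻¹ := by group
          _ = 1 := by rw [E.z_self]; group
      rw [E.p_sq] at h4
      have := (pow_eq_zero_iff (by positivity)).mp (E.z_eq_one h4)
      subst this
      exact ⟨d, hcd⟩)
    (by
      rintro g hg ⟨j, hj⟩ b
      exact (L.norm_two hg hj).1 b)
    (by
      intro g hg
      obtain ⟨w, hw, he⟩ := L.t_conj (inv_mem hg)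
      obtain ⟨x, hx, hxe⟩ := htr w hw
      refine ⟨g * x, ?_, x⁻¹, inv_mem hx, by group⟩
      rw [← hxe, inv_inv] at he
      calc g * x * E.t = g * (x * E.t * x⁻¹) * x := by group
        _ = g * (g⁻¹ * E.t * g) * x := by rw [he]
        _ = E.t * (g * x) := by group)
  exact ⟨⟨S', hS'2, hle, hS'N, htr, hfull⟩⟩

end Lvl

end Cfsg.Agent.StdSz.Tower
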