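import Cfsg.Agent.StdSz.Tower.Glue
import Cfsg.Agent.StdSz.Tower.End
import Cfsg.Agent.StdSz.StdA
import Cfsg.Agent.StdSz.CenterEight
import Cfsg.Agent.StdSz.Final

/-!
# The branch `γ = 1`
-/

set_option autoImplicit false
set_option linter.unusedSectionVars false
set_option linter.dupNamespace false

namespace Cfsg.Agent.StdSz.Tower

open Subgroup Cfsg.Agent.StdSz.FormAlg Cfsg.Agent.StdSz.Env Cfsg.Agent.StdSz.LevelOne
open Cfsg.Agent.StdSz.NextLevel Cfsg.Agent.StdSz.Coord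

variable {G : Type*} [Group G] [Finite G] {F : Type*} [Field F] [Fintype F] [CharP F 2]
  {A : Subgroup G} {t : G}

/-- the standard subgroup in the case `q = 8`. -/
theorem std_of_data (D : Final.Data A t F 1) : ExoticData.Std D.E A := by
  apply StdA.exists_std D.C _ D.E_t D.E_p
  have h1 : Group.IsPerfect A := D.C.S.std.1.1
  refine CenterEight.center_eq_bot_of_rel h1 D.C.hZ ?_ D.C.R
  rw [D.C.hF]; norm_num

/-- **The branch `γ = 1`** from the level `k = 2` and the case `κ = 1`. -/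
theorem oneBranch_of {m : ℕ} (D : Final.Data A t F m)
    (h2 : del D.P = 0 → gam D.P = 1 → ∃ L : Lvl D.E 2, L.S = D.P.Q)
    (h1 : ∀ (L : Lvl D.E 2) (N : Nxt L),
      (∀ s ∈ N.W', ∀ v, nu L s v = (phi D.E 2 (wt D.E s) * v) ^ (2 ^ (2 * m))) →
      ∃ O : OutDef.Out G F D.E.t, ∀ a b, D.E.p a b ∈ O.M) : Final.OneBranch D := by
  intro hd hg _
  obtain ⟨L, hL⟩ := h2 hd hg
  have hexo : m = 1 → ∀ (k : ℕ) (L : Lv D.E k 0 1), Full L → ∀ s a x, Mv L s a x → a = 0 := by
    intro hm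
    subst hm
    intro k L hL s a x M
    exact eq_zero_of_std (std_of_data D) L hL M
  rcases tower hexo _ 2 L rfl (by rw [hL]; exact D.Q_full) with
    ⟨k', δ, μ, L', hmax, hfull⟩ | ⟨L2, N, hN⟩
  · exact Or.inr (L'.towerEnd hmax hfull)
  · exact Or.inl (h1 L2 N hN)

end Cfsg.Agent.StdSz.Tower
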