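import Cfsg.Agent.StdSz.Tower.One
import Cfsg.Agent.StdSz.Tower.LevelTwo
import Cfsg.Agent.StdSz.Tower.KappaOne

/-!
# The branch `γ = 1`, final form
-/

set_option autoImplicit false

namespace Cfsg.Agent.StdSz.Tower

variable {G : Type*} [Group G] [Finite G] {F : Type*} [Field F] [Fintype F] [CharP F 2]
  {A : Subgroup G} {t : G}

/-- **The branch `γ = 1`.** -/
theorem oneBranch {m : ℕ} (D : Final.Data A t F m) : Final.OneBranch D := by
  apply oneBranch_of D
  · intro hd hg
    obtain ⟨L, hL, -⟩ := LevelTwo.exists_lvl D.P hd hg D.E D.P_t D.P_p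
    exact ⟨L, hL⟩
  · intro L N hN
    exact KappaOne.out_of_kappa_one N hN

end Cfsg.Agent.StdSz.Tower
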