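import Cfsg.Agent.StdSz.Tower.Kappa

/-!
# The step of the tower
-/

set_option autoImplicit false
set_option linter.unusedSectionVars false
set_option linter.dupNamespace false

namespace Cfsg.Agent.StdSz.Tower

open Subgroup Cfsg.Agent.StdSz.FormAlg Cfsg.Agent.StdSz.Env

variable {G : Type*} [Group G] {F : Type*} [Field F] [Fintype F] [CharP F 2] {m : ℕ}

/-- The levels of the tower: `t` acts on `W` as `w ↦ w⁻¹ p 0 (μ φ(w))`, and
`[w, p a] = p 0 (δ (a φ(w)) ^ (2 ^ m))`. -/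
structure Lv (E : Env G F m) (k : ℕ) (δ μ : F) where
  W : Subgroup G
  ab : Ab E W k
  W_t : ∀ w ∈ W, E.t * w * E.t⁻¹ = E.p 0 (μ * phi E k w) * w⁻¹
  W_p : ∀ w ∈ W, ∀ a b, w * E.p a b * w⁻¹ = E.p a (b + δ * (a * phi E k w) ^ (2 ^ m))
  hk : (δ = 0 ∧ μ = 0) ∨ 3 ≤ k

namespace Lv

variable {E : Env G F m} {k : ℕ} {δ μ : F} (L : Lv E k δ μ)

theorem comm_z {w : G} (hw : w ∈ L.W) (b : F) : w * E.p 0 b = E.p 0 b * w := by
  have h := L.W_p w hw 0 b
  rw [zero_mul, zero_pow (by positivity), mul_zero, add_zero] at h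
  exact mul_inv_eq_iff_eq_mul.mp h

/-- elements of `W` with `w ^ 4 = 1` have `φ w = 0`, or `δ = μ = 0`. -/
theorem phi_of_pow_four {w : G} (hw : w ∈ L.W) (h : w ^ 4 = 1) :
    (δ = 0 ∧ μ = 0) ∨ phi E k w = 0 := by
  rcases L.hk with h0 | h0
  · exact Or.inl h0
  · right
    apply L.ab.phi_eq hw
    obtain ⟨j, rfl⟩ := Nat.exists_eq_add_of_le h0
    have : 2 ^ (3 + j - 1) = 4 * 2 ^ j := by
      have e : 3 + j - 1 = j + 2 := by omega
      rw [e, Nat.pow_add]; ring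
    rw [this, pow_mul, h, one_pow, E.p_zero]

theorem mu_phi {w : G} (hw : w ∈ L.W) (h : w ^ 4 = 1) : μ * phi E k w = 0 := by
  rcases L.phi_of_pow_four hw h with h0 | h0
  · rw [h0.2, zero_mul]
  · rw [h0, mul_zero]

theorem delta_phi {w : G} (hw : w ∈ L.W) (h : w ^ 4 = 1) (a : F) :
    δ * (a * phi E k w) ^ (2 ^ m) = 0 := by
  rcases L.phi_of_pow_four hw h with h0 | h0
  · rw [h0.1, zero_mul]
  · rw [h0, mul_zero, zero_pow (by positivity), mul_zero]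

theorem sq_of_comm_t {w : G} (hw : w ∈ L.W) (h4 : w ^ 4 = 1) (ht : E.t * w = w * E.t) :
    w * w = 1 := by
  have h1 := L.W_t w hw
  rw [ht, mul_inv_cancel_right, L.mu_phi hw h4, E.p_zero, one_mul] at h1
  nth_rewrite 1 [h1]
  rw [inv_mul_cancel]

theorem good : Good E L.W where
  z_mem := L.ab.z_mem
  t_mem := fun w hw => by
    rw [L.W_t w hw]; exact mul_mem (L.ab.z_mem _) (inv_mem hw)
  comm_p := fun w hw a => ⟨δ * (a * phi E k w) ^ (2 ^ m), by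
    have h := L.W_p w hw a 0
    rw [mul_inv_eq_iff_eq_mul] at h
    rw [h, ← mul_assoc, E.z_mul_p]⟩
  p_mem := fun a b hab => by
    have h1 := L.sq_of_comm_t hab (E.T_pow_four (E.p_mem_T a b)) (E.t_p a b)
    rw [E.p_sq] at h1
    exact (pow_eq_zero_iff (by positivity)).mp (E.z_eq_one h1)
  t_not := fun a w hw he => by
    have h1 : w = (E.p a 0)⁻¹ * E.t := by rw [← he]; group
    have hT : w ∈ E.T := by
      rw [h1]; exact mul_mem (inv_mem (E.p_mem_T a 0)) E.t_mem_T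
    have h4 := L.sq_of_comm_t hw (E.T_pow_four hT) (E.T_comm_t hT).symm
    obtain ⟨b, hb⟩ := L.ab.inv w hw h4
    apply E.t_not a (0 + b)
    rw [← he, hb, E.p_mul_z]
  two := L.ab.two
  comm_z := fun w hw b => L.comm_z hw b

/-- `U = P W` -/
def U : Subgroup G := L.good.U

/-- `S = ⟨t⟩ P W` -/
def S : Subgroup G := L.good.S

theorem mem_U {x : G} : x ∈ L.U ↔ ∃ a, ∃ w ∈ L.W, x = E.p a 0 * w := Iff.rfl

theorem mem_S {x : G} : x ∈ L.S ↔ x ∈ L.U ∨ x * E.t ∈ L.U := Iff.rfl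

end Lv

/-- good levels with trivial constants. -/
def Lv.toLvl {E : Env G F m} {k : ℕ} (L : Lv E k 0 0) : Lvl E k where
  W := L.W
  ab := L.ab
  W_t := fun w hw => by rw [L.W_t w hw, zero_mul, E.p_zero, one_mul]
  W_p := fun w hw a b => by
    have h := L.W_p w hw a b
    rw [zero_mul, add_zero] at h
    exact mul_inv_eq_iff_eq_mul.mp h

theorem Lv.toLvl_S {E : Env G F m} {k : ℕ} (L : Lv E k 0 0) : L.toLvl.S = L.S := by
  ext x
  exact Iff.rfl

/-- good levels are levels. -/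
def Lvl.toLv {E : Env G F m} {k : ℕ} (L : Lvl E k) : Lv E k 0 0 where
  W := L.W
  ab := L.ab
  W_t := fun w hw => by rw [L.W_t w hw, zero_mul, E.p_zero, one_mul]
  W_p := fun w hw a b => by
    rw [L.W_p w hw a b, zero_mul, add_zero, mul_inv_cancel_right]
  hk := Or.inl ⟨rfl, rfl⟩

theorem Lvl.toLv_S {E : Env G F m} {k : ℕ} (L : Lvl E k) : L.toLv.S = L.S := by
  ext x
  exact Iff.rfl

namespace Nxt

variable {E : Env G F m} {k : ℕ} {L : Lvl E k} (N : Nxt L) [Finite G]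

include N

/-- `κ = 0`: `W'` is abelian. -/
theorem comm_W' {κ : F} (h0 : κ = 0)
    (hκ : ∀ s ∈ N.W', ∀ v, nu L s v = κ * (phi E k (wt E s) * v) ^ (2 ^ (2 * m)))
    {s r : G} (hs : s ∈ N.W') (hr : r ∈ N.W') : s * r = r * s := by
  have hcW : ∀ s ∈ N.W', ∀ w ∈ L.W, s * w = w * s := fun s hs w hw => N.comm_W h0 hκ hs hw
  have hz : ∀ s ∈ N.W', ∀ r ∈ N.W', ∃ b, s * r * s⁻¹ * r⁻¹ = E.p 0 b := by
    intro s hs r hr
    have hc := N.comm_mem_W hs.1 hr.1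
    apply L.ab.inv _ hc
    obtain ⟨c, hcdef⟩ : ∃ c, c = s * r * s⁻¹ * r⁻¹ := ⟨_, rfl⟩
    rw [← hcdef] at hc ⊢
    have h1 : s * r * s⁻¹ = c * r := by rw [hcdef]; group
    have h2 : (s * s) * r * (s * s)⁻¹ = c * c * r := by
      calc (s * s) * r * (s * s)⁻¹ = s * (s * r * s⁻¹) * s⁻¹ := by group
        _ = s * c * r * s⁻¹ := by rw [h1]; group
        _ = c * (s * r * s⁻¹) := by rw [hcW s hs c hc]; group
        _ = c * c * r := by rw [h1, ← mul_assoc]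
    rw [← hcW r hr _ (N.sq_mem_W hs.1), mul_inv_cancel_right] at h2
    exact (mul_eq_right.mp h2.symm)
  let g : G → G → F := fun s r => zc E (s * r * s⁻¹ * r⁻¹)
  have hg : ∀ s ∈ N.W', ∀ r ∈ N.W', s * r * s⁻¹ = E.p 0 (g s r) * r := by
    intro s hs r hr
    have h1 := zc_spec E (hz s hs r hr)
    show s * r * s⁻¹ = E.p 0 (zc E (s * r * s⁻¹ * r⁻¹)) * r
    rw [← h1]; group
  have hgeq : ∀ s ∈ N.W', ∀ r ∈ N.W', ∀ b, s * r * s⁻¹ = E.p 0 b * r → g s r = b := by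
    intro s hs w hw b hb
    rw [hg s hs w hw, mul_left_inj] at hb
    exact E.z_inj hb
  have hgmul : ∀ w ∈ N.W', ∀ s ∈ N.W', ∀ r ∈ N.W', g (s * r) w = g s w + g r w := by
    intro w hw s hs r hr
    apply hgeq _ (mul_mem hs hr) _ hw
    calc s * r * w * (s * r)⁻¹ = s * (r * w * r⁻¹) * s⁻¹ := by group
      _ = (s * E.p 0 (g r w) * s⁻¹) * (s * w * s⁻¹) := by rw [hg r hr w hw]; group
      _ = E.p 0 (g r w) * (E.p 0 (g s w) * w) := by
        rw [N.comm_z hs.1, mul_inv_cancel_right, hg s hs w hw]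
      _ = _ := by rw [← mul_assoc, E.z_mul, add_comm]
  have hgmul' : ∀ s ∈ N.W', ∀ w ∈ N.W', ∀ v ∈ N.W', g s (w * v) = g s w + g s v := by
    intro s hs w hw v hv
    apply hgeq _ hs _ (mul_mem hw hv)
    calc s * (w * v) * s⁻¹ = (s * w * s⁻¹) * (s * v * s⁻¹) := by group
      _ = E.p 0 (g s w) * (w * E.p 0 (g s v)) * v := by
        rw [hg s hs w hw, hg s hs v hv]; group
      _ = E.p 0 (g s w) * (E.p 0 (g s v) * w) * v := by rw [N.comm_z hw.1]
      _ = E.p 0 (g s w) * E.p 0 (g s v) * (w * v) := by group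
      _ = _ := by rw [E.z_mul]
  have hgW : ∀ s ∈ L.W, ∀ w ∈ N.W', g s w = 0 := by
    intro s hs w hw
    apply hgeq _ (N.W_le_W' hs) _ hw
    rw [← hcW w hw s hs, mul_inv_cancel_right, E.p_zero, one_mul]
  have hgW' : ∀ s ∈ N.W', ∀ w ∈ L.W, g s w = 0 := by
    intro s hs w hw
    apply hgeq _ hs _ (N.W_le_W' hw)
    rw [hcW s hs w hw, mul_inv_cancel_right, E.p_zero, one_mul]
  have hgu : ∀ w ∈ N.W', ∀ s ∈ N.W', ∀ r ∈ N.W', phi E k (wt E s) = phi E k (wt E r) →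
      g s w = g r w := by
    intro w hw s hs r hr h
    exact N.eq_of_u (f := fun s => g s w) (hgmul w hw) (fun v hv => hgW v hv w hw) hs hr h
  have hgu' : ∀ w ∈ N.W', ∀ s ∈ N.W', ∀ r ∈ N.W', phi E k (wt E s) = phi E k (wt E r) →
      g w s = g w r := by
    intro w hw s hs r hr h
    exact N.eq_of_u (f := fun s => g w s) (hgmul' w hw) (fun v hv => hgW' w hw v hv) hs hr h
  have halt := SzMaps.alternating_same (n := 2 * m + 1) (by have := E.hm; omega) E.hF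
    (fun x y => g (N.sel x) (N.sel y))
    (by
      intro x x' y
      rw [← hgmul _ (N.sel_mem y) _ (N.sel_mem x) _ (N.sel_mem x')]
      apply hgu _ (N.sel_mem y) _ (N.sel_mem _) _ (mul_mem (N.sel_mem x) (N.sel_mem x'))
      rw [N.sel_u, N.u_mul (N.sel_mem x).1 (N.sel_mem x').1, N.sel_u, N.sel_u])
    (by
      intro x y y'
      rw [← hgmul' _ (N.sel_mem x) _ (N.sel_mem y) _ (N.sel_mem y')]
      apply hgu' _ (N.sel_mem x) _ (N.sel_mem _) _ (mul_mem (N.sel_mem y) (N.sel_mem y'))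
      rw [N.sel_u, N.u_mul (N.sel_mem y).1 (N.sel_mem y').1, N.sel_u, N.sel_u])
    (by
      intro c x y hc
      obtain ⟨l, hl⟩ := exists_norm E hc
      obtain ⟨d, hd, hdN, hdN', hdl⟩ := N.full l
      have hxd := N.W'_conj hdN hdN' hdl (N.sel_mem x)
      have hyd := N.W'_conj hdN hdN' hdl (N.sel_mem y)
      have h1 : g (d * N.sel x * d⁻¹) (d * N.sel y * d⁻¹) = c * g (N.sel x) (N.sel y) := by
        apply hgeq _ hxd _ hyd
        calc d * N.sel x * d⁻¹ * (d * N.sel y * d⁻¹) * (d * N.sel x * d⁻¹)⁻¹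
            = d * (N.sel x * N.sel y * (N.sel x)⁻¹) * d⁻¹ := by group
          _ = (d * E.p 0 (g (N.sel x) (N.sel y)) * d⁻¹) * (d * N.sel y * d⁻¹) := by
            rw [hg _ (N.sel_mem x) _ (N.sel_mem y)]; group
          _ = _ := by rw [hdl, mul_zero, hl]
      show g (N.sel (c * x)) (N.sel (c * y)) = c * g (N.sel x) (N.sel y)
      rw [← h1]
      rw [hgu _ (N.sel_mem _) _ (N.sel_mem _) _ hxd (by
        rw [N.sel_u, N.u_conj (E.D_t d hd) hdN hdl (N.sel_mem x).1, N.sel_u, hl])]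
      apply hgu' _ hxd _ (N.sel_mem _) _ hyd
      rw [N.sel_u, N.u_conj (E.D_t d hd) hdN hdl (N.sel_mem y).1, N.sel_u, hl])
    (by
      intro x
      show g (N.sel x) (N.sel x) = 0
      apply hgeq _ (N.sel_mem x) _ (N.sel_mem x)
      rw [mul_inv_cancel_right, E.p_zero, one_mul])
  have h1 : g s r = 0 := by
    rw [hgu r hr s hs _ (N.sel_mem (phi E k (wt E s))) (by rw [N.sel_u]),
      hgu' _ (N.sel_mem _) r hr _ (N.sel_mem (phi E k (wt E r))) (by rw [N.sel_u])]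
    exact halt _ _
  have h2 := hg s hs r hr
  rw [h1, E.p_zero, one_mul] at h2
  exact mul_inv_eq_iff_eq_mul.mp h2

/-- `κ = 0`: the constant `μ`. -/
theorem exists_mu {κ : F} (h0 : κ = 0)
    (hκ : ∀ s ∈ N.W', ∀ v, nu L s v = κ * (phi E k (wt E s) * v) ^ (2 ^ (2 * m))) :
    ∃ μ : F, ∀ s ∈ N.W', s * s = E.p 0 (μ * phi E k (wt E s)) * wt E s := by
  have hz : ∀ s ∈ N.W', ∃ b, s * s = E.p 0 b * wt E s := by
    intro s hs
    apply L.ab.eq_mul_of_sq_eq (N.sq_mem_W hs.1) (N.wt_mem hs.1)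
    rw [N.sq_sq hs.1, N.comm_wt h0 hκ hs]
  let f : G → F := fun s => zc E (s * s * (wt E s)⁻¹)
  have hf : ∀ s ∈ N.W', s * s = E.p 0 (f s) * wt E s := by
    intro s hs
    obtain ⟨b, hb⟩ := hz s hs
    have : f s = b := by
      show zc E (s * s * (wt E s)⁻¹) = b
      rw [hb, mul_inv_cancel_right, zc_p]
    rw [this, hb]
  have hfeq : ∀ s ∈ N.W', ∀ b, s * s = E.p 0 b * wt E s → f s = b := by
    intro s hs b hb
    rw [hf s hs, mul_left_inj] at hb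
    exact E.z_inj hb
  have hfmul : ∀ s ∈ N.W', ∀ r ∈ N.W', f (s * r) = f s + f r := by
    intro s hs r hr
    apply hfeq _ (mul_mem hs hr)
    have h1 := N.comm_W' h0 hκ hs hr
    have h2 := N.comm_W h0 hκ hs (N.wt_mem hr.1)
    have h3 : wt E (s * r) = wt E s * wt E r := by
      rw [wt_mul, h2, mul_inv_cancel_right, L.ab.comm _ (N.wt_mem hr.1) _ (N.wt_mem hs.1)]
    calc s * r * (s * r) = s * (r * s) * r := by group
      _ = (s * s) * (r * r) := by rw [← h1]; group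
      _ = E.p 0 (f s) * (wt E s * E.p 0 (f r)) * wt E r := by rw [hf s hs, hf r hr]; group
      _ = E.p 0 (f s) * E.p 0 (f r) * (wt E s * wt E r) := by
        rw [L.W_p _ (N.wt_mem hs.1)]; group
      _ = _ := by rw [E.z_mul, h3]
  have hfW : ∀ w ∈ L.W, f w = 0 := by
    intro w hw
    apply hfeq _ (N.W_le_W' hw)
    have h1 := L.conj_t hw
    rw [wt_t, mul_left_inj] at h1
    rw [h1, E.p_zero, one_mul]
  have hfu : ∀ s ∈ N.W', ∀ r ∈ N.W', phi E k (wt E s) = phi E k (wt E r) → f s = f r :=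
    fun s hs r hr h => N.eq_of_u hfmul hfW hs hr h
  refine ⟨f (N.sel 1), fun s hs => ?_⟩
  have key : f s = f (N.sel 1) * phi E k (wt E s) := by
    by_cases hu : phi E k (wt E s) = 0
    · rw [hu, mul_zero]
      exact hfW s (N.W'_u hs hu)
    · obtain ⟨l, hl⟩ := exists_norm E hu
      obtain ⟨d, hd, hdN, hdN', hdl⟩ := N.full l
      have hxd := N.W'_conj hdN hdN' hdl (N.sel_mem 1)
      have h1 : f (d * N.sel 1 * d⁻¹) = phi E k (wt E s) * f (N.sel 1) := by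
        apply hfeq _ hxd
        rw [N.conj_wt' (E.D_t d hd)]
        calc d * N.sel 1 * d⁻¹ * (d * N.sel 1 * d⁻¹) = d * (N.sel 1 * N.sel 1) * d⁻¹ := by group
          _ = (d * E.p 0 (f (N.sel 1)) * d⁻¹) * (d * wt E (N.sel 1) * d⁻¹) := by
            rw [hf _ (N.sel_mem 1)]; group
          _ = _ := by rw [hdl, mul_zero, hl]
      rw [mul_comm, ← h1]
      apply hfu s hs _ hxd
      rw [N.u_conj (E.D_t d hd) hdN hdl (N.sel_mem 1).1, N.sel_u, hl, mul_one]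
  rw [← key]
  exact hf s hs

end Nxt

namespace Nxt

variable {E : Env G F m} {k : ℕ} {L : Lvl E k} (N : Nxt L) [Finite G]

theorem phi_next {μ : F}
    (hμ : ∀ s ∈ N.W', s * s = E.p 0 (μ * phi E k (wt E s)) * wt E s) {s : G} (hs : s ∈ N.W') :
    s ^ 2 ^ k = E.p 0 (phi E k (wt E s)) := by
  have hk := L.ab.hk
  have e : 2 ^ k = 2 * 2 ^ (k - 1) := by
    rw [← pow_succ']; congr 1; omega
  rw [e, pow_mul, pow_two, hμ s hs,
    L.ab.phi_spec (mul_mem (L.ab.z_mem _) (N.wt_mem hs.1)),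
    L.ab.phi_mul (L.ab.z_mem _) (N.wt_mem hs.1), L.ab.phi_p, zero_add]

theorem ab_next {κ μ : F} (h0 : κ = 0)
    (hκ : ∀ s ∈ N.W', ∀ v, nu L s v = κ * (phi E k (wt E s) * v) ^ (2 ^ (2 * m)))
    (hμ : ∀ s ∈ N.W', s * s = E.p 0 (μ * phi E k (wt E s)) * wt E s) :
    Ab E N.W' (k + 1) where
  hk := by have := L.ab.hk; omega
  comm := fun x hx y hy => N.comm_W' h0 hκ hx hy
  z_mem := fun b => N.W_le_W' (L.ab.z_mem b)
  inv := fun w hw h => by
    apply L.ab.inv w _ h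
    apply N.W'_u hw
    have h1 := hμ w hw
    rw [h] at h1
    have h2 : wt E w = (E.p 0 (μ * phi E k (wt E w)))⁻¹ := eq_inv_of_mul_eq_one_right h1.symm
    rw [E.z_inv] at h2
    rw [h2, L.ab.phi_p]
  pow := fun w hw => by
    rw [pow_succ', pow_mul, pow_two]
    exact L.ab.pow _ (N.sq_mem_W hw.1)
  surj := fun b => by
    obtain ⟨s, hs, hb⟩ := N.u_surj' b
    exact ⟨s, hs, by rw [Nat.add_sub_cancel, N.phi_next hμ hs, hb]⟩

theorem phi_next' {κ μ : F} (h0 : κ = 0)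
    (hκ : ∀ s ∈ N.W', ∀ v, nu L s v = κ * (phi E k (wt E s) * v) ^ (2 ^ (2 * m)))
    (hμ : ∀ s ∈ N.W', s * s = E.p 0 (μ * phi E k (wt E s)) * wt E s) {s : G} (hs : s ∈ N.W') :
    phi E (k + 1) s = phi E k (wt E s) := by
  apply (N.ab_next h0 hκ hμ).phi_eq hs
  rw [Nat.add_sub_cancel, N.phi_next hμ hs]

/-- the next level. -/
noncomputable def next {κ μ δ : F} (h0 : κ = 0)
    (hκ : ∀ s ∈ N.W', ∀ v, nu L s v = κ * (phi E k (wt E s) * v) ^ (2 ^ (2 * m)))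
    (hμ : ∀ s ∈ N.W', s * s = E.p 0 (μ * phi E k (wt E s)) * wt E s)
    (hδ : ∀ s ∈ N.W', ∀ a, eta E s a = δ * (a * phi E k (wt E s)) ^ (2 ^ m)) :
    Lv E (k + 1) δ μ where
  W := N.W'
  ab := N.ab_next h0 hκ hμ
  W_t := fun w hw => by
    rw [N.phi_next' h0 hκ hμ hw, N.t_conj_s]
    have h1 := hμ w hw
    have h2 : wt E w = E.p 0 (μ * phi E k (wt E w)) * (w * w) := by
      rw [h1, ← mul_assoc, E.z_self, one_mul]
    have h3 : (wt E w)⁻¹ = (w * w)⁻¹ * E.p 0 (μ * phi E k (wt E w)) := by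
      nth_rewrite 1 [h2]
      rw [mul_inv_rev, E.z_inv]
    have h4 := N.comm_z (inv_mem hw.1) (μ * phi E k (wt E w))
    calc (wt E w)⁻¹ * w = w⁻¹ * (w⁻¹ * E.p 0 (μ * phi E k (wt E w))) * w := by rw [h3]; group
      _ = (w⁻¹ * E.p 0 (μ * phi E k (wt E w))) * (w⁻¹ * w) := by nth_rewrite 1 [h4]; group
      _ = _ := by rw [inv_mul_cancel, mul_one, h4]
  W_p := fun w hw a b => by
    rw [N.eta_spec hw.1, hδ w hw, N.phi_next' h0 hκ hμ hw]
  hk := Or.inr (by have := L.ab.hk; omega)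

theorem next_W {κ μ δ : F} (h0 : κ = 0)
    (hκ : ∀ s ∈ N.W', ∀ v, nu L s v = κ * (phi E k (wt E s) * v) ^ (2 ^ (2 * m)))
    (hμ : ∀ s ∈ N.W', s * s = E.p 0 (μ * phi E k (wt E s)) * wt E s)
    (hδ : ∀ s ∈ N.W', ∀ a, eta E s a = δ * (a * phi E k (wt E s)) ^ (2 ^ m)) :
    (N.next h0 hκ hμ hδ).W = N.W' := rfl

theorem next_S {κ μ δ : F} (h0 : κ = 0)
    (hκ : ∀ s ∈ N.W', ∀ v, nu L s v = κ * (phi E k (wt E s) * v) ^ (2 ^ (2 * m)))
    (hμ : ∀ s ∈ N.W', s * s = E.p 0 (μ * phi E k (wt E s)) * wt E s)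
    (hδ : ∀ s ∈ N.W', ∀ a, eta E s a = δ * (a * phi E k (wt E s)) ^ (2 ^ m)) :
    (N.next h0 hκ hμ hδ).S = N.S' := by
  have hU : ∀ x ∈ (N.next h0 hκ hμ hδ).U, x ∈ N.S' := by
    rintro x ⟨a, w, hw, rfl⟩
    exact mul_mem (N.p_mem a 0) (N.W'_le hw)
  apply le_antisymm
  · intro x hx
    rcases (Lv.mem_S _).mp hx with h | h
    · exact hU x h
    · have := mul_mem (hU _ h) N.t_mem
      rwa [mul_assoc, E.t_sq, mul_one] at this
  · intro x hx
    obtain ⟨a, w, hw, h | h⟩ := N.exists_dec hx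
    · exact Or.inl ⟨a, w, hw, h⟩
    · exact Or.inr ⟨a, w, hw, by rw [h, mul_assoc, E.t_sq, mul_one]⟩

theorem dFull : E.DFull N.S' := by
  intro l
  obtain ⟨d, hd, -, hdN', hdl⟩ := N.full l
  exact ⟨d, hd, hdN', hdl⟩

end Nxt

/-- The step of the tower. -/
theorem step [Finite G] {E : Env G F m} {k : ℕ} {L : Lvl E k} (N : Nxt L) :
    (∃ δ μ : F, ∃ L' : Lv E (k + 1) δ μ, L'.S = N.S' ∧ L'.W = N.W') ∨
    (k = 2 ∧ ∀ s ∈ N.W', ∀ v, nu L s v = (phi E k (wt E s) * v) ^ (2 ^ (2 * m))) := by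
  obtain ⟨κ, hκ⟩ := N.exists_kappa
  obtain ⟨δ, hδ⟩ := N.exists_delta
  have h01 : κ = 0 ∨ (k = 2 ∧ κ = 1) := by
    rcases Nat.lt_or_ge k 3 with hk | hk
    · have hk2 : k = 2 := by have := L.ab.hk; omega
      rcases N.kappa_cases hk2 hκ with h | h
      · exact Or.inl h
      · exact Or.inr ⟨hk2, h⟩
    · exact Or.inl (N.kappa_zero hk hκ)
  rcases h01 with h0 | ⟨hk2, h1⟩
  · left
    obtain ⟨μ, hμ⟩ := N.exists_mu h0 hκ
    exact ⟨δ, μ, N.next h0 hκ hμ hδ, N.next_S h0 hκ hμ hδ, rfl⟩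
  · right
    refine ⟨hk2, fun s hs v => ?_⟩
    rw [hκ s hs v, h1, one_mul]

end Cfsg.Agent.StdSz.Tower
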