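import Cfsg.Agent.StdSz.Tower.Lvl

/-!
# 2-elements normalizing `P` centralize `P / Z` and `Z`
-/

set_option autoImplicit false
set_option linter.unusedSectionVars false
set_option linter.dupNamespace false

namespace Cfsg.Agent.StdSz.Tower

open Subgroup Cfsg.Agent.StdSz.FormAlg Cfsg.Agent.StdSz.Env

variable {G : Type*} [Group G] {F : Type*} [Field F] [Fintype F] [CharP F 2] {m : ℕ}

/-- the maps induced by an element normalizing `P` -/
theorem exists_maps (E : Env G F m) {s : G} (h : ∀ a b, ∃ c d, s * E.p a b * s⁻¹ = E.p c d) :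
    ∃ A B : F → F, (∀ a b, ∃ d, s * E.p a b * s⁻¹ = E.p (A a) d) ∧
      (∀ b, s * E.p 0 b * s⁻¹ = E.p 0 (B b)) ∧ (∀ x y, B (x + y) = B x + B y) ∧
      (∀ x y, A (x + y) = A x + A y) ∧
      (∀ x, (A x) ^ (1 + 2 ^ (m + 1)) = B (x ^ (1 + 2 ^ (m + 1)))) ∧
      (∀ x y, bt m (A x) (A y) = B (bt m x y)) := by
  choose C D hCD using h
  have hconj : ∀ x y : G, s * x * s⁻¹ * (s * y * s⁻¹) = s * (x * y) * s⁻¹ := by
    intro x y; group
  have h0 : ∀ b, C 0 b = 0 := by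
    intro b
    have h1 := hconj (E.p 0 b) (E.p 0 b)
    rw [E.z_self, mul_one, mul_inv_cancel, hCD, E.p_sq] at h1
    exact (pow_eq_zero_iff (by positivity)).mp (E.z_eq_one h1)
  have hB : ∀ b, s * E.p 0 b * s⁻¹ = E.p 0 (D 0 b) := by
    intro b
    rw [hCD, h0]
  have hA : ∀ a b, s * E.p a b * s⁻¹ = E.p (C a 0) (D a 0 + D 0 b) := by
    intro a b
    have h1 := hconj (E.p a 0) (E.p 0 b)
    rw [E.p_mul_z, zero_add] at h1
    rw [← h1, hCD, hB, E.p_mul_z]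
  have hBadd : ∀ x y, D 0 (x + y) = D 0 x + D 0 y := by
    intro x y
    have h1 := hconj (E.p 0 x) (E.p 0 y)
    rw [E.z_mul, hB, hB, hB, E.z_mul] at h1
    exact (E.z_inj h1).symm
  refine ⟨fun a => C a 0, fun b => D 0 b, fun a b => ⟨_, hA a b⟩, hB, hBadd, ?_, ?_, ?_⟩
  · intro x y
    have h1 := hconj (E.p x 0) (E.p y 0)
    rw [E.p_mul, hA x 0, hA y 0, hA (x + y), E.p_mul] at h1
    exact ((E.p_inj _ _ _ _ h1).1).symm
  · intro x
    have h1 := hconj (E.p x 0) (E.p x 0)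
    rw [E.p_sq, hA, E.p_sq, hB] at h1
    exact E.z_inj h1
  · intro x y
    have h1 : s * (E.p x 0 * E.p y 0) * s⁻¹ =
        s * (E.p 0 (bt m x y) * (E.p y 0 * E.p x 0)) * s⁻¹ := by rw [E.p_comm]
    rw [← hconj, ← hconj (E.p 0 _), ← hconj, hA, hA, hB, E.p_comm] at h1
    exact E.z_inj (mul_right_cancel h1)

/-- A 2-element normalizing `P` centralizes `Z` and `P / Z`. -/
theorem two_elt (E : Env G F m) {s : G} (h : ∀ a b, ∃ c d, s * E.p a b * s⁻¹ = E.p c d) {k : ℕ}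
    (hk : s ^ 2 ^ k = 1) :
    (∀ b, s * E.p 0 b = E.p 0 b * s) ∧ ∀ a b, ∃ d, s * E.p a b * s⁻¹ = E.p a d := by
  obtain ⟨A, B, hA, hB, hBadd, -, hN, hbt⟩ := exists_maps E h
  have hit : ∀ n b, s ^ n * E.p 0 b * (s ^ n)⁻¹ = E.p 0 (B^[n] b) := by
    intro n b
    induction n with
    | zero => simp
    | succ n ih =>
      rw [Function.iterate_succ_apply', ← hB, ← ih, pow_succ']
      group
  have hk' : ∀ x, B^[2 ^ k] x = x := by
    intro x
    have h1 := hit (2 ^ k) x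
    rw [hk, one_mul, inv_one, mul_one] at h1
    exact (E.z_inj h1).symm
  obtain ⟨h1, h2⟩ := Hyperplane.eq_id_form E.hF A B hBadd hN hbt k hk'
  refine ⟨fun b => ?_, fun a b => ?_⟩
  · have h3 := hB b
    rw [h2, mul_inv_eq_iff_eq_mul] at h3
    exact h3
  · obtain ⟨d, hd⟩ := hA a b
    exact ⟨d, by rw [hd, h1]⟩

end Cfsg.Agent.StdSz.Tower
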